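import Cfsg.Agent.Lib.Helper27.Co1O.Defs

/-! # S2069: sliced kernel computations (candidates for the centraliser of a) -/

set_option autoImplicit false
set_option maxRecDepth 100000
set_option Elab.async false

namespace Cfsg.Agent.Lib.Helper27.Co1O

open Cfsg.Agent.Lib.Helper28.BSGS Cfsg.Agent.Lib.Helper22.SuzOut Cfsg.Agent.Lib.Helper27.TreeSift Cfsg.Agent.Lib.Helper27.Big

theorem tA_c40 : rangeAll candA 9879 242 = true := by decide +kernel

theorem tA_c41 : rangeAll candA 10121 212 = true := by decide +kernel

theorem tA_c42 : rangeAll candA 10333 235 = true := by decide +kernel

theorem tA_c43 : rangeAll candA 10568 219 = true := by decide +kernel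

theorem tA_c44 : rangeAll candA 10787 250 = true := by decide +kernel

theorem tA_c45 : rangeAll candA 11037 239 = true := by decide +kernel

theorem tA_c46 : rangeAll candA 11276 242 = true := by decide +kernel

theorem tA_c47 : rangeAll candA 11518 225 = true := by decide +kernel

theorem tA_c48 : rangeAll candA 11743 242 = true := by decide +kernel

theorem tA_c49 : rangeAll candA 11985 236 = true := by decide +kernel

theorem tA_c50 : rangeAll candA 12221 241 = true := by decide +kernel

theorem tA_c51 : rangeAll candA 12462 239 = true := by decide +kernel

theorem tA_c52 : rangeAll candA 12701 234 = true := by decide +kernel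

theorem tA_c53 : rangeAll candA 12935 239 = true := by decide +kernel

theorem tA_c54 : rangeAll candA 13174 221 = true := by decide +kernel

theorem tA_c55 : rangeAll candA 13395 239 = true := by decide +kernel

theorem tA_c56 : rangeAll candA 13634 236 = true := by decide +kernel

theorem tA_c57 : rangeAll candA 13870 240 = true := by decide +kernel

theorem tA_c58 : rangeAll candA 14110 242 = true := by decide +kernel

theorem tA_c59 : rangeAll candA 14352 261 = true := by decide +kernel

theorem tA_c60 : rangeAll candA 14613 248 = true := by decide +kernel

theorem tA_c61 : rangeAll candA 14861 239 = true := by decide +kernel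

theorem tA_c62 : rangeAll candA 15100 259 = true := by decide +kernel

theorem tA_c63 : rangeAll candA 15359 241 = true := by decide +kernel

theorem tA_c64 : rangeAll candA 15600 239 = true := by decide +kernel

theorem tA_c65 : rangeAll candA 15839 260 = true := by decide +kernel

theorem tA_c66 : rangeAll candA 16099 243 = true := by decide +kernel

theorem tA_c67 : rangeAll candA 16342 240 = true := by decide +kernel

theorem tA_c68 : rangeAll candA 16582 247 = true := by decide +kernel

theorem tA_c69 : rangeAll candA 16829 241 = true := by decide +kernel

theorem tA_c70 : rangeAll candA 17070 248 = true := by decide +kernel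

theorem tA_c71 : rangeAll candA 17318 237 = true := by decide +kernel

theorem tA_c72 : rangeAll candA 17555 250 = true := by decide +kernel

theorem tA_c73 : rangeAll candA 17805 248 = true := by decide +kernel

theorem tA_c74 : rangeAll candA 18053 261 = true := by decide +kernel

theorem tA_c75 : rangeAll candA 18314 257 = true := by decide +kernel

theorem tA_c76 : rangeAll candA 18571 258 = true := by decide +kernel

theorem tA_c77 : rangeAll candA 18829 258 = true := by decide +kernel

theorem tA_c78 : rangeAll candA 19087 238 = true := by decide +kernel

theorem tA_c79 : rangeAll candA 19325 255 = true := by decide +kernel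

end Cfsg.Agent.Lib.Helper27.Co1O
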