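import Cfsg.Agent.Lib.Helper27.Co1O.Defs

/-! # S2069: sliced kernel computations (candidates for the centraliser of a) -/

set_option autoImplicit false
set_option maxRecDepth 100000
set_option Elab.async false

namespace Cfsg.Agent.Lib.Helper27.Co1O

open Cfsg.Agent.Lib.Helper28.BSGS Cfsg.Agent.Lib.Helper22.SuzOut Cfsg.Agent.Lib.Helper27.TreeSift Cfsg.Agent.Lib.Helper27.Big

theorem tA_c80 : rangeAll candA 19580 253 = true := by decide +kernel

theorem tA_c81 : rangeAll candA 19833 246 = true := by decide +kernel

theorem tA_c82 : rangeAll candA 20079 244 = true := by decide +kernel

theorem tA_c83 : rangeAll candA 20323 255 = true := by decide +kernel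

theorem tA_c84 : rangeAll candA 20578 242 = true := by decide +kernel

theorem tA_c85 : rangeAll candA 20820 254 = true := by decide +kernel

theorem tA_c86 : rangeAll candA 21074 256 = true := by decide +kernel

theorem tA_c87 : rangeAll candA 21330 248 = true := by decide +kernel

theorem tA_c88 : rangeAll candA 21578 262 = true := by decide +kernel

theorem tA_c89 : rangeAll candA 21840 258 = true := by decide +kernel

theorem tA_c90 : rangeAll candA 22098 267 = true := by decide +kernel

theorem tA_c91 : rangeAll candA 22365 263 = true := by decide +kernel

theorem tA_c92 : rangeAll candA 22628 242 = true := by decide +kernel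

theorem tA_c93 : rangeAll candA 22870 250 = true := by decide +kernel

theorem tA_c94 : rangeAll candA 23120 246 = true := by decide +kernel

theorem tA_c95 : rangeAll candA 23366 266 = true := by decide +kernel

theorem tA_c96 : rangeAll candA 23632 271 = true := by decide +kernel

theorem tA_c97 : rangeAll candA 23903 266 = true := by decide +kernel

theorem tA_c98 : rangeAll candA 24169 263 = true := by decide +kernel

theorem tA_c99 : rangeAll candA 24432 258 = true := by decide +kernel

theorem tA_c100 : rangeAll candA 24690 271 = true := by decide +kernel

theorem tA_c101 : rangeAll candA 24961 275 = true := by decide +kernel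

theorem tA_c102 : rangeAll candA 25236 268 = true := by decide +kernel

theorem tA_c103 : rangeAll candA 25504 255 = true := by decide +kernel

theorem tA_c104 : rangeAll candA 25759 273 = true := by decide +kernel

theorem tA_c105 : rangeAll candA 26032 255 = true := by decide +kernel

theorem tA_c106 : rangeAll candA 26287 264 = true := by decide +kernel

theorem tA_c107 : rangeAll candA 26551 246 = true := by decide +kernel

theorem tA_c108 : rangeAll candA 26797 251 = true := by decide +kernel

theorem tA_c109 : rangeAll candA 27048 269 = true := by decide +kernel

theorem tA_c110 : rangeAll candA 27317 259 = true := by decide +kernel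

theorem tA_c111 : rangeAll candA 27576 266 = true := by decide +kernel

theorem tA_c112 : rangeAll candA 27842 268 = true := by decide +kernel

theorem tA_c113 : rangeAll candA 28110 244 = true := by decide +kernel

theorem tA_c114 : rangeAll candA 28354 265 = true := by decide +kernel

theorem tA_c115 : rangeAll candA 28619 256 = true := by decide +kernel

theorem tA_c116 : rangeAll candA 28875 282 = true := by decide +kernel

theorem tA_c117 : rangeAll candA 29157 269 = true := by decide +kernel

theorem tA_c118 : rangeAll candA 29426 267 = true := by decide +kernel

theorem tA_c119 : rangeAll candA 29693 264 = true := by decide +kernel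

end Cfsg.Agent.Lib.Helper27.Co1O
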