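import Cfsg.Agent.Lib.Helper27.Co1O.Defs

/-! # S2069: sliced kernel computations (candidates for the centraliser of a) -/

set_option autoImplicit false
set_option maxRecDepth 100000
set_option Elab.async false

namespace Cfsg.Agent.Lib.Helper27.Co1O

open Cfsg.Agent.Lib.Helper28.BSGS Cfsg.Agent.Lib.Helper22.SuzOut Cfsg.Agent.Lib.Helper27.TreeSift Cfsg.Agent.Lib.Helper27.Big

theorem tA_c120 : rangeAll candA 29957 264 = true := by decide +kernel

theorem tA_c121 : rangeAll candA 30221 263 = true := by decide +kernel

theorem tA_c122 : rangeAll candA 30484 268 = true := by decide +kernel

theorem tA_c123 : rangeAll candA 30752 270 = true := by decide +kernel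

theorem tA_c124 : rangeAll candA 31022 280 = true := by decide +kernel

theorem tA_c125 : rangeAll candA 31302 267 = true := by decide +kernel

theorem tA_c126 : rangeAll candA 31569 260 = true := by decide +kernel

theorem tA_c127 : rangeAll candA 31829 269 = true := by decide +kernel

theorem tA_c128 : rangeAll candA 32098 269 = true := by decide +kernel

theorem tA_c129 : rangeAll candA 32367 284 = true := by decide +kernel

theorem tA_c130 : rangeAll candA 32651 257 = true := by decide +kernel

theorem tA_c131 : rangeAll candA 32908 245 = true := by decide +kernel

theorem tA_c132 : rangeAll candA 33153 276 = true := by decide +kernel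

theorem tA_c133 : rangeAll candA 33429 245 = true := by decide +kernel

theorem tA_c134 : rangeAll candA 33674 244 = true := by decide +kernel

theorem tA_c135 : rangeAll candA 33918 265 = true := by decide +kernel

theorem tA_c136 : rangeAll candA 34183 247 = true := by decide +kernel

theorem tA_c137 : rangeAll candA 34430 269 = true := by decide +kernel

theorem tA_c138 : rangeAll candA 34699 256 = true := by decide +kernel

theorem tA_c139 : rangeAll candA 34955 265 = true := by decide +kernel

theorem tA_c140 : rangeAll candA 35220 264 = true := by decide +kernel

theorem tA_c141 : rangeAll candA 35484 261 = true := by decide +kernel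

theorem tA_c142 : rangeAll candA 35745 274 = true := by decide +kernel

theorem tA_c143 : rangeAll candA 36019 245 = true := by decide +kernel

theorem tA_c144 : rangeAll candA 36264 252 = true := by decide +kernel

theorem tA_c145 : rangeAll candA 36516 267 = true := by decide +kernel

theorem tA_c146 : rangeAll candA 36783 257 = true := by decide +kernel

theorem tA_c147 : rangeAll candA 37040 251 = true := by decide +kernel

theorem tA_c148 : rangeAll candA 37291 255 = true := by decide +kernel

theorem tA_c149 : rangeAll candA 37546 246 = true := by decide +kernel

theorem tA_c150 : rangeAll candA 37792 257 = true := by decide +kernel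

theorem tA_c151 : rangeAll candA 38049 264 = true := by decide +kernel

theorem tA_c152 : rangeAll candA 38313 263 = true := by decide +kernel

theorem tA_c153 : rangeAll candA 38576 260 = true := by decide +kernel

theorem tA_c154 : rangeAll candA 38836 272 = true := by decide +kernel

theorem tA_c155 : rangeAll candA 39108 263 = true := by decide +kernel

theorem tA_c156 : rangeAll candA 39371 263 = true := by decide +kernel

theorem tA_c157 : rangeAll candA 39634 255 = true := by decide +kernel

theorem tA_c158 : rangeAll candA 39889 247 = true := by decide +kernel

theorem tA_c159 : rangeAll candA 40136 259 = true := by decide +kernel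

end Cfsg.Agent.Lib.Helper27.Co1O
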