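import Cfsg.Agent.Lib.Helper27.Co1O.Defs

/-! # S2069: sliced kernel computations (candidates for the centraliser of a) -/

set_option autoImplicit false
set_option maxRecDepth 100000
set_option Elab.async false

namespace Cfsg.Agent.Lib.Helper27.Co1O

open Cfsg.Agent.Lib.Helper28.BSGS Cfsg.Agent.Lib.Helper22.SuzOut Cfsg.Agent.Lib.Helper27.TreeSift Cfsg.Agent.Lib.Helper27.Big

theorem tA_c160 : rangeAll candA 40395 260 = true := by decide +kernel

theorem tA_c161 : rangeAll candA 40655 271 = true := by decide +kernel

theorem tA_c162 : rangeAll candA 40926 261 = true := by decide +kernel

theorem tA_c163 : rangeAll candA 41187 260 = true := by decide +kernel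

theorem tA_c164 : rangeAll candA 41447 280 = true := by decide +kernel

theorem tA_c165 : rangeAll candA 41727 259 = true := by decide +kernel

theorem tA_c166 : rangeAll candA 41986 282 = true := by decide +kernel

theorem tA_c167 : rangeAll candA 42268 255 = true := by decide +kernel

theorem tA_c168 : rangeAll candA 42523 259 = true := by decide +kernel

theorem tA_c169 : rangeAll candA 42782 258 = true := by decide +kernel

theorem tA_c170 : rangeAll candA 43040 238 = true := by decide +kernel

theorem tA_c171 : rangeAll candA 43278 275 = true := by decide +kernel

theorem tA_c172 : rangeAll candA 43553 263 = true := by decide +kernel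

theorem tA_c173 : rangeAll candA 43816 300 = true := by decide +kernel

theorem tA_c174 : rangeAll candA 44116 289 = true := by decide +kernel

theorem tA_c175 : rangeAll candA 44405 272 = true := by decide +kernel

theorem tA_c176 : rangeAll candA 44677 268 = true := by decide +kernel

theorem tA_c177 : rangeAll candA 44945 283 = true := by decide +kernel

theorem tA_c178 : rangeAll candA 45228 268 = true := by decide +kernel

theorem tA_c179 : rangeAll candA 45496 275 = true := by decide +kernel

theorem tA_c180 : rangeAll candA 45771 280 = true := by decide +kernel

theorem tA_c181 : rangeAll candA 46051 262 = true := by decide +kernel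

theorem tA_c182 : rangeAll candA 46313 283 = true := by decide +kernel

theorem tA_c183 : rangeAll candA 46596 276 = true := by decide +kernel

theorem tA_c184 : rangeAll candA 46872 255 = true := by decide +kernel

theorem tA_c185 : rangeAll candA 47127 272 = true := by decide +kernel

theorem tA_c186 : rangeAll candA 47399 266 = true := by decide +kernel

theorem tA_c187 : rangeAll candA 47665 263 = true := by decide +kernel

theorem tA_c188 : rangeAll candA 47928 274 = true := by decide +kernel

theorem tA_c189 : rangeAll candA 48202 265 = true := by decide +kernel

theorem tA_c190 : rangeAll candA 48467 273 = true := by decide +kernel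

theorem tA_c191 : rangeAll candA 48740 299 = true := by decide +kernel

theorem tA_c192 : rangeAll candA 49039 333 = true := by decide +kernel

theorem tA_c193 : rangeAll candA 49372 282 = true := by decide +kernel

theorem tA_c194 : rangeAll candA 49654 273 = true := by decide +kernel

theorem tA_c195 : rangeAll candA 49927 274 = true := by decide +kernel

theorem tA_c196 : rangeAll candA 50201 271 = true := by decide +kernel

theorem tA_c197 : rangeAll candA 50472 284 = true := by decide +kernel

theorem tA_c198 : rangeAll candA 50756 275 = true := by decide +kernel

theorem tA_c199 : rangeAll candA 51031 272 = true := by decide +kernel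

end Cfsg.Agent.Lib.Helper27.Co1O
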