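import Cfsg.Agent.Lib.Helper27.Co1O.Defs

/-! # S2069: sliced kernel computations (candidates for the centraliser of a) -/

set_option autoImplicit false
set_option maxRecDepth 100000
set_option Elab.async false

namespace Cfsg.Agent.Lib.Helper27.Co1O

open Cfsg.Agent.Lib.Helper28.BSGS Cfsg.Agent.Lib.Helper22.SuzOut Cfsg.Agent.Lib.Helper27.TreeSift Cfsg.Agent.Lib.Helper27.Big

theorem tA_c200 : rangeAll candA 51303 291 = true := by decide +kernel

theorem tA_c201 : rangeAll candA 51594 279 = true := by decide +kernel

theorem tA_c202 : rangeAll candA 51873 277 = true := by decide +kernel

theorem tA_c203 : rangeAll candA 52150 289 = true := by decide +kernel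

theorem tA_c204 : rangeAll candA 52439 293 = true := by decide +kernel

theorem tA_c205 : rangeAll candA 52732 288 = true := by decide +kernel

theorem tA_c206 : rangeAll candA 53020 273 = true := by decide +kernel

theorem tA_c207 : rangeAll candA 53293 298 = true := by decide +kernel

theorem tA_c208 : rangeAll candA 53591 271 = true := by decide +kernel

theorem tA_c209 : rangeAll candA 53862 281 = true := by decide +kernel

theorem tA_c210 : rangeAll candA 54143 279 = true := by decide +kernel

theorem tA_c211 : rangeAll candA 54422 293 = true := by decide +kernel

theorem tA_c212 : rangeAll candA 54715 289 = true := by decide +kernel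

theorem tA_c213 : rangeAll candA 55004 281 = true := by decide +kernel

theorem tA_c214 : rangeAll candA 55285 276 = true := by decide +kernel

theorem tA_c215 : rangeAll candA 55561 265 = true := by decide +kernel

theorem tA_c216 : rangeAll candA 55826 294 = true := by decide +kernel

theorem tA_c217 : rangeAll candA 56120 291 = true := by decide +kernel

theorem tA_c218 : rangeAll candA 56411 292 = true := by decide +kernel

theorem tA_c219 : rangeAll candA 56703 269 = true := by decide +kernel

theorem tA_c220 : rangeAll candA 56972 291 = true := by decide +kernel

theorem tA_c221 : rangeAll candA 57263 272 = true := by decide +kernel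

theorem tA_c222 : rangeAll candA 57535 280 = true := by decide +kernel

theorem tA_c223 : rangeAll candA 57815 280 = true := by decide +kernel

theorem tA_c224 : rangeAll candA 58095 285 = true := by decide +kernel

theorem tA_c225 : rangeAll candA 58380 293 = true := by decide +kernel

theorem tA_c226 : rangeAll candA 58673 276 = true := by decide +kernel

theorem tA_c227 : rangeAll candA 58949 288 = true := by decide +kernel

theorem tA_c228 : rangeAll candA 59237 293 = true := by decide +kernel

theorem tA_c229 : rangeAll candA 59530 300 = true := by decide +kernel

theorem tA_c230 : rangeAll candA 59830 294 = true := by decide +kernel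

theorem tA_c231 : rangeAll candA 60124 271 = true := by decide +kernel

theorem tA_c232 : rangeAll candA 60395 290 = true := by decide +kernel

theorem tA_c233 : rangeAll candA 60685 285 = true := by decide +kernel

theorem tA_c234 : rangeAll candA 60970 296 = true := by decide +kernel

theorem tA_c235 : rangeAll candA 61266 289 = true := by decide +kernel

theorem tA_c236 : rangeAll candA 61555 292 = true := by decide +kernel

theorem tA_c237 : rangeAll candA 61847 277 = true := by decide +kernel

theorem tA_c238 : rangeAll candA 62124 297 = true := by decide +kernel

theorem tA_c239 : rangeAll candA 62421 296 = true := by decide +kernel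

end Cfsg.Agent.Lib.Helper27.Co1O
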