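import Cfsg.Agent.Lib.Helper27.Co1O.Defs

/-! # S2069: sliced kernel computations (candidates for the centraliser of a) -/

set_option autoImplicit false
set_option maxRecDepth 100000
set_option Elab.async false

namespace Cfsg.Agent.Lib.Helper27.Co1O

open Cfsg.Agent.Lib.Helper28.BSGS Cfsg.Agent.Lib.Helper22.SuzOut Cfsg.Agent.Lib.Helper27.TreeSift Cfsg.Agent.Lib.Helper27.Big

theorem tA_c240 : rangeAll candA 62717 297 = true := by decide +kernel

theorem tA_c241 : rangeAll candA 63014 283 = true := by decide +kernel

theorem tA_c242 : rangeAll candA 63297 288 = true := by decide +kernel

theorem tA_c243 : rangeAll candA 63585 296 = true := by decide +kernel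

theorem tA_c244 : rangeAll candA 63881 280 = true := by decide +kernel

theorem tA_c245 : rangeAll candA 64161 288 = true := by decide +kernel

theorem tA_c246 : rangeAll candA 64449 302 = true := by decide +kernel

theorem tA_c247 : rangeAll candA 64751 283 = true := by decide +kernel

theorem tA_c248 : rangeAll candA 65034 286 = true := by decide +kernel

theorem tA_c249 : rangeAll candA 65320 304 = true := by decide +kernel

theorem tA_c250 : rangeAll candA 65624 280 = true := by decide +kernel

theorem tA_c251 : rangeAll candA 65904 271 = true := by decide +kernel

theorem tA_c252 : rangeAll candA 66175 286 = true := by decide +kernel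

theorem tA_c253 : rangeAll candA 66461 257 = true := by decide +kernel

theorem tA_c254 : rangeAll candA 66718 278 = true := by decide +kernel

theorem tA_c255 : rangeAll candA 66996 262 = true := by decide +kernel

theorem tA_c256 : rangeAll candA 67258 296 = true := by decide +kernel

theorem tA_c257 : rangeAll candA 67554 290 = true := by decide +kernel

theorem tA_c258 : rangeAll candA 67844 276 = true := by decide +kernel

theorem tA_c259 : rangeAll candA 68120 286 = true := by decide +kernel

theorem tA_c260 : rangeAll candA 68406 271 = true := by decide +kernel

theorem tA_c261 : rangeAll candA 68677 279 = true := by decide +kernel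

theorem tA_c262 : rangeAll candA 68956 272 = true := by decide +kernel

theorem tA_c263 : rangeAll candA 69228 294 = true := by decide +kernel

theorem tA_c264 : rangeAll candA 69522 270 = true := by decide +kernel

theorem tA_c265 : rangeAll candA 69792 273 = true := by decide +kernel

theorem tA_c266 : rangeAll candA 70065 281 = true := by decide +kernel

theorem tA_c267 : rangeAll candA 70346 280 = true := by decide +kernel

theorem tA_c268 : rangeAll candA 70626 283 = true := by decide +kernel

theorem tA_c269 : rangeAll candA 70909 287 = true := by decide +kernel

theorem tA_c270 : rangeAll candA 71196 287 = true := by decide +kernel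

theorem tA_c271 : rangeAll candA 71483 286 = true := by decide +kernel

theorem tA_c272 : rangeAll candA 71769 282 = true := by decide +kernel

theorem tA_c273 : rangeAll candA 72051 279 = true := by decide +kernel

theorem tA_c274 : rangeAll candA 72330 273 = true := by decide +kernel

theorem tA_c275 : rangeAll candA 72603 268 = true := by decide +kernel

theorem tA_c276 : rangeAll candA 72871 303 = true := by decide +kernel

theorem tA_c277 : rangeAll candA 73174 273 = true := by decide +kernel

theorem tA_c278 : rangeAll candA 73447 284 = true := by decide +kernel

theorem tA_c279 : rangeAll candA 73731 284 = true := by decide +kernel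

end Cfsg.Agent.Lib.Helper27.Co1O
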