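import Cfsg.Agent.Lib.Helper27.Co1O.Defs

/-! # S2069: sliced kernel computations (candidates for the centraliser of a) -/

set_option autoImplicit false
set_option maxRecDepth 100000
set_option Elab.async false

namespace Cfsg.Agent.Lib.Helper27.Co1O

open Cfsg.Agent.Lib.Helper28.BSGS Cfsg.Agent.Lib.Helper22.SuzOut Cfsg.Agent.Lib.Helper27.TreeSift Cfsg.Agent.Lib.Helper27.Big

theorem tA_c280 : rangeAll candA 74015 302 = true := by decide +kernel

theorem tA_c281 : rangeAll candA 74317 268 = true := by decide +kernel

theorem tA_c282 : rangeAll candA 74585 278 = true := by decide +kernel

theorem tA_c283 : rangeAll candA 74863 284 = true := by decide +kernel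

theorem tA_c284 : rangeAll candA 75147 274 = true := by decide +kernel

theorem tA_c285 : rangeAll candA 75421 262 = true := by decide +kernel

theorem tA_c286 : rangeAll candA 75683 303 = true := by decide +kernel

theorem tA_c287 : rangeAll candA 75986 286 = true := by decide +kernel

theorem tA_c288 : rangeAll candA 76272 274 = true := by decide +kernel

theorem tA_c289 : rangeAll candA 76546 272 = true := by decide +kernel

theorem tA_c290 : rangeAll candA 76818 299 = true := by decide +kernel

theorem tA_c291 : rangeAll candA 77117 297 = true := by decide +kernel

theorem tA_c292 : rangeAll candA 77414 294 = true := by decide +kernel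

theorem tA_c293 : rangeAll candA 77708 292 = true := by decide +kernel

theorem tA_c294 : rangeAll candA 78000 277 = true := by decide +kernel

theorem tA_c295 : rangeAll candA 78277 278 = true := by decide +kernel

theorem tA_c296 : rangeAll candA 78555 286 = true := by decide +kernel

theorem tA_c297 : rangeAll candA 78841 284 = true := by decide +kernel

theorem tA_c298 : rangeAll candA 79125 293 = true := by decide +kernel

theorem tA_c299 : rangeAll candA 79418 296 = true := by decide +kernel

theorem tA_c300 : rangeAll candA 79714 284 = true := by decide +kernel

theorem tA_c301 : rangeAll candA 79998 298 = true := by decide +kernel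

theorem tA_c302 : rangeAll candA 80296 286 = true := by decide +kernel

theorem tA_c303 : rangeAll candA 80582 302 = true := by decide +kernel

theorem tA_c304 : rangeAll candA 80884 291 = true := by decide +kernel

theorem tA_c305 : rangeAll candA 81175 284 = true := by decide +kernel

theorem tA_c306 : rangeAll candA 81459 296 = true := by decide +kernel

theorem tA_c307 : rangeAll candA 81755 280 = true := by decide +kernel

theorem tA_c308 : rangeAll candA 82035 297 = true := by decide +kernel

theorem tA_c309 : rangeAll candA 82332 292 = true := by decide +kernel

theorem tA_c310 : rangeAll candA 82624 309 = true := by decide +kernel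

theorem tA_c311 : rangeAll candA 82933 296 = true := by decide +kernel

theorem tA_c312 : rangeAll candA 83229 283 = true := by decide +kernel

theorem tA_c313 : rangeAll candA 83512 304 = true := by decide +kernel

theorem tA_c314 : rangeAll candA 83816 292 = true := by decide +kernel

theorem tA_c315 : rangeAll candA 84108 292 = true := by decide +kernel

theorem tA_c316 : rangeAll candA 84400 298 = true := by decide +kernel

theorem tA_c317 : rangeAll candA 84698 293 = true := by decide +kernel

theorem tA_c318 : rangeAll candA 84991 293 = true := by decide +kernel

theorem tA_c319 : rangeAll candA 85284 297 = true := by decide +kernel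

end Cfsg.Agent.Lib.Helper27.Co1O
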