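import Cfsg.Agent.Lib.Helper27.Co1O.Defs

/-! # S2069: sliced kernel computations (candidates for the centraliser of a) -/

set_option autoImplicit false
set_option maxRecDepth 100000
set_option Elab.async false

namespace Cfsg.Agent.Lib.Helper27.Co1O

open Cfsg.Agent.Lib.Helper28.BSGS Cfsg.Agent.Lib.Helper22.SuzOut Cfsg.Agent.Lib.Helper27.TreeSift Cfsg.Agent.Lib.Helper27.Big

theorem tA_c320 : rangeAll candA 85581 275 = true := by decide +kernel

theorem tA_c321 : rangeAll candA 85856 319 = true := by decide +kernel

theorem tA_c322 : rangeAll candA 86175 300 = true := by decide +kernel

theorem tA_c323 : rangeAll candA 86475 289 = true := by decide +kernel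

theorem tA_c324 : rangeAll candA 86764 307 = true := by decide +kernel

theorem tA_c325 : rangeAll candA 87071 287 = true := by decide +kernel

theorem tA_c326 : rangeAll candA 87358 291 = true := by decide +kernel

theorem tA_c327 : rangeAll candA 87649 299 = true := by decide +kernel

theorem tA_c328 : rangeAll candA 87948 299 = true := by decide +kernel

theorem tA_c329 : rangeAll candA 88247 320 = true := by decide +kernel

theorem tA_c330 : rangeAll candA 88567 299 = true := by decide +kernel

theorem tA_c331 : rangeAll candA 88866 308 = true := by decide +kernel

theorem tA_c332 : rangeAll candA 89174 311 = true := by decide +kernel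

theorem tA_c333 : rangeAll candA 89485 316 = true := by decide +kernel

theorem tA_c334 : rangeAll candA 89801 301 = true := by decide +kernel

theorem tA_c335 : rangeAll candA 90102 306 = true := by decide +kernel

theorem tA_c336 : rangeAll candA 90408 304 = true := by decide +kernel

theorem tA_c337 : rangeAll candA 90712 302 = true := by decide +kernel

theorem tA_c338 : rangeAll candA 91014 288 = true := by decide +kernel

theorem tA_c339 : rangeAll candA 91302 275 = true := by decide +kernel

theorem tA_c340 : rangeAll candA 91577 303 = true := by decide +kernel

theorem tA_c341 : rangeAll candA 91880 291 = true := by decide +kernel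

theorem tA_c342 : rangeAll candA 92171 290 = true := by decide +kernel

theorem tA_c343 : rangeAll candA 92461 306 = true := by decide +kernel

theorem tA_c344 : rangeAll candA 92767 315 = true := by decide +kernel

theorem tA_c345 : rangeAll candA 93082 305 = true := by decide +kernel

theorem tA_c346 : rangeAll candA 93387 304 = true := by decide +kernel

theorem tA_c347 : rangeAll candA 93691 306 = true := by decide +kernel

theorem tA_c348 : rangeAll candA 93997 311 = true := by decide +kernel

theorem tA_c349 : rangeAll candA 94308 312 = true := by decide +kernel

theorem tA_c350 : rangeAll candA 94620 313 = true := by decide +kernel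

theorem tA_c351 : rangeAll candA 94933 301 = true := by decide +kernel

theorem tA_c352 : rangeAll candA 95234 312 = true := by decide +kernel

theorem tA_c353 : rangeAll candA 95546 310 = true := by decide +kernel

theorem tA_c354 : rangeAll candA 95856 302 = true := by decide +kernel

theorem tA_c355 : rangeAll candA 96158 287 = true := by decide +kernel

theorem tA_c356 : rangeAll candA 96445 304 = true := by decide +kernel

theorem tA_c357 : rangeAll candA 96749 305 = true := by decide +kernel

theorem tA_c358 : rangeAll candA 97054 304 = true := by decide +kernel

theorem tA_c359 : rangeAll candA 97358 330 = true := by decide +kernel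

end Cfsg.Agent.Lib.Helper27.Co1O
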