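import Cfsg.Agent.Lib.Helper27.Co1O.Defs

/-! # S2069: sliced kernel computations (candidates for the image of y) -/

set_option autoImplicit false
set_option maxRecDepth 100000
set_option Elab.async false

namespace Cfsg.Agent.Lib.Helper27.Co1O

open Cfsg.Agent.Lib.Helper28.BSGS Cfsg.Agent.Lib.Helper22.SuzOut Cfsg.Agent.Lib.Helper27.TreeSift Cfsg.Agent.Lib.Helper27.Big

theorem tD_c0 : rangeAll candD 0 219 = true := by decide +kernel

theorem tD_c1 : rangeAll candD 219 225 = true := by decide +kernel

theorem tD_c2 : rangeAll candD 444 221 = true := by decide +kernel

theorem tD_c3 : rangeAll candD 665 221 = true := by decide +kernel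

theorem tD_c4 : rangeAll candD 886 236 = true := by decide +kernel

theorem tD_c5 : rangeAll candD 1122 228 = true := by decide +kernel

theorem tD_c6 : rangeAll candD 1350 170 = true := by decide +kernel

theorem tD_c7 : rangeAll candD 1520 214 = true := by decide +kernel

theorem tD_c8 : rangeAll candD 1734 227 = true := by decide +kernel

theorem tD_c9 : rangeAll candD 1961 228 = true := by decide +kernel

theorem tD_c10 : rangeAll candD 2189 230 = true := by decide +kernel

theorem tD_c11 : rangeAll candD 2419 172 = true := by decide +kernel

theorem tD_c12 : rangeAll candD 2591 170 = true := by decide +kernel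

theorem tD_c13 : rangeAll candD 2761 234 = true := by decide +kernel

theorem tD_c14 : rangeAll candD 2995 220 = true := by decide +kernel

theorem tD_c15 : rangeAll candD 3215 175 = true := by decide +kernel

theorem tD_c16 : rangeAll candD 3390 200 = true := by decide +kernel

theorem tD_c17 : rangeAll candD 3590 227 = true := by decide +kernel

theorem tD_c18 : rangeAll candD 3817 211 = true := by decide +kernel

theorem tD_c19 : rangeAll candD 4028 216 = true := by decide +kernel

theorem tD_c20 : rangeAll candD 4244 224 = true := by decide +kernel

theorem tD_c21 : rangeAll candD 4468 221 = true := by decide +kernel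

theorem tD_c22 : rangeAll candD 4689 217 = true := by decide +kernel

theorem tD_c23 : rangeAll candD 4906 205 = true := by decide +kernel

theorem tD_c24 : rangeAll candD 5111 210 = true := by decide +kernel

theorem tD_c25 : rangeAll candD 5321 213 = true := by decide +kernel

theorem tD_c26 : rangeAll candD 5534 226 = true := by decide +kernel

theorem tD_c27 : rangeAll candD 5760 225 = true := by decide +kernel

theorem tD_c28 : rangeAll candD 5985 220 = true := by decide +kernel

theorem tD_c29 : rangeAll candD 6205 244 = true := by decide +kernel

theorem tD_c30 : rangeAll candD 6449 226 = true := by decide +kernel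

theorem tD_c31 : rangeAll candD 6675 203 = true := by decide +kernel

theorem tD_c32 : rangeAll candD 6878 238 = true := by decide +kernel

theorem tD_c33 : rangeAll candD 7116 226 = true := by decide +kernel

theorem tD_c34 : rangeAll candD 7342 217 = true := by decide +kernel

theorem tD_c35 : rangeAll candD 7559 211 = true := by decide +kernel

theorem tD_c36 : rangeAll candD 7770 211 = true := by decide +kernel

theorem tD_c37 : rangeAll candD 7981 211 = true := by decide +kernel

theorem tD_c38 : rangeAll candD 8192 165 = true := by decide +kernel

theorem tD_c39 : rangeAll candD 8357 222 = true := by decide +kernel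

end Cfsg.Agent.Lib.Helper27.Co1O
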