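import Cfsg.Agent.Lib.Helper27.Co1O.Defs

/-! # S2069: sliced kernel computations (candidates for the image of y) -/

set_option autoImplicit false
set_option maxRecDepth 100000
set_option Elab.async false

namespace Cfsg.Agent.Lib.Helper27.Co1O

open Cfsg.Agent.Lib.Helper28.BSGS Cfsg.Agent.Lib.Helper22.SuzOut Cfsg.Agent.Lib.Helper27.TreeSift Cfsg.Agent.Lib.Helper27.Big

theorem tD_c40 : rangeAll candD 8579 228 = true := by decide +kernel

theorem tD_c41 : rangeAll candD 8807 214 = true := by decide +kernel

theorem tD_c42 : rangeAll candD 9021 215 = true := by decide +kernel

theorem tD_c43 : rangeAll candD 9236 216 = true := by decide +kernel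

theorem tD_c44 : rangeAll candD 9452 224 = true := by decide +kernel

theorem tD_c45 : rangeAll candD 9676 228 = true := by decide +kernel

theorem tD_c46 : rangeAll candD 9904 194 = true := by decide +kernel

theorem tD_c47 : rangeAll candD 10098 195 = true := by decide +kernel

theorem tD_c48 : rangeAll candD 10293 204 = true := by decide +kernel

theorem tD_c49 : rangeAll candD 10497 208 = true := by decide +kernel

theorem tD_c50 : rangeAll candD 10705 212 = true := by decide +kernel

theorem tD_c51 : rangeAll candD 10917 202 = true := by decide +kernel

theorem tD_c52 : rangeAll candD 11119 212 = true := by decide +kernel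

theorem tD_c53 : rangeAll candD 11331 213 = true := by decide +kernel

theorem tD_c54 : rangeAll candD 11544 220 = true := by decide +kernel

theorem tD_c55 : rangeAll candD 11764 218 = true := by decide +kernel

theorem tD_c56 : rangeAll candD 11982 226 = true := by decide +kernel

theorem tD_c57 : rangeAll candD 12208 238 = true := by decide +kernel

theorem tD_c58 : rangeAll candD 12446 247 = true := by decide +kernel

theorem tD_c59 : rangeAll candD 12693 204 = true := by decide +kernel

theorem tD_c60 : rangeAll candD 12897 218 = true := by decide +kernel

theorem tD_c61 : rangeAll candD 13115 224 = true := by decide +kernel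

theorem tD_c62 : rangeAll candD 13339 227 = true := by decide +kernel

theorem tD_c63 : rangeAll candD 13566 225 = true := by decide +kernel

theorem tD_c64 : rangeAll candD 13791 214 = true := by decide +kernel

theorem tD_c65 : rangeAll candD 14005 177 = true := by decide +kernel

theorem tD_c66 : rangeAll candD 14182 222 = true := by decide +kernel

theorem tD_c67 : rangeAll candD 14404 217 = true := by decide +kernel

theorem tD_c68 : rangeAll candD 14621 219 = true := by decide +kernel

theorem tD_c69 : rangeAll candD 14840 222 = true := by decide +kernel

theorem tD_c70 : rangeAll candD 15062 234 = true := by decide +kernel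

theorem tD_c71 : rangeAll candD 15296 177 = true := by decide +kernel

theorem tD_c72 : rangeAll candD 15473 196 = true := by decide +kernel

theorem tD_c73 : rangeAll candD 15669 212 = true := by decide +kernel

theorem tD_c74 : rangeAll candD 15881 201 = true := by decide +kernel

theorem tD_c75 : rangeAll candD 16082 228 = true := by decide +kernel

theorem tD_c76 : rangeAll candD 16310 221 = true := by decide +kernel

theorem tD_c77 : rangeAll candD 16531 230 = true := by decide +kernel

theorem tD_c78 : rangeAll candD 16761 227 = true := by decide +kernel

theorem tD_c79 : rangeAll candD 16988 209 = true := by decide +kernel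

end Cfsg.Agent.Lib.Helper27.Co1O
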