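import Cfsg.Agent.Lib.Helper27.Co1O.Defs

/-! # S2069: sliced kernel computations (candidates for the image of y) -/

set_option autoImplicit false
set_option maxRecDepth 100000
set_option Elab.async false

namespace Cfsg.Agent.Lib.Helper27.Co1O

open Cfsg.Agent.Lib.Helper28.BSGS Cfsg.Agent.Lib.Helper22.SuzOut Cfsg.Agent.Lib.Helper27.TreeSift Cfsg.Agent.Lib.Helper27.Big

theorem tD_c400 : rangeAll candD 93030 231 = true := by decide +kernel

theorem tD_c401 : rangeAll candD 93261 271 = true := by decide +kernel

theorem tD_c402 : rangeAll candD 93532 256 = true := by decide +kernel

theorem tD_c403 : rangeAll candD 93788 291 = true := by decide +kernel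

theorem tD_c404 : rangeAll candD 94079 266 = true := by decide +kernel

theorem tD_c405 : rangeAll candD 94345 277 = true := by decide +kernel

theorem tD_c406 : rangeAll candD 94622 244 = true := by decide +kernel

theorem tD_c407 : rangeAll candD 94866 268 = true := by decide +kernel

theorem tD_c408 : rangeAll candD 95134 274 = true := by decide +kernel

theorem tD_c409 : rangeAll candD 95408 249 = true := by decide +kernel

theorem tD_c410 : rangeAll candD 95657 279 = true := by decide +kernel

theorem tD_c411 : rangeAll candD 95936 265 = true := by decide +kernel

theorem tD_c412 : rangeAll candD 96201 255 = true := by decide +kernel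

theorem tD_c413 : rangeAll candD 96456 261 = true := by decide +kernel

theorem tD_c414 : rangeAll candD 96717 241 = true := by decide +kernel

theorem tD_c415 : rangeAll candD 96958 261 = true := by decide +kernel

theorem tD_c416 : rangeAll candD 97219 291 = true := by decide +kernel

theorem tD_c417 : rangeAll candD 97510 258 = true := by decide +kernel

theorem tD_c418 : rangeAll candD 97768 279 = true := by decide +kernel

theorem tD_c419 : rangeAll candD 98047 233 = true := by decide +kernel

end Cfsg.Agent.Lib.Helper27.Co1O
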