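import Cfsg.Agent.Lib.Helper27.Co1O.Defs

/-! # S2069: sliced kernel computations (candidates for the image of y) -/

set_option autoImplicit false
set_option maxRecDepth 100000
set_option Elab.async false

namespace Cfsg.Agent.Lib.Helper27.Co1O

open Cfsg.Agent.Lib.Helper28.BSGS Cfsg.Agent.Lib.Helper22.SuzOut Cfsg.Agent.Lib.Helper27.TreeSift Cfsg.Agent.Lib.Helper27.Big

theorem tD_c80 : rangeAll candD 17197 235 = true := by decide +kernel

theorem tD_c81 : rangeAll candD 17432 231 = true := by decide +kernel

theorem tD_c82 : rangeAll candD 17663 240 = true := by decide +kernel

theorem tD_c83 : rangeAll candD 17903 254 = true := by decide +kernel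

theorem tD_c84 : rangeAll candD 18157 230 = true := by decide +kernel

theorem tD_c85 : rangeAll candD 18387 221 = true := by decide +kernel

theorem tD_c86 : rangeAll candD 18608 243 = true := by decide +kernel

theorem tD_c87 : rangeAll candD 18851 230 = true := by decide +kernel

theorem tD_c88 : rangeAll candD 19081 231 = true := by decide +kernel

theorem tD_c89 : rangeAll candD 19312 229 = true := by decide +kernel

theorem tD_c90 : rangeAll candD 19541 176 = true := by decide +kernel

theorem tD_c91 : rangeAll candD 19717 188 = true := by decide +kernel

theorem tD_c92 : rangeAll candD 19905 232 = true := by decide +kernel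

theorem tD_c93 : rangeAll candD 20137 224 = true := by decide +kernel

theorem tD_c94 : rangeAll candD 20361 237 = true := by decide +kernel

theorem tD_c95 : rangeAll candD 20598 239 = true := by decide +kernel

theorem tD_c96 : rangeAll candD 20837 211 = true := by decide +kernel

theorem tD_c97 : rangeAll candD 21048 249 = true := by decide +kernel

theorem tD_c98 : rangeAll candD 21297 213 = true := by decide +kernel

theorem tD_c99 : rangeAll candD 21510 201 = true := by decide +kernel

theorem tD_c100 : rangeAll candD 21711 226 = true := by decide +kernel

theorem tD_c101 : rangeAll candD 21937 195 = true := by decide +kernel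

theorem tD_c102 : rangeAll candD 22132 209 = true := by decide +kernel

theorem tD_c103 : rangeAll candD 22341 242 = true := by decide +kernel

theorem tD_c104 : rangeAll candD 22583 222 = true := by decide +kernel

theorem tD_c105 : rangeAll candD 22805 216 = true := by decide +kernel

theorem tD_c106 : rangeAll candD 23021 219 = true := by decide +kernel

theorem tD_c107 : rangeAll candD 23240 225 = true := by decide +kernel

theorem tD_c108 : rangeAll candD 23465 199 = true := by decide +kernel

theorem tD_c109 : rangeAll candD 23664 264 = true := by decide +kernel

theorem tD_c110 : rangeAll candD 23928 208 = true := by decide +kernel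

theorem tD_c111 : rangeAll candD 24136 238 = true := by decide +kernel

theorem tD_c112 : rangeAll candD 24374 224 = true := by decide +kernel

theorem tD_c113 : rangeAll candD 24598 243 = true := by decide +kernel

theorem tD_c114 : rangeAll candD 24841 239 = true := by decide +kernel

theorem tD_c115 : rangeAll candD 25080 228 = true := by decide +kernel

theorem tD_c116 : rangeAll candD 25308 208 = true := by decide +kernel

theorem tD_c117 : rangeAll candD 25516 222 = true := by decide +kernel

theorem tD_c118 : rangeAll candD 25738 222 = true := by decide +kernel

theorem tD_c119 : rangeAll candD 25960 185 = true := by decide +kernel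

end Cfsg.Agent.Lib.Helper27.Co1O
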