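import Cfsg.Agent.Lib.Helper27.Co1O.Defs

/-! # S2069: sliced kernel computations (candidates for the image of y) -/

set_option autoImplicit false
set_option maxRecDepth 100000
set_option Elab.async false

namespace Cfsg.Agent.Lib.Helper27.Co1O

open Cfsg.Agent.Lib.Helper28.BSGS Cfsg.Agent.Lib.Helper22.SuzOut Cfsg.Agent.Lib.Helper27.TreeSift Cfsg.Agent.Lib.Helper27.Big

theorem tD_c160 : rangeAll candD 35342 229 = true := by decide +kernel

theorem tD_c161 : rangeAll candD 35571 237 = true := by decide +kernel

theorem tD_c162 : rangeAll candD 35808 212 = true := by decide +kernel

theorem tD_c163 : rangeAll candD 36020 247 = true := by decide +kernel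

theorem tD_c164 : rangeAll candD 36267 236 = true := by decide +kernel

theorem tD_c165 : rangeAll candD 36503 225 = true := by decide +kernel

theorem tD_c166 : rangeAll candD 36728 263 = true := by decide +kernel

theorem tD_c167 : rangeAll candD 36991 211 = true := by decide +kernel

theorem tD_c168 : rangeAll candD 37202 239 = true := by decide +kernel

theorem tD_c169 : rangeAll candD 37441 257 = true := by decide +kernel

theorem tD_c170 : rangeAll candD 37698 226 = true := by decide +kernel

theorem tD_c171 : rangeAll candD 37924 239 = true := by decide +kernel

theorem tD_c172 : rangeAll candD 38163 247 = true := by decide +kernel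

theorem tD_c173 : rangeAll candD 38410 186 = true := by decide +kernel

theorem tD_c174 : rangeAll candD 38596 182 = true := by decide +kernel

theorem tD_c175 : rangeAll candD 38778 240 = true := by decide +kernel

theorem tD_c176 : rangeAll candD 39018 183 = true := by decide +kernel

theorem tD_c177 : rangeAll candD 39201 222 = true := by decide +kernel

theorem tD_c178 : rangeAll candD 39423 237 = true := by decide +kernel

theorem tD_c179 : rangeAll candD 39660 242 = true := by decide +kernel

theorem tD_c180 : rangeAll candD 39902 213 = true := by decide +kernel

theorem tD_c181 : rangeAll candD 40115 169 = true := by decide +kernel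

theorem tD_c182 : rangeAll candD 40284 225 = true := by decide +kernel

theorem tD_c183 : rangeAll candD 40509 210 = true := by decide +kernel

theorem tD_c184 : rangeAll candD 40719 254 = true := by decide +kernel

theorem tD_c185 : rangeAll candD 40973 248 = true := by decide +kernel

theorem tD_c186 : rangeAll candD 41221 259 = true := by decide +kernel

theorem tD_c187 : rangeAll candD 41480 251 = true := by decide +kernel

theorem tD_c188 : rangeAll candD 41731 236 = true := by decide +kernel

theorem tD_c189 : rangeAll candD 41967 215 = true := by decide +kernel

theorem tD_c190 : rangeAll candD 42182 228 = true := by decide +kernel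

theorem tD_c191 : rangeAll candD 42410 197 = true := by decide +kernel

theorem tD_c192 : rangeAll candD 42607 188 = true := by decide +kernel

theorem tD_c193 : rangeAll candD 42795 154 = true := by decide +kernel

theorem tD_c194 : rangeAll candD 42949 226 = true := by decide +kernel

theorem tD_c195 : rangeAll candD 43175 233 = true := by decide +kernel

theorem tD_c196 : rangeAll candD 43408 224 = true := by decide +kernel

theorem tD_c197 : rangeAll candD 43632 228 = true := by decide +kernel

theorem tD_c198 : rangeAll candD 43860 227 = true := by decide +kernel

theorem tD_c199 : rangeAll candD 44087 247 = true := by decide +kernel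

end Cfsg.Agent.Lib.Helper27.Co1O
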