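import Cfsg.Agent.Lib.Helper27.Co1O.Defs

/-! # S2069: sliced kernel computations (candidates for the image of y) -/

set_option autoImplicit false
set_option maxRecDepth 100000
set_option Elab.async false

namespace Cfsg.Agent.Lib.Helper27.Co1O

open Cfsg.Agent.Lib.Helper28.BSGS Cfsg.Agent.Lib.Helper22.SuzOut Cfsg.Agent.Lib.Helper27.TreeSift Cfsg.Agent.Lib.Helper27.Big

theorem tD_c200 : rangeAll candD 44334 251 = true := by decide +kernel

theorem tD_c201 : rangeAll candD 44585 278 = true := by decide +kernel

theorem tD_c202 : rangeAll candD 44863 223 = true := by decide +kernel

theorem tD_c203 : rangeAll candD 45086 229 = true := by decide +kernel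

theorem tD_c204 : rangeAll candD 45315 223 = true := by decide +kernel

theorem tD_c205 : rangeAll candD 45538 232 = true := by decide +kernel

theorem tD_c206 : rangeAll candD 45770 222 = true := by decide +kernel

theorem tD_c207 : rangeAll candD 45992 238 = true := by decide +kernel

theorem tD_c208 : rangeAll candD 46230 225 = true := by decide +kernel

theorem tD_c209 : rangeAll candD 46455 212 = true := by decide +kernel

theorem tD_c210 : rangeAll candD 46667 221 = true := by decide +kernel

theorem tD_c211 : rangeAll candD 46888 244 = true := by decide +kernel

theorem tD_c212 : rangeAll candD 47132 223 = true := by decide +kernel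

theorem tD_c213 : rangeAll candD 47355 215 = true := by decide +kernel

theorem tD_c214 : rangeAll candD 47570 235 = true := by decide +kernel

theorem tD_c215 : rangeAll candD 47805 243 = true := by decide +kernel

theorem tD_c216 : rangeAll candD 48048 234 = true := by decide +kernel

theorem tD_c217 : rangeAll candD 48282 187 = true := by decide +kernel

theorem tD_c218 : rangeAll candD 48469 250 = true := by decide +kernel

theorem tD_c219 : rangeAll candD 48719 232 = true := by decide +kernel

theorem tD_c220 : rangeAll candD 48951 327 = true := by decide +kernel

theorem tD_c221 : rangeAll candD 49278 232 = true := by decide +kernel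

theorem tD_c222 : rangeAll candD 49510 235 = true := by decide +kernel

theorem tD_c223 : rangeAll candD 49745 224 = true := by decide +kernel

theorem tD_c224 : rangeAll candD 49969 220 = true := by decide +kernel

theorem tD_c225 : rangeAll candD 50189 231 = true := by decide +kernel

theorem tD_c226 : rangeAll candD 50420 218 = true := by decide +kernel

theorem tD_c227 : rangeAll candD 50638 229 = true := by decide +kernel

theorem tD_c228 : rangeAll candD 50867 219 = true := by decide +kernel

theorem tD_c229 : rangeAll candD 51086 245 = true := by decide +kernel

theorem tD_c230 : rangeAll candD 51331 242 = true := by decide +kernel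

theorem tD_c231 : rangeAll candD 51573 215 = true := by decide +kernel

theorem tD_c232 : rangeAll candD 51788 232 = true := by decide +kernel

theorem tD_c233 : rangeAll candD 52020 232 = true := by decide +kernel

theorem tD_c234 : rangeAll candD 52252 232 = true := by decide +kernel

theorem tD_c235 : rangeAll candD 52484 244 = true := by decide +kernel

theorem tD_c236 : rangeAll candD 52728 214 = true := by decide +kernel

theorem tD_c237 : rangeAll candD 52942 245 = true := by decide +kernel

theorem tD_c238 : rangeAll candD 53187 237 = true := by decide +kernel

theorem tD_c239 : rangeAll candD 53424 286 = true := by decide +kernel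

end Cfsg.Agent.Lib.Helper27.Co1O
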