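import Cfsg.Agent.Lib.Helper27.Co1O.Defs

/-! # S2069: sliced kernel computations (candidates for the image of y) -/

set_option autoImplicit false
set_option maxRecDepth 100000
set_option Elab.async false

namespace Cfsg.Agent.Lib.Helper27.Co1O

open Cfsg.Agent.Lib.Helper28.BSGS Cfsg.Agent.Lib.Helper22.SuzOut Cfsg.Agent.Lib.Helper27.TreeSift Cfsg.Agent.Lib.Helper27.Big

theorem tD_c240 : rangeAll candD 53710 254 = true := by decide +kernel

theorem tD_c241 : rangeAll candD 53964 246 = true := by decide +kernel

theorem tD_c242 : rangeAll candD 54210 244 = true := by decide +kernel

theorem tD_c243 : rangeAll candD 54454 246 = true := by decide +kernel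

theorem tD_c244 : rangeAll candD 54700 235 = true := by decide +kernel

theorem tD_c245 : rangeAll candD 54935 247 = true := by decide +kernel

theorem tD_c246 : rangeAll candD 55182 243 = true := by decide +kernel

theorem tD_c247 : rangeAll candD 55425 199 = true := by decide +kernel

theorem tD_c248 : rangeAll candD 55624 209 = true := by decide +kernel

theorem tD_c249 : rangeAll candD 55833 211 = true := by decide +kernel

theorem tD_c250 : rangeAll candD 56044 245 = true := by decide +kernel

theorem tD_c251 : rangeAll candD 56289 249 = true := by decide +kernel

theorem tD_c252 : rangeAll candD 56538 267 = true := by decide +kernel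

theorem tD_c253 : rangeAll candD 56805 263 = true := by decide +kernel

theorem tD_c254 : rangeAll candD 57068 259 = true := by decide +kernel

theorem tD_c255 : rangeAll candD 57327 243 = true := by decide +kernel

theorem tD_c256 : rangeAll candD 57570 225 = true := by decide +kernel

theorem tD_c257 : rangeAll candD 57795 237 = true := by decide +kernel

theorem tD_c258 : rangeAll candD 58032 217 = true := by decide +kernel

theorem tD_c259 : rangeAll candD 58249 238 = true := by decide +kernel

theorem tD_c260 : rangeAll candD 58487 269 = true := by decide +kernel

theorem tD_c261 : rangeAll candD 58756 243 = true := by decide +kernel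

theorem tD_c262 : rangeAll candD 58999 218 = true := by decide +kernel

theorem tD_c263 : rangeAll candD 59217 253 = true := by decide +kernel

theorem tD_c264 : rangeAll candD 59470 226 = true := by decide +kernel

theorem tD_c265 : rangeAll candD 59696 262 = true := by decide +kernel

theorem tD_c266 : rangeAll candD 59958 236 = true := by decide +kernel

theorem tD_c267 : rangeAll candD 60194 226 = true := by decide +kernel

theorem tD_c268 : rangeAll candD 60420 228 = true := by decide +kernel

theorem tD_c269 : rangeAll candD 60648 254 = true := by decide +kernel

theorem tD_c270 : rangeAll candD 60902 242 = true := by decide +kernel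

theorem tD_c271 : rangeAll candD 61144 248 = true := by decide +kernel

theorem tD_c272 : rangeAll candD 61392 254 = true := by decide +kernel

theorem tD_c273 : rangeAll candD 61646 239 = true := by decide +kernel

theorem tD_c274 : rangeAll candD 61885 227 = true := by decide +kernel

theorem tD_c275 : rangeAll candD 62112 253 = true := by decide +kernel

theorem tD_c276 : rangeAll candD 62365 241 = true := by decide +kernel

theorem tD_c277 : rangeAll candD 62606 243 = true := by decide +kernel

theorem tD_c278 : rangeAll candD 62849 237 = true := by decide +kernel

theorem tD_c279 : rangeAll candD 63086 269 = true := by decide +kernel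

end Cfsg.Agent.Lib.Helper27.Co1O
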