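import Cfsg.Agent.Lib.Helper27.Co1O.Defs

/-! # S2069: sliced kernel computations (candidates for the image of y) -/

set_option autoImplicit false
set_option maxRecDepth 100000
set_option Elab.async false

namespace Cfsg.Agent.Lib.Helper27.Co1O

open Cfsg.Agent.Lib.Helper28.BSGS Cfsg.Agent.Lib.Helper22.SuzOut Cfsg.Agent.Lib.Helper27.TreeSift Cfsg.Agent.Lib.Helper27.Big

theorem tD_c280 : rangeAll candD 63355 230 = true := by decide +kernel

theorem tD_c281 : rangeAll candD 63585 249 = true := by decide +kernel

theorem tD_c282 : rangeAll candD 63834 252 = true := by decide +kernel

theorem tD_c283 : rangeAll candD 64086 250 = true := by decide +kernel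

theorem tD_c284 : rangeAll candD 64336 245 = true := by decide +kernel

theorem tD_c285 : rangeAll candD 64581 266 = true := by decide +kernel

theorem tD_c286 : rangeAll candD 64847 229 = true := by decide +kernel

theorem tD_c287 : rangeAll candD 65076 233 = true := by decide +kernel

theorem tD_c288 : rangeAll candD 65309 246 = true := by decide +kernel

theorem tD_c289 : rangeAll candD 65555 265 = true := by decide +kernel

theorem tD_c290 : rangeAll candD 65820 244 = true := by decide +kernel

theorem tD_c291 : rangeAll candD 66064 255 = true := by decide +kernel

theorem tD_c292 : rangeAll candD 66319 261 = true := by decide +kernel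

theorem tD_c293 : rangeAll candD 66580 232 = true := by decide +kernel

theorem tD_c294 : rangeAll candD 66812 228 = true := by decide +kernel

theorem tD_c295 : rangeAll candD 67040 245 = true := by decide +kernel

theorem tD_c296 : rangeAll candD 67285 236 = true := by decide +kernel

theorem tD_c297 : rangeAll candD 67521 242 = true := by decide +kernel

theorem tD_c298 : rangeAll candD 67763 242 = true := by decide +kernel

theorem tD_c299 : rangeAll candD 68005 259 = true := by decide +kernel

theorem tD_c300 : rangeAll candD 68264 242 = true := by decide +kernel

theorem tD_c301 : rangeAll candD 68506 267 = true := by decide +kernel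

theorem tD_c302 : rangeAll candD 68773 281 = true := by decide +kernel

theorem tD_c303 : rangeAll candD 69054 247 = true := by decide +kernel

theorem tD_c304 : rangeAll candD 69301 251 = true := by decide +kernel

theorem tD_c305 : rangeAll candD 69552 260 = true := by decide +kernel

theorem tD_c306 : rangeAll candD 69812 228 = true := by decide +kernel

theorem tD_c307 : rangeAll candD 70040 217 = true := by decide +kernel

theorem tD_c308 : rangeAll candD 70257 247 = true := by decide +kernel

theorem tD_c309 : rangeAll candD 70504 240 = true := by decide +kernel

theorem tD_c310 : rangeAll candD 70744 256 = true := by decide +kernel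

theorem tD_c311 : rangeAll candD 71000 228 = true := by decide +kernel

theorem tD_c312 : rangeAll candD 71228 246 = true := by decide +kernel

theorem tD_c313 : rangeAll candD 71474 194 = true := by decide +kernel

theorem tD_c314 : rangeAll candD 71668 260 = true := by decide +kernel

theorem tD_c315 : rangeAll candD 71928 221 = true := by decide +kernel

theorem tD_c316 : rangeAll candD 72149 233 = true := by decide +kernel

theorem tD_c317 : rangeAll candD 72382 229 = true := by decide +kernel

theorem tD_c318 : rangeAll candD 72611 245 = true := by decide +kernel

theorem tD_c319 : rangeAll candD 72856 221 = true := by decide +kernel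

end Cfsg.Agent.Lib.Helper27.Co1O
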