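import Cfsg.Agent.Lib.Helper27.Co1O.Defs

/-! # S2069: sliced kernel computations (candidates for the image of y) -/

set_option autoImplicit false
set_option maxRecDepth 100000
set_option Elab.async false

namespace Cfsg.Agent.Lib.Helper27.Co1O

open Cfsg.Agent.Lib.Helper28.BSGS Cfsg.Agent.Lib.Helper22.SuzOut Cfsg.Agent.Lib.Helper27.TreeSift Cfsg.Agent.Lib.Helper27.Big

theorem tD_c320 : rangeAll candD 73077 239 = true := by decide +kernel

theorem tD_c321 : rangeAll candD 73316 243 = true := by decide +kernel

theorem tD_c322 : rangeAll candD 73559 241 = true := by decide +kernel

theorem tD_c323 : rangeAll candD 73800 268 = true := by decide +kernel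

theorem tD_c324 : rangeAll candD 74068 253 = true := by decide +kernel

theorem tD_c325 : rangeAll candD 74321 280 = true := by decide +kernel

theorem tD_c326 : rangeAll candD 74601 248 = true := by decide +kernel

theorem tD_c327 : rangeAll candD 74849 249 = true := by decide +kernel

theorem tD_c328 : rangeAll candD 75098 268 = true := by decide +kernel

theorem tD_c329 : rangeAll candD 75366 269 = true := by decide +kernel

theorem tD_c330 : rangeAll candD 75635 203 = true := by decide +kernel

theorem tD_c331 : rangeAll candD 75838 236 = true := by decide +kernel

theorem tD_c332 : rangeAll candD 76074 189 = true := by decide +kernel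

theorem tD_c333 : rangeAll candD 76263 260 = true := by decide +kernel

theorem tD_c334 : rangeAll candD 76523 246 = true := by decide +kernel

theorem tD_c335 : rangeAll candD 76769 241 = true := by decide +kernel

theorem tD_c336 : rangeAll candD 77010 199 = true := by decide +kernel

theorem tD_c337 : rangeAll candD 77209 254 = true := by decide +kernel

theorem tD_c338 : rangeAll candD 77463 253 = true := by decide +kernel

theorem tD_c339 : rangeAll candD 77716 220 = true := by decide +kernel

theorem tD_c340 : rangeAll candD 77936 193 = true := by decide +kernel

theorem tD_c341 : rangeAll candD 78129 252 = true := by decide +kernel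

theorem tD_c342 : rangeAll candD 78381 254 = true := by decide +kernel

theorem tD_c343 : rangeAll candD 78635 265 = true := by decide +kernel

theorem tD_c344 : rangeAll candD 78900 258 = true := by decide +kernel

theorem tD_c345 : rangeAll candD 79158 253 = true := by decide +kernel

theorem tD_c346 : rangeAll candD 79411 264 = true := by decide +kernel

theorem tD_c347 : rangeAll candD 79675 273 = true := by decide +kernel

theorem tD_c348 : rangeAll candD 79948 207 = true := by decide +kernel

theorem tD_c349 : rangeAll candD 80155 293 = true := by decide +kernel

theorem tD_c350 : rangeAll candD 80448 245 = true := by decide +kernel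

theorem tD_c351 : rangeAll candD 80693 244 = true := by decide +kernel

theorem tD_c352 : rangeAll candD 80937 265 = true := by decide +kernel

theorem tD_c353 : rangeAll candD 81202 207 = true := by decide +kernel

theorem tD_c354 : rangeAll candD 81409 274 = true := by decide +kernel

theorem tD_c355 : rangeAll candD 81683 239 = true := by decide +kernel

theorem tD_c356 : rangeAll candD 81922 251 = true := by decide +kernel

theorem tD_c357 : rangeAll candD 82173 239 = true := by decide +kernel

theorem tD_c358 : rangeAll candD 82412 283 = true := by decide +kernel

theorem tD_c359 : rangeAll candD 82695 254 = true := by decide +kernel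

end Cfsg.Agent.Lib.Helper27.Co1O
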