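import Cfsg.Agent.Lib.Helper27.Co1O.Defs

/-! # S2069: sliced kernel computations (candidates for the image of y) -/

set_option autoImplicit false
set_option maxRecDepth 100000
set_option Elab.async false

namespace Cfsg.Agent.Lib.Helper27.Co1O

open Cfsg.Agent.Lib.Helper28.BSGS Cfsg.Agent.Lib.Helper22.SuzOut Cfsg.Agent.Lib.Helper27.TreeSift Cfsg.Agent.Lib.Helper27.Big

theorem tD_c360 : rangeAll candD 82949 257 = true := by decide +kernel

theorem tD_c361 : rangeAll candD 83206 224 = true := by decide +kernel

theorem tD_c362 : rangeAll candD 83430 234 = true := by decide +kernel

theorem tD_c363 : rangeAll candD 83664 263 = true := by decide +kernel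

theorem tD_c364 : rangeAll candD 83927 264 = true := by decide +kernel

theorem tD_c365 : rangeAll candD 84191 252 = true := by decide +kernel

theorem tD_c366 : rangeAll candD 84443 251 = true := by decide +kernel

theorem tD_c367 : rangeAll candD 84694 260 = true := by decide +kernel

theorem tD_c368 : rangeAll candD 84954 282 = true := by decide +kernel

theorem tD_c369 : rangeAll candD 85236 162 = true := by decide +kernel

theorem tD_c370 : rangeAll candD 85398 268 = true := by decide +kernel

theorem tD_c371 : rangeAll candD 85666 270 = true := by decide +kernel

theorem tD_c372 : rangeAll candD 85936 262 = true := by decide +kernel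

theorem tD_c373 : rangeAll candD 86198 188 = true := by decide +kernel

theorem tD_c374 : rangeAll candD 86386 282 = true := by decide +kernel

theorem tD_c375 : rangeAll candD 86668 250 = true := by decide +kernel

theorem tD_c376 : rangeAll candD 86918 238 = true := by decide +kernel

theorem tD_c377 : rangeAll candD 87156 227 = true := by decide +kernel

theorem tD_c378 : rangeAll candD 87383 255 = true := by decide +kernel

theorem tD_c379 : rangeAll candD 87638 212 = true := by decide +kernel

theorem tD_c380 : rangeAll candD 87850 269 = true := by decide +kernel

theorem tD_c381 : rangeAll candD 88119 268 = true := by decide +kernel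

theorem tD_c382 : rangeAll candD 88387 237 = true := by decide +kernel

theorem tD_c383 : rangeAll candD 88624 224 = true := by decide +kernel

theorem tD_c384 : rangeAll candD 88848 280 = true := by decide +kernel

theorem tD_c385 : rangeAll candD 89128 270 = true := by decide +kernel

theorem tD_c386 : rangeAll candD 89398 289 = true := by decide +kernel

theorem tD_c387 : rangeAll candD 89687 229 = true := by decide +kernel

theorem tD_c388 : rangeAll candD 89916 248 = true := by decide +kernel

theorem tD_c389 : rangeAll candD 90164 261 = true := by decide +kernel

theorem tD_c390 : rangeAll candD 90425 264 = true := by decide +kernel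

theorem tD_c391 : rangeAll candD 90689 244 = true := by decide +kernel

theorem tD_c392 : rangeAll candD 90933 268 = true := by decide +kernel

theorem tD_c393 : rangeAll candD 91201 267 = true := by decide +kernel

theorem tD_c394 : rangeAll candD 91468 246 = true := by decide +kernel

theorem tD_c395 : rangeAll candD 91714 275 = true := by decide +kernel

theorem tD_c396 : rangeAll candD 91989 267 = true := by decide +kernel

theorem tD_c397 : rangeAll candD 92256 268 = true := by decide +kernel

theorem tD_c398 : rangeAll candD 92524 257 = true := by decide +kernel

theorem tD_c399 : rangeAll candD 92781 249 = true := by decide +kernel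

end Cfsg.Agent.Lib.Helper27.Co1O
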