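import Cfsg.Agent.Lib.Helper27.Co1O.TestA0
import Cfsg.Agent.Lib.Helper27.Co1O.TestA1
import Cfsg.Agent.Lib.Helper27.Co1O.TestA2
import Cfsg.Agent.Lib.Helper27.Co1O.TestA3
import Cfsg.Agent.Lib.Helper27.Co1O.TestA4
import Cfsg.Agent.Lib.Helper27.Co1O.TestA5
import Cfsg.Agent.Lib.Helper27.Co1O.TestA6
import Cfsg.Agent.Lib.Helper27.Co1O.TestA7
import Cfsg.Agent.Lib.Helper27.Co1O.TestA8
import Cfsg.Agent.Lib.Helper27.Co1O.TestA9
import Cfsg.Agent.Lib.Helper27.Co1O.TestD0
import Cfsg.Agent.Lib.Helper27.Co1O.TestD1
import Cfsg.Agent.Lib.Helper27.Co1O.TestD2
import Cfsg.Agent.Lib.Helper27.Co1O.TestD3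
import Cfsg.Agent.Lib.Helper27.Co1O.TestD4
import Cfsg.Agent.Lib.Helper27.Co1O.TestD5
import Cfsg.Agent.Lib.Helper27.Co1O.TestD6
import Cfsg.Agent.Lib.Helper27.Co1O.TestD7
import Cfsg.Agent.Lib.Helper27.Co1O.TestD8
import Cfsg.Agent.Lib.Helper27.Co1O.TestD9
import Cfsg.Agent.Lib.Helper27.Co1O.TestD10

/-! # S2069: gluing the slices of the candidate tests -/

set_option autoImplicit false

namespace Cfsg.Agent.Lib.Helper27.Co1O

open Cfsg.Agent.Lib.Helper28.BSGS Cfsg.Agent.Lib.Helper22.SuzOut Cfsg.Agent.Lib.Helper27.TreeSift Cfsg.Agent.Lib.Helper27.Big

theorem tA_g0 : allBelow candA 240 = true :=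
  allBelow_extend (f := candA) (lo := 0) (len := 240) (allBelow_zero candA) tA_c0

theorem tA_g1 : allBelow candA 491 = true :=
  allBelow_extend (f := candA) (lo := 240) (len := 251) tA_g0 tA_c1

theorem tA_g2 : allBelow candA 726 = true :=
  allBelow_extend (f := candA) (lo := 491) (len := 235) tA_g1 tA_c2

theorem tA_g3 : allBelow candA 974 = true :=
  allBelow_extend (f := candA) (lo := 726) (len := 248) tA_g2 tA_c3

theorem tA_g4 : allBelow candA 1237 = true :=
  allBelow_extend (f := candA) (lo := 974) (len := 263) tA_g3 tA_c4

theorem tA_g5 : allBelow candA 1481 = true :=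
  allBelow_extend (f := candA) (lo := 1237) (len := 244) tA_g4 tA_c5

theorem tA_g6 : allBelow candA 1709 = true :=
  allBelow_extend (f := candA) (lo := 1481) (len := 228) tA_g5 tA_c6

theorem tA_g7 : allBelow candA 1946 = true :=
  allBelow_extend (f := candA) (lo := 1709) (len := 237) tA_g6 tA_c7

theorem tA_g8 : allBelow candA 2180 = true :=
  allBelow_extend (f := candA) (lo := 1946) (len := 234) tA_g7 tA_c8

theorem tA_g9 : allBelow candA 2416 = true :=
  allBelow_extend (f := candA) (lo := 2180) (len := 236) tA_g8 tA_c9

theorem tA_g10 : allBelow candA 2672 = true :=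
  allBelow_extend (f := candA) (lo := 2416) (len := 256) tA_g9 tA_c10

theorem tA_g11 : allBelow candA 2928 = true :=
  allBelow_extend (f := candA) (lo := 2672) (len := 256) tA_g10 tA_c11

theorem tA_g12 : allBelow candA 3184 = true :=
  allBelow_extend (f := candA) (lo := 2928) (len := 256) tA_g11 tA_c12

theorem tA_g13 : allBelow candA 3423 = true :=
  allBelow_extend (f := candA) (lo := 3184) (len := 239) tA_g12 tA_c13

theorem tA_g14 : allBelow candA 3660 = true :=
  allBelow_extend (f := candA) (lo := 3423) (len := 237) tA_g13 tA_c14

theorem tA_g15 : allBelow candA 3915 = true :=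
  allBelow_extend (f := candA) (lo := 3660) (len := 255) tA_g14 tA_c15

theorem tA_g16 : allBelow candA 4149 = true :=
  allBelow_extend (f := candA) (lo := 3915) (len := 234) tA_g15 tA_c16

theorem tA_g17 : allBelow candA 4398 = true :=
  allBelow_extend (f := candA) (lo := 4149) (len := 249) tA_g16 tA_c17

theorem tA_g18 : allBelow candA 4639 = true :=
  allBelow_extend (f := candA) (lo := 4398) (len := 241) tA_g17 tA_c18

theorem tA_g19 : allBelow candA 4875 = true :=
  allBelow_extend (f := candA) (lo := 4639) (len := 236) tA_g18 tA_c19

theorem tA_g20 : allBelow candA 5117 = true :=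
  allBelow_extend (f := candA) (lo := 4875) (len := 242) tA_g19 tA_c20

theorem tA_g21 : allBelow candA 5365 = true :=
  allBelow_extend (f := candA) (lo := 5117) (len := 248) tA_g20 tA_c21

theorem tA_g22 : allBelow candA 5607 = true :=
  allBelow_extend (f := candA) (lo := 5365) (len := 242) tA_g21 tA_c22

theorem tA_g23 : allBelow candA 5860 = true :=
  allBelow_extend (f := candA) (lo := 5607) (len := 253) tA_g22 tA_c23

theorem tA_g24 : allBelow candA 6106 = true :=
  allBelow_extend (f := candA) (lo := 5860) (len := 246) tA_g23 tA_c24

theorem tA_g25 : allBelow candA 6359 = true :=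
  allBelow_extend (f := candA) (lo := 6106) (len := 253) tA_g24 tA_c25

theorem tA_g26 : allBelow candA 6609 = true :=
  allBelow_extend (f := candA) (lo := 6359) (len := 250) tA_g25 tA_c26

theorem tA_g27 : allBelow candA 6865 = true :=
  allBelow_extend (f := candA) (lo := 6609) (len := 256) tA_g26 tA_c27

theorem tA_g28 : allBelow candA 7116 = true :=
  allBelow_extend (f := candA) (lo := 6865) (len := 251) tA_g27 tA_c28

theorem tA_g29 : allBelow candA 7370 = true :=
  allBelow_extend (f := candA) (lo := 7116) (len := 254) tA_g28 tA_c29

theorem tA_g30 : allBelow candA 7625 = true :=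
  allBelow_extend (f := candA) (lo := 7370) (len := 255) tA_g29 tA_c30

theorem tA_g31 : allBelow candA 7878 = true :=
  allBelow_extend (f := candA) (lo := 7625) (len := 253) tA_g30 tA_c31

theorem tA_g32 : allBelow candA 8134 = true :=
  allBelow_extend (f := candA) (lo := 7878) (len := 256) tA_g31 tA_c32

theorem tA_g33 : allBelow candA 8402 = true :=
  allBelow_extend (f := candA) (lo := 8134) (len := 268) tA_g32 tA_c33

theorem tA_g34 : allBelow candA 8629 = true :=
  allBelow_extend (f := candA) (lo := 8402) (len := 227) tA_g33 tA_c34

theorem tA_g35 : allBelow candA 8897 = true :=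
  allBelow_extend (f := candA) (lo := 8629) (len := 268) tA_g34 tA_c35

theorem tA_g36 : allBelow candA 9167 = true :=
  allBelow_extend (f := candA) (lo := 8897) (len := 270) tA_g35 tA_c36

theorem tA_g37 : allBelow candA 9402 = true :=
  allBelow_extend (f := candA) (lo := 9167) (len := 235) tA_g36 tA_c37

theorem tA_g38 : allBelow candA 9643 = true :=
  allBelow_extend (f := candA) (lo := 9402) (len := 241) tA_g37 tA_c38

theorem tA_g39 : allBelow candA 9879 = true :=
  allBelow_extend (f := candA) (lo := 9643) (len := 236) tA_g38 tA_c39

theorem tA_g40 : allBelow candA 10121 = true :=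
  allBelow_extend (f := candA) (lo := 9879) (len := 242) tA_g39 tA_c40

theorem tA_g41 : allBelow candA 10333 = true :=
  allBelow_extend (f := candA) (lo := 10121) (len := 212) tA_g40 tA_c41

theorem tA_g42 : allBelow candA 10568 = true :=
  allBelow_extend (f := candA) (lo := 10333) (len := 235) tA_g41 tA_c42

theorem tA_g43 : allBelow candA 10787 = true :=
  allBelow_extend (f := candA) (lo := 10568) (len := 219) tA_g42 tA_c43

theorem tA_g44 : allBelow candA 11037 = true :=
  allBelow_extend (f := candA) (lo := 10787) (len := 250) tA_g43 tA_c44

theorem tA_g45 : allBelow candA 11276 = true :=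
  allBelow_extend (f := candA) (lo := 11037) (len := 239) tA_g44 tA_c45

theorem tA_g46 : allBelow candA 11518 = true :=
  allBelow_extend (f := candA) (lo := 11276) (len := 242) tA_g45 tA_c46

theorem tA_g47 : allBelow candA 11743 = true :=
  allBelow_extend (f := candA) (lo := 11518) (len := 225) tA_g46 tA_c47

theorem tA_g48 : allBelow candA 11985 = true :=
  allBelow_extend (f := candA) (lo := 11743) (len := 242) tA_g47 tA_c48

theorem tA_g49 : allBelow candA 12221 = true :=
  allBelow_extend (f := candA) (lo := 11985) (len := 236) tA_g48 tA_c49

theorem tA_g50 : allBelow candA 12462 = true :=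
  allBelow_extend (f := candA) (lo := 12221) (len := 241) tA_g49 tA_c50

theorem tA_g51 : allBelow candA 12701 = true :=
  allBelow_extend (f := candA) (lo := 12462) (len := 239) tA_g50 tA_c51

theorem tA_g52 : allBelow candA 12935 = true :=
  allBelow_extend (f := candA) (lo := 12701) (len := 234) tA_g51 tA_c52

theorem tA_g53 : allBelow candA 13174 = true :=
  allBelow_extend (f := candA) (lo := 12935) (len := 239) tA_g52 tA_c53

theorem tA_g54 : allBelow candA 13395 = true :=
  allBelow_extend (f := candA) (lo := 13174) (len := 221) tA_g53 tA_c54

theorem tA_g55 : allBelow candA 13634 = true :=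
  allBelow_extend (f := candA) (lo := 13395) (len := 239) tA_g54 tA_c55

theorem tA_g56 : allBelow candA 13870 = true :=
  allBelow_extend (f := candA) (lo := 13634) (len := 236) tA_g55 tA_c56

theorem tA_g57 : allBelow candA 14110 = true :=
  allBelow_extend (f := candA) (lo := 13870) (len := 240) tA_g56 tA_c57

theorem tA_g58 : allBelow candA 14352 = true :=
  allBelow_extend (f := candA) (lo := 14110) (len := 242) tA_g57 tA_c58

theorem tA_g59 : allBelow candA 14613 = true :=
  allBelow_extend (f := candA) (lo := 14352) (len := 261) tA_g58 tA_c59

theorem tA_g60 : allBelow candA 14861 = true :=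
  allBelow_extend (f := candA) (lo := 14613) (len := 248) tA_g59 tA_c60

theorem tA_g61 : allBelow candA 15100 = true :=
  allBelow_extend (f := candA) (lo := 14861) (len := 239) tA_g60 tA_c61

theorem tA_g62 : allBelow candA 15359 = true :=
  allBelow_extend (f := candA) (lo := 15100) (len := 259) tA_g61 tA_c62

theorem tA_g63 : allBelow candA 15600 = true :=
  allBelow_extend (f := candA) (lo := 15359) (len := 241) tA_g62 tA_c63

theorem tA_g64 : allBelow candA 15839 = true :=
  allBelow_extend (f := candA) (lo := 15600) (len := 239) tA_g63 tA_c64

theorem tA_g65 : allBelow candA 16099 = true :=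
  allBelow_extend (f := candA) (lo := 15839) (len := 260) tA_g64 tA_c65

theorem tA_g66 : allBelow candA 16342 = true :=
  allBelow_extend (f := candA) (lo := 16099) (len := 243) tA_g65 tA_c66

theorem tA_g67 : allBelow candA 16582 = true :=
  allBelow_extend (f := candA) (lo := 16342) (len := 240) tA_g66 tA_c67

theorem tA_g68 : allBelow candA 16829 = true :=
  allBelow_extend (f := candA) (lo := 16582) (len := 247) tA_g67 tA_c68

theorem tA_g69 : allBelow candA 17070 = true :=
  allBelow_extend (f := candA) (lo := 16829) (len := 241) tA_g68 tA_c69

theorem tA_g70 : allBelow candA 17318 = true :=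
  allBelow_extend (f := candA) (lo := 17070) (len := 248) tA_g69 tA_c70

theorem tA_g71 : allBelow candA 17555 = true :=
  allBelow_extend (f := candA) (lo := 17318) (len := 237) tA_g70 tA_c71

theorem tA_g72 : allBelow candA 17805 = true :=
  allBelow_extend (f := candA) (lo := 17555) (len := 250) tA_g71 tA_c72

theorem tA_g73 : allBelow candA 18053 = true :=
  allBelow_extend (f := candA) (lo := 17805) (len := 248) tA_g72 tA_c73

theorem tA_g74 : allBelow candA 18314 = true :=
  allBelow_extend (f := candA) (lo := 18053) (len := 261) tA_g73 tA_c74

theorem tA_g75 : allBelow candA 18571 = true :=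
  allBelow_extend (f := candA) (lo := 18314) (len := 257) tA_g74 tA_c75

theorem tA_g76 : allBelow candA 18829 = true :=
  allBelow_extend (f := candA) (lo := 18571) (len := 258) tA_g75 tA_c76

theorem tA_g77 : allBelow candA 19087 = true :=
  allBelow_extend (f := candA) (lo := 18829) (len := 258) tA_g76 tA_c77

theorem tA_g78 : allBelow candA 19325 = true :=
  allBelow_extend (f := candA) (lo := 19087) (len := 238) tA_g77 tA_c78

theorem tA_g79 : allBelow candA 19580 = true :=
  allBelow_extend (f := candA) (lo := 19325) (len := 255) tA_g78 tA_c79

theorem tA_g80 : allBelow candA 19833 = true :=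
  allBelow_extend (f := candA) (lo := 19580) (len := 253) tA_g79 tA_c80

theorem tA_g81 : allBelow candA 20079 = true :=
  allBelow_extend (f := candA) (lo := 19833) (len := 246) tA_g80 tA_c81

theorem tA_g82 : allBelow candA 20323 = true :=
  allBelow_extend (f := candA) (lo := 20079) (len := 244) tA_g81 tA_c82

theorem tA_g83 : allBelow candA 20578 = true :=
  allBelow_extend (f := candA) (lo := 20323) (len := 255) tA_g82 tA_c83

theorem tA_g84 : allBelow candA 20820 = true :=
  allBelow_extend (f := candA) (lo := 20578) (len := 242) tA_g83 tA_c84

theorem tA_g85 : allBelow candA 21074 = true :=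
  allBelow_extend (f := candA) (lo := 20820) (len := 254) tA_g84 tA_c85

theorem tA_g86 : allBelow candA 21330 = true :=
  allBelow_extend (f := candA) (lo := 21074) (len := 256) tA_g85 tA_c86

theorem tA_g87 : allBelow candA 21578 = true :=
  allBelow_extend (f := candA) (lo := 21330) (len := 248) tA_g86 tA_c87

theorem tA_g88 : allBelow candA 21840 = true :=
  allBelow_extend (f := candA) (lo := 21578) (len := 262) tA_g87 tA_c88

theorem tA_g89 : allBelow candA 22098 = true :=
  allBelow_extend (f := candA) (lo := 21840) (len := 258) tA_g88 tA_c89

theorem tA_g90 : allBelow candA 22365 = true :=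
  allBelow_extend (f := candA) (lo := 22098) (len := 267) tA_g89 tA_c90

theorem tA_g91 : allBelow candA 22628 = true :=
  allBelow_extend (f := candA) (lo := 22365) (len := 263) tA_g90 tA_c91

theorem tA_g92 : allBelow candA 22870 = true :=
  allBelow_extend (f := candA) (lo := 22628) (len := 242) tA_g91 tA_c92

theorem tA_g93 : allBelow candA 23120 = true :=
  allBelow_extend (f := candA) (lo := 22870) (len := 250) tA_g92 tA_c93

theorem tA_g94 : allBelow candA 23366 = true :=
  allBelow_extend (f := candA) (lo := 23120) (len := 246) tA_g93 tA_c94

theorem tA_g95 : allBelow candA 23632 = true :=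
  allBelow_extend (f := candA) (lo := 23366) (len := 266) tA_g94 tA_c95

theorem tA_g96 : allBelow candA 23903 = true :=
  allBelow_extend (f := candA) (lo := 23632) (len := 271) tA_g95 tA_c96

theorem tA_g97 : allBelow candA 24169 = true :=
  allBelow_extend (f := candA) (lo := 23903) (len := 266) tA_g96 tA_c97

theorem tA_g98 : allBelow candA 24432 = true :=
  allBelow_extend (f := candA) (lo := 24169) (len := 263) tA_g97 tA_c98

theorem tA_g99 : allBelow candA 24690 = true :=
  allBelow_extend (f := candA) (lo := 24432) (len := 258) tA_g98 tA_c99

theorem tA_g100 : allBelow candA 24961 = true :=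
  allBelow_extend (f := candA) (lo := 24690) (len := 271) tA_g99 tA_c100

theorem tA_g101 : allBelow candA 25236 = true :=
  allBelow_extend (f := candA) (lo := 24961) (len := 275) tA_g100 tA_c101

theorem tA_g102 : allBelow candA 25504 = true :=
  allBelow_extend (f := candA) (lo := 25236) (len := 268) tA_g101 tA_c102

theorem tA_g103 : allBelow candA 25759 = true :=
  allBelow_extend (f := candA) (lo := 25504) (len := 255) tA_g102 tA_c103

theorem tA_g104 : allBelow candA 26032 = true :=
  allBelow_extend (f := candA) (lo := 25759) (len := 273) tA_g103 tA_c104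

theorem tA_g105 : allBelow candA 26287 = true :=
  allBelow_extend (f := candA) (lo := 26032) (len := 255) tA_g104 tA_c105

theorem tA_g106 : allBelow candA 26551 = true :=
  allBelow_extend (f := candA) (lo := 26287) (len := 264) tA_g105 tA_c106

theorem tA_g107 : allBelow candA 26797 = true :=
  allBelow_extend (f := candA) (lo := 26551) (len := 246) tA_g106 tA_c107

theorem tA_g108 : allBelow candA 27048 = true :=
  allBelow_extend (f := candA) (lo := 26797) (len := 251) tA_g107 tA_c108

theorem tA_g109 : allBelow candA 27317 = true :=
  allBelow_extend (f := candA) (lo := 27048) (len := 269) tA_g108 tA_c109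

theorem tA_g110 : allBelow candA 27576 = true :=
  allBelow_extend (f := candA) (lo := 27317) (len := 259) tA_g109 tA_c110

theorem tA_g111 : allBelow candA 27842 = true :=
  allBelow_extend (f := candA) (lo := 27576) (len := 266) tA_g110 tA_c111

theorem tA_g112 : allBelow candA 28110 = true :=
  allBelow_extend (f := candA) (lo := 27842) (len := 268) tA_g111 tA_c112

theorem tA_g113 : allBelow candA 28354 = true :=
  allBelow_extend (f := candA) (lo := 28110) (len := 244) tA_g112 tA_c113

theorem tA_g114 : allBelow candA 28619 = true :=
  allBelow_extend (f := candA) (lo := 28354) (len := 265) tA_g113 tA_c114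

theorem tA_g115 : allBelow candA 28875 = true :=
  allBelow_extend (f := candA) (lo := 28619) (len := 256) tA_g114 tA_c115

theorem tA_g116 : allBelow candA 29157 = true :=
  allBelow_extend (f := candA) (lo := 28875) (len := 282) tA_g115 tA_c116

theorem tA_g117 : allBelow candA 29426 = true :=
  allBelow_extend (f := candA) (lo := 29157) (len := 269) tA_g116 tA_c117

theorem tA_g118 : allBelow candA 29693 = true :=
  allBelow_extend (f := candA) (lo := 29426) (len := 267) tA_g117 tA_c118

theorem tA_g119 : allBelow candA 29957 = true :=
  allBelow_extend (f := candA) (lo := 29693) (len := 264) tA_g118 tA_c119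

theorem tA_g120 : allBelow candA 30221 = true :=
  allBelow_extend (f := candA) (lo := 29957) (len := 264) tA_g119 tA_c120

theorem tA_g121 : allBelow candA 30484 = true :=
  allBelow_extend (f := candA) (lo := 30221) (len := 263) tA_g120 tA_c121

theorem tA_g122 : allBelow candA 30752 = true :=
  allBelow_extend (f := candA) (lo := 30484) (len := 268) tA_g121 tA_c122

theorem tA_g123 : allBelow candA 31022 = true :=
  allBelow_extend (f := candA) (lo := 30752) (len := 270) tA_g122 tA_c123

theorem tA_g124 : allBelow candA 31302 = true :=
  allBelow_extend (f := candA) (lo := 31022) (len := 280) tA_g123 tA_c124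

theorem tA_g125 : allBelow candA 31569 = true :=
  allBelow_extend (f := candA) (lo := 31302) (len := 267) tA_g124 tA_c125

theorem tA_g126 : allBelow candA 31829 = true :=
  allBelow_extend (f := candA) (lo := 31569) (len := 260) tA_g125 tA_c126

theorem tA_g127 : allBelow candA 32098 = true :=
  allBelow_extend (f := candA) (lo := 31829) (len := 269) tA_g126 tA_c127

theorem tA_g128 : allBelow candA 32367 = true :=
  allBelow_extend (f := candA) (lo := 32098) (len := 269) tA_g127 tA_c128

theorem tA_g129 : allBelow candA 32651 = true :=
  allBelow_extend (f := candA) (lo := 32367) (len := 284) tA_g128 tA_c129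

theorem tA_g130 : allBelow candA 32908 = true :=
  allBelow_extend (f := candA) (lo := 32651) (len := 257) tA_g129 tA_c130

theorem tA_g131 : allBelow candA 33153 = true :=
  allBelow_extend (f := candA) (lo := 32908) (len := 245) tA_g130 tA_c131

theorem tA_g132 : allBelow candA 33429 = true :=
  allBelow_extend (f := candA) (lo := 33153) (len := 276) tA_g131 tA_c132

theorem tA_g133 : allBelow candA 33674 = true :=
  allBelow_extend (f := candA) (lo := 33429) (len := 245) tA_g132 tA_c133

theorem tA_g134 : allBelow candA 33918 = true :=
  allBelow_extend (f := candA) (lo := 33674) (len := 244) tA_g133 tA_c134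

theorem tA_g135 : allBelow candA 34183 = true :=
  allBelow_extend (f := candA) (lo := 33918) (len := 265) tA_g134 tA_c135

theorem tA_g136 : allBelow candA 34430 = true :=
  allBelow_extend (f := candA) (lo := 34183) (len := 247) tA_g135 tA_c136

theorem tA_g137 : allBelow candA 34699 = true :=
  allBelow_extend (f := candA) (lo := 34430) (len := 269) tA_g136 tA_c137

theorem tA_g138 : allBelow candA 34955 = true :=
  allBelow_extend (f := candA) (lo := 34699) (len := 256) tA_g137 tA_c138

theorem tA_g139 : allBelow candA 35220 = true :=
  allBelow_extend (f := candA) (lo := 34955) (len := 265) tA_g138 tA_c139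

theorem tA_g140 : allBelow candA 35484 = true :=
  allBelow_extend (f := candA) (lo := 35220) (len := 264) tA_g139 tA_c140

theorem tA_g141 : allBelow candA 35745 = true :=
  allBelow_extend (f := candA) (lo := 35484) (len := 261) tA_g140 tA_c141

theorem tA_g142 : allBelow candA 36019 = true :=
  allBelow_extend (f := candA) (lo := 35745) (len := 274) tA_g141 tA_c142

theorem tA_g143 : allBelow candA 36264 = true :=
  allBelow_extend (f := candA) (lo := 36019) (len := 245) tA_g142 tA_c143

theorem tA_g144 : allBelow candA 36516 = true :=
  allBelow_extend (f := candA) (lo := 36264) (len := 252) tA_g143 tA_c144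

theorem tA_g145 : allBelow candA 36783 = true :=
  allBelow_extend (f := candA) (lo := 36516) (len := 267) tA_g144 tA_c145

theorem tA_g146 : allBelow candA 37040 = true :=
  allBelow_extend (f := candA) (lo := 36783) (len := 257) tA_g145 tA_c146

theorem tA_g147 : allBelow candA 37291 = true :=
  allBelow_extend (f := candA) (lo := 37040) (len := 251) tA_g146 tA_c147

theorem tA_g148 : allBelow candA 37546 = true :=
  allBelow_extend (f := candA) (lo := 37291) (len := 255) tA_g147 tA_c148

theorem tA_g149 : allBelow candA 37792 = true :=
  allBelow_extend (f := candA) (lo := 37546) (len := 246) tA_g148 tA_c149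

theorem tA_g150 : allBelow candA 38049 = true :=
  allBelow_extend (f := candA) (lo := 37792) (len := 257) tA_g149 tA_c150

theorem tA_g151 : allBelow candA 38313 = true :=
  allBelow_extend (f := candA) (lo := 38049) (len := 264) tA_g150 tA_c151

theorem tA_g152 : allBelow candA 38576 = true :=
  allBelow_extend (f := candA) (lo := 38313) (len := 263) tA_g151 tA_c152

theorem tA_g153 : allBelow candA 38836 = true :=
  allBelow_extend (f := candA) (lo := 38576) (len := 260) tA_g152 tA_c153

theorem tA_g154 : allBelow candA 39108 = true :=
  allBelow_extend (f := candA) (lo := 38836) (len := 272) tA_g153 tA_c154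

theorem tA_g155 : allBelow candA 39371 = true :=
  allBelow_extend (f := candA) (lo := 39108) (len := 263) tA_g154 tA_c155

theorem tA_g156 : allBelow candA 39634 = true :=
  allBelow_extend (f := candA) (lo := 39371) (len := 263) tA_g155 tA_c156

theorem tA_g157 : allBelow candA 39889 = true :=
  allBelow_extend (f := candA) (lo := 39634) (len := 255) tA_g156 tA_c157

theorem tA_g158 : allBelow candA 40136 = true :=
  allBelow_extend (f := candA) (lo := 39889) (len := 247) tA_g157 tA_c158

theorem tA_g159 : allBelow candA 40395 = true :=
  allBelow_extend (f := candA) (lo := 40136) (len := 259) tA_g158 tA_c159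

theorem tA_g160 : allBelow candA 40655 = true :=
  allBelow_extend (f := candA) (lo := 40395) (len := 260) tA_g159 tA_c160

theorem tA_g161 : allBelow candA 40926 = true :=
  allBelow_extend (f := candA) (lo := 40655) (len := 271) tA_g160 tA_c161

theorem tA_g162 : allBelow candA 41187 = true :=
  allBelow_extend (f := candA) (lo := 40926) (len := 261) tA_g161 tA_c162

theorem tA_g163 : allBelow candA 41447 = true :=
  allBelow_extend (f := candA) (lo := 41187) (len := 260) tA_g162 tA_c163

theorem tA_g164 : allBelow candA 41727 = true :=
  allBelow_extend (f := candA) (lo := 41447) (len := 280) tA_g163 tA_c164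

theorem tA_g165 : allBelow candA 41986 = true :=
  allBelow_extend (f := candA) (lo := 41727) (len := 259) tA_g164 tA_c165

theorem tA_g166 : allBelow candA 42268 = true :=
  allBelow_extend (f := candA) (lo := 41986) (len := 282) tA_g165 tA_c166

theorem tA_g167 : allBelow candA 42523 = true :=
  allBelow_extend (f := candA) (lo := 42268) (len := 255) tA_g166 tA_c167

theorem tA_g168 : allBelow candA 42782 = true :=
  allBelow_extend (f := candA) (lo := 42523) (len := 259) tA_g167 tA_c168

theorem tA_g169 : allBelow candA 43040 = true :=
  allBelow_extend (f := candA) (lo := 42782) (len := 258) tA_g168 tA_c169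

theorem tA_g170 : allBelow candA 43278 = true :=
  allBelow_extend (f := candA) (lo := 43040) (len := 238) tA_g169 tA_c170

theorem tA_g171 : allBelow candA 43553 = true :=
  allBelow_extend (f := candA) (lo := 43278) (len := 275) tA_g170 tA_c171

theorem tA_g172 : allBelow candA 43816 = true :=
  allBelow_extend (f := candA) (lo := 43553) (len := 263) tA_g171 tA_c172

theorem tA_g173 : allBelow candA 44116 = true :=
  allBelow_extend (f := candA) (lo := 43816) (len := 300) tA_g172 tA_c173

theorem tA_g174 : allBelow candA 44405 = true :=
  allBelow_extend (f := candA) (lo := 44116) (len := 289) tA_g173 tA_c174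

theorem tA_g175 : allBelow candA 44677 = true :=
  allBelow_extend (f := candA) (lo := 44405) (len := 272) tA_g174 tA_c175

theorem tA_g176 : allBelow candA 44945 = true :=
  allBelow_extend (f := candA) (lo := 44677) (len := 268) tA_g175 tA_c176

theorem tA_g177 : allBelow candA 45228 = true :=
  allBelow_extend (f := candA) (lo := 44945) (len := 283) tA_g176 tA_c177

theorem tA_g178 : allBelow candA 45496 = true :=
  allBelow_extend (f := candA) (lo := 45228) (len := 268) tA_g177 tA_c178

theorem tA_g179 : allBelow candA 45771 = true :=
  allBelow_extend (f := candA) (lo := 45496) (len := 275) tA_g178 tA_c179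

theorem tA_g180 : allBelow candA 46051 = true :=
  allBelow_extend (f := candA) (lo := 45771) (len := 280) tA_g179 tA_c180

theorem tA_g181 : allBelow candA 46313 = true :=
  allBelow_extend (f := candA) (lo := 46051) (len := 262) tA_g180 tA_c181

theorem tA_g182 : allBelow candA 46596 = true :=
  allBelow_extend (f := candA) (lo := 46313) (len := 283) tA_g181 tA_c182

theorem tA_g183 : allBelow candA 46872 = true :=
  allBelow_extend (f := candA) (lo := 46596) (len := 276) tA_g182 tA_c183

theorem tA_g184 : allBelow candA 47127 = true :=
  allBelow_extend (f := candA) (lo := 46872) (len := 255) tA_g183 tA_c184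

theorem tA_g185 : allBelow candA 47399 = true :=
  allBelow_extend (f := candA) (lo := 47127) (len := 272) tA_g184 tA_c185

theorem tA_g186 : allBelow candA 47665 = true :=
  allBelow_extend (f := candA) (lo := 47399) (len := 266) tA_g185 tA_c186

theorem tA_g187 : allBelow candA 47928 = true :=
  allBelow_extend (f := candA) (lo := 47665) (len := 263) tA_g186 tA_c187

theorem tA_g188 : allBelow candA 48202 = true :=
  allBelow_extend (f := candA) (lo := 47928) (len := 274) tA_g187 tA_c188

theorem tA_g189 : allBelow candA 48467 = true :=
  allBelow_extend (f := candA) (lo := 48202) (len := 265) tA_g188 tA_c189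

theorem tA_g190 : allBelow candA 48740 = true :=
  allBelow_extend (f := candA) (lo := 48467) (len := 273) tA_g189 tA_c190

theorem tA_g191 : allBelow candA 49039 = true :=
  allBelow_extend (f := candA) (lo := 48740) (len := 299) tA_g190 tA_c191

theorem tA_g192 : allBelow candA 49372 = true :=
  allBelow_extend (f := candA) (lo := 49039) (len := 333) tA_g191 tA_c192

theorem tA_g193 : allBelow candA 49654 = true :=
  allBelow_extend (f := candA) (lo := 49372) (len := 282) tA_g192 tA_c193

theorem tA_g194 : allBelow candA 49927 = true :=
  allBelow_extend (f := candA) (lo := 49654) (len := 273) tA_g193 tA_c194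

theorem tA_g195 : allBelow candA 50201 = true :=
  allBelow_extend (f := candA) (lo := 49927) (len := 274) tA_g194 tA_c195

theorem tA_g196 : allBelow candA 50472 = true :=
  allBelow_extend (f := candA) (lo := 50201) (len := 271) tA_g195 tA_c196

theorem tA_g197 : allBelow candA 50756 = true :=
  allBelow_extend (f := candA) (lo := 50472) (len := 284) tA_g196 tA_c197

theorem tA_g198 : allBelow candA 51031 = true :=
  allBelow_extend (f := candA) (lo := 50756) (len := 275) tA_g197 tA_c198

theorem tA_g199 : allBelow candA 51303 = true :=
  allBelow_extend (f := candA) (lo := 51031) (len := 272) tA_g198 tA_c199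

theorem tA_g200 : allBelow candA 51594 = true :=
  allBelow_extend (f := candA) (lo := 51303) (len := 291) tA_g199 tA_c200

theorem tA_g201 : allBelow candA 51873 = true :=
  allBelow_extend (f := candA) (lo := 51594) (len := 279) tA_g200 tA_c201

theorem tA_g202 : allBelow candA 52150 = true :=
  allBelow_extend (f := candA) (lo := 51873) (len := 277) tA_g201 tA_c202

theorem tA_g203 : allBelow candA 52439 = true :=
  allBelow_extend (f := candA) (lo := 52150) (len := 289) tA_g202 tA_c203

theorem tA_g204 : allBelow candA 52732 = true :=
  allBelow_extend (f := candA) (lo := 52439) (len := 293) tA_g203 tA_c204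

theorem tA_g205 : allBelow candA 53020 = true :=
  allBelow_extend (f := candA) (lo := 52732) (len := 288) tA_g204 tA_c205

theorem tA_g206 : allBelow candA 53293 = true :=
  allBelow_extend (f := candA) (lo := 53020) (len := 273) tA_g205 tA_c206

theorem tA_g207 : allBelow candA 53591 = true :=
  allBelow_extend (f := candA) (lo := 53293) (len := 298) tA_g206 tA_c207

theorem tA_g208 : allBelow candA 53862 = true :=
  allBelow_extend (f := candA) (lo := 53591) (len := 271) tA_g207 tA_c208

theorem tA_g209 : allBelow candA 54143 = true :=
  allBelow_extend (f := candA) (lo := 53862) (len := 281) tA_g208 tA_c209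

theorem tA_g210 : allBelow candA 54422 = true :=
  allBelow_extend (f := candA) (lo := 54143) (len := 279) tA_g209 tA_c210

theorem tA_g211 : allBelow candA 54715 = true :=
  allBelow_extend (f := candA) (lo := 54422) (len := 293) tA_g210 tA_c211

theorem tA_g212 : allBelow candA 55004 = true :=
  allBelow_extend (f := candA) (lo := 54715) (len := 289) tA_g211 tA_c212

theorem tA_g213 : allBelow candA 55285 = true :=
  allBelow_extend (f := candA) (lo := 55004) (len := 281) tA_g212 tA_c213

theorem tA_g214 : allBelow candA 55561 = true :=
  allBelow_extend (f := candA) (lo := 55285) (len := 276) tA_g213 tA_c214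

theorem tA_g215 : allBelow candA 55826 = true :=
  allBelow_extend (f := candA) (lo := 55561) (len := 265) tA_g214 tA_c215

theorem tA_g216 : allBelow candA 56120 = true :=
  allBelow_extend (f := candA) (lo := 55826) (len := 294) tA_g215 tA_c216

theorem tA_g217 : allBelow candA 56411 = true :=
  allBelow_extend (f := candA) (lo := 56120) (len := 291) tA_g216 tA_c217

theorem tA_g218 : allBelow candA 56703 = true :=
  allBelow_extend (f := candA) (lo := 56411) (len := 292) tA_g217 tA_c218

theorem tA_g219 : allBelow candA 56972 = true :=
  allBelow_extend (f := candA) (lo := 56703) (len := 269) tA_g218 tA_c219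

theorem tA_g220 : allBelow candA 57263 = true :=
  allBelow_extend (f := candA) (lo := 56972) (len := 291) tA_g219 tA_c220

theorem tA_g221 : allBelow candA 57535 = true :=
  allBelow_extend (f := candA) (lo := 57263) (len := 272) tA_g220 tA_c221

theorem tA_g222 : allBelow candA 57815 = true :=
  allBelow_extend (f := candA) (lo := 57535) (len := 280) tA_g221 tA_c222

theorem tA_g223 : allBelow candA 58095 = true :=
  allBelow_extend (f := candA) (lo := 57815) (len := 280) tA_g222 tA_c223

theorem tA_g224 : allBelow candA 58380 = true :=
  allBelow_extend (f := candA) (lo := 58095) (len := 285) tA_g223 tA_c224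

theorem tA_g225 : allBelow candA 58673 = true :=
  allBelow_extend (f := candA) (lo := 58380) (len := 293) tA_g224 tA_c225

theorem tA_g226 : allBelow candA 58949 = true :=
  allBelow_extend (f := candA) (lo := 58673) (len := 276) tA_g225 tA_c226

theorem tA_g227 : allBelow candA 59237 = true :=
  allBelow_extend (f := candA) (lo := 58949) (len := 288) tA_g226 tA_c227

theorem tA_g228 : allBelow candA 59530 = true :=
  allBelow_extend (f := candA) (lo := 59237) (len := 293) tA_g227 tA_c228

theorem tA_g229 : allBelow candA 59830 = true :=
  allBelow_extend (f := candA) (lo := 59530) (len := 300) tA_g228 tA_c229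

theorem tA_g230 : allBelow candA 60124 = true :=
  allBelow_extend (f := candA) (lo := 59830) (len := 294) tA_g229 tA_c230

theorem tA_g231 : allBelow candA 60395 = true :=
  allBelow_extend (f := candA) (lo := 60124) (len := 271) tA_g230 tA_c231

theorem tA_g232 : allBelow candA 60685 = true :=
  allBelow_extend (f := candA) (lo := 60395) (len := 290) tA_g231 tA_c232

theorem tA_g233 : allBelow candA 60970 = true :=
  allBelow_extend (f := candA) (lo := 60685) (len := 285) tA_g232 tA_c233

theorem tA_g234 : allBelow candA 61266 = true :=
  allBelow_extend (f := candA) (lo := 60970) (len := 296) tA_g233 tA_c234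

theorem tA_g235 : allBelow candA 61555 = true :=
  allBelow_extend (f := candA) (lo := 61266) (len := 289) tA_g234 tA_c235

theorem tA_g236 : allBelow candA 61847 = true :=
  allBelow_extend (f := candA) (lo := 61555) (len := 292) tA_g235 tA_c236

theorem tA_g237 : allBelow candA 62124 = true :=
  allBelow_extend (f := candA) (lo := 61847) (len := 277) tA_g236 tA_c237

theorem tA_g238 : allBelow candA 62421 = true :=
  allBelow_extend (f := candA) (lo := 62124) (len := 297) tA_g237 tA_c238

theorem tA_g239 : allBelow candA 62717 = true :=
  allBelow_extend (f := candA) (lo := 62421) (len := 296) tA_g238 tA_c239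

theorem tA_g240 : allBelow candA 63014 = true :=
  allBelow_extend (f := candA) (lo := 62717) (len := 297) tA_g239 tA_c240

theorem tA_g241 : allBelow candA 63297 = true :=
  allBelow_extend (f := candA) (lo := 63014) (len := 283) tA_g240 tA_c241

theorem tA_g242 : allBelow candA 63585 = true :=
  allBelow_extend (f := candA) (lo := 63297) (len := 288) tA_g241 tA_c242

theorem tA_g243 : allBelow candA 63881 = true :=
  allBelow_extend (f := candA) (lo := 63585) (len := 296) tA_g242 tA_c243

theorem tA_g244 : allBelow candA 64161 = true :=
  allBelow_extend (f := candA) (lo := 63881) (len := 280) tA_g243 tA_c244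

theorem tA_g245 : allBelow candA 64449 = true :=
  allBelow_extend (f := candA) (lo := 64161) (len := 288) tA_g244 tA_c245

theorem tA_g246 : allBelow candA 64751 = true :=
  allBelow_extend (f := candA) (lo := 64449) (len := 302) tA_g245 tA_c246

theorem tA_g247 : allBelow candA 65034 = true :=
  allBelow_extend (f := candA) (lo := 64751) (len := 283) tA_g246 tA_c247

theorem tA_g248 : allBelow candA 65320 = true :=
  allBelow_extend (f := candA) (lo := 65034) (len := 286) tA_g247 tA_c248

theorem tA_g249 : allBelow candA 65624 = true :=
  allBelow_extend (f := candA) (lo := 65320) (len := 304) tA_g248 tA_c249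

theorem tA_g250 : allBelow candA 65904 = true :=
  allBelow_extend (f := candA) (lo := 65624) (len := 280) tA_g249 tA_c250

theorem tA_g251 : allBelow candA 66175 = true :=
  allBelow_extend (f := candA) (lo := 65904) (len := 271) tA_g250 tA_c251

theorem tA_g252 : allBelow candA 66461 = true :=
  allBelow_extend (f := candA) (lo := 66175) (len := 286) tA_g251 tA_c252

theorem tA_g253 : allBelow candA 66718 = true :=
  allBelow_extend (f := candA) (lo := 66461) (len := 257) tA_g252 tA_c253

theorem tA_g254 : allBelow candA 66996 = true :=
  allBelow_extend (f := candA) (lo := 66718) (len := 278) tA_g253 tA_c254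

theorem tA_g255 : allBelow candA 67258 = true :=
  allBelow_extend (f := candA) (lo := 66996) (len := 262) tA_g254 tA_c255

theorem tA_g256 : allBelow candA 67554 = true :=
  allBelow_extend (f := candA) (lo := 67258) (len := 296) tA_g255 tA_c256

theorem tA_g257 : allBelow candA 67844 = true :=
  allBelow_extend (f := candA) (lo := 67554) (len := 290) tA_g256 tA_c257

theorem tA_g258 : allBelow candA 68120 = true :=
  allBelow_extend (f := candA) (lo := 67844) (len := 276) tA_g257 tA_c258

theorem tA_g259 : allBelow candA 68406 = true :=
  allBelow_extend (f := candA) (lo := 68120) (len := 286) tA_g258 tA_c259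

theorem tA_g260 : allBelow candA 68677 = true :=
  allBelow_extend (f := candA) (lo := 68406) (len := 271) tA_g259 tA_c260

theorem tA_g261 : allBelow candA 68956 = true :=
  allBelow_extend (f := candA) (lo := 68677) (len := 279) tA_g260 tA_c261

theorem tA_g262 : allBelow candA 69228 = true :=
  allBelow_extend (f := candA) (lo := 68956) (len := 272) tA_g261 tA_c262

theorem tA_g263 : allBelow candA 69522 = true :=
  allBelow_extend (f := candA) (lo := 69228) (len := 294) tA_g262 tA_c263

theorem tA_g264 : allBelow candA 69792 = true :=
  allBelow_extend (f := candA) (lo := 69522) (len := 270) tA_g263 tA_c264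

theorem tA_g265 : allBelow candA 70065 = true :=
  allBelow_extend (f := candA) (lo := 69792) (len := 273) tA_g264 tA_c265

theorem tA_g266 : allBelow candA 70346 = true :=
  allBelow_extend (f := candA) (lo := 70065) (len := 281) tA_g265 tA_c266

theorem tA_g267 : allBelow candA 70626 = true :=
  allBelow_extend (f := candA) (lo := 70346) (len := 280) tA_g266 tA_c267

theorem tA_g268 : allBelow candA 70909 = true :=
  allBelow_extend (f := candA) (lo := 70626) (len := 283) tA_g267 tA_c268

theorem tA_g269 : allBelow candA 71196 = true :=
  allBelow_extend (f := candA) (lo := 70909) (len := 287) tA_g268 tA_c269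

theorem tA_g270 : allBelow candA 71483 = true :=
  allBelow_extend (f := candA) (lo := 71196) (len := 287) tA_g269 tA_c270

theorem tA_g271 : allBelow candA 71769 = true :=
  allBelow_extend (f := candA) (lo := 71483) (len := 286) tA_g270 tA_c271

theorem tA_g272 : allBelow candA 72051 = true :=
  allBelow_extend (f := candA) (lo := 71769) (len := 282) tA_g271 tA_c272

theorem tA_g273 : allBelow candA 72330 = true :=
  allBelow_extend (f := candA) (lo := 72051) (len := 279) tA_g272 tA_c273

theorem tA_g274 : allBelow candA 72603 = true :=
  allBelow_extend (f := candA) (lo := 72330) (len := 273) tA_g273 tA_c274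

theorem tA_g275 : allBelow candA 72871 = true :=
  allBelow_extend (f := candA) (lo := 72603) (len := 268) tA_g274 tA_c275

theorem tA_g276 : allBelow candA 73174 = true :=
  allBelow_extend (f := candA) (lo := 72871) (len := 303) tA_g275 tA_c276

theorem tA_g277 : allBelow candA 73447 = true :=
  allBelow_extend (f := candA) (lo := 73174) (len := 273) tA_g276 tA_c277

theorem tA_g278 : allBelow candA 73731 = true :=
  allBelow_extend (f := candA) (lo := 73447) (len := 284) tA_g277 tA_c278

theorem tA_g279 : allBelow candA 74015 = true :=
  allBelow_extend (f := candA) (lo := 73731) (len := 284) tA_g278 tA_c279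

theorem tA_g280 : allBelow candA 74317 = true :=
  allBelow_extend (f := candA) (lo := 74015) (len := 302) tA_g279 tA_c280

theorem tA_g281 : allBelow candA 74585 = true :=
  allBelow_extend (f := candA) (lo := 74317) (len := 268) tA_g280 tA_c281

theorem tA_g282 : allBelow candA 74863 = true :=
  allBelow_extend (f := candA) (lo := 74585) (len := 278) tA_g281 tA_c282

theorem tA_g283 : allBelow candA 75147 = true :=
  allBelow_extend (f := candA) (lo := 74863) (len := 284) tA_g282 tA_c283

theorem tA_g284 : allBelow candA 75421 = true :=
  allBelow_extend (f := candA) (lo := 75147) (len := 274) tA_g283 tA_c284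

theorem tA_g285 : allBelow candA 75683 = true :=
  allBelow_extend (f := candA) (lo := 75421) (len := 262) tA_g284 tA_c285

theorem tA_g286 : allBelow candA 75986 = true :=
  allBelow_extend (f := candA) (lo := 75683) (len := 303) tA_g285 tA_c286

theorem tA_g287 : allBelow candA 76272 = true :=
  allBelow_extend (f := candA) (lo := 75986) (len := 286) tA_g286 tA_c287

theorem tA_g288 : allBelow candA 76546 = true :=
  allBelow_extend (f := candA) (lo := 76272) (len := 274) tA_g287 tA_c288

theorem tA_g289 : allBelow candA 76818 = true :=
  allBelow_extend (f := candA) (lo := 76546) (len := 272) tA_g288 tA_c289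

theorem tA_g290 : allBelow candA 77117 = true :=
  allBelow_extend (f := candA) (lo := 76818) (len := 299) tA_g289 tA_c290

theorem tA_g291 : allBelow candA 77414 = true :=
  allBelow_extend (f := candA) (lo := 77117) (len := 297) tA_g290 tA_c291

theorem tA_g292 : allBelow candA 77708 = true :=
  allBelow_extend (f := candA) (lo := 77414) (len := 294) tA_g291 tA_c292

theorem tA_g293 : allBelow candA 78000 = true :=
  allBelow_extend (f := candA) (lo := 77708) (len := 292) tA_g292 tA_c293

theorem tA_g294 : allBelow candA 78277 = true :=
  allBelow_extend (f := candA) (lo := 78000) (len := 277) tA_g293 tA_c294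

theorem tA_g295 : allBelow candA 78555 = true :=
  allBelow_extend (f := candA) (lo := 78277) (len := 278) tA_g294 tA_c295

theorem tA_g296 : allBelow candA 78841 = true :=
  allBelow_extend (f := candA) (lo := 78555) (len := 286) tA_g295 tA_c296

theorem tA_g297 : allBelow candA 79125 = true :=
  allBelow_extend (f := candA) (lo := 78841) (len := 284) tA_g296 tA_c297

theorem tA_g298 : allBelow candA 79418 = true :=
  allBelow_extend (f := candA) (lo := 79125) (len := 293) tA_g297 tA_c298

theorem tA_g299 : allBelow candA 79714 = true :=
  allBelow_extend (f := candA) (lo := 79418) (len := 296) tA_g298 tA_c299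

theorem tA_g300 : allBelow candA 79998 = true :=
  allBelow_extend (f := candA) (lo := 79714) (len := 284) tA_g299 tA_c300

theorem tA_g301 : allBelow candA 80296 = true :=
  allBelow_extend (f := candA) (lo := 79998) (len := 298) tA_g300 tA_c301

theorem tA_g302 : allBelow candA 80582 = true :=
  allBelow_extend (f := candA) (lo := 80296) (len := 286) tA_g301 tA_c302

theorem tA_g303 : allBelow candA 80884 = true :=
  allBelow_extend (f := candA) (lo := 80582) (len := 302) tA_g302 tA_c303

theorem tA_g304 : allBelow candA 81175 = true :=
  allBelow_extend (f := candA) (lo := 80884) (len := 291) tA_g303 tA_c304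

theorem tA_g305 : allBelow candA 81459 = true :=
  allBelow_extend (f := candA) (lo := 81175) (len := 284) tA_g304 tA_c305

theorem tA_g306 : allBelow candA 81755 = true :=
  allBelow_extend (f := candA) (lo := 81459) (len := 296) tA_g305 tA_c306

theorem tA_g307 : allBelow candA 82035 = true :=
  allBelow_extend (f := candA) (lo := 81755) (len := 280) tA_g306 tA_c307

theorem tA_g308 : allBelow candA 82332 = true :=
  allBelow_extend (f := candA) (lo := 82035) (len := 297) tA_g307 tA_c308

theorem tA_g309 : allBelow candA 82624 = true :=
  allBelow_extend (f := candA) (lo := 82332) (len := 292) tA_g308 tA_c309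

theorem tA_g310 : allBelow candA 82933 = true :=
  allBelow_extend (f := candA) (lo := 82624) (len := 309) tA_g309 tA_c310

theorem tA_g311 : allBelow candA 83229 = true :=
  allBelow_extend (f := candA) (lo := 82933) (len := 296) tA_g310 tA_c311

theorem tA_g312 : allBelow candA 83512 = true :=
  allBelow_extend (f := candA) (lo := 83229) (len := 283) tA_g311 tA_c312

theorem tA_g313 : allBelow candA 83816 = true :=
  allBelow_extend (f := candA) (lo := 83512) (len := 304) tA_g312 tA_c313

theorem tA_g314 : allBelow candA 84108 = true :=
  allBelow_extend (f := candA) (lo := 83816) (len := 292) tA_g313 tA_c314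

theorem tA_g315 : allBelow candA 84400 = true :=
  allBelow_extend (f := candA) (lo := 84108) (len := 292) tA_g314 tA_c315

theorem tA_g316 : allBelow candA 84698 = true :=
  allBelow_extend (f := candA) (lo := 84400) (len := 298) tA_g315 tA_c316

theorem tA_g317 : allBelow candA 84991 = true :=
  allBelow_extend (f := candA) (lo := 84698) (len := 293) tA_g316 tA_c317

theorem tA_g318 : allBelow candA 85284 = true :=
  allBelow_extend (f := candA) (lo := 84991) (len := 293) tA_g317 tA_c318

theorem tA_g319 : allBelow candA 85581 = true :=
  allBelow_extend (f := candA) (lo := 85284) (len := 297) tA_g318 tA_c319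

theorem tA_g320 : allBelow candA 85856 = true :=
  allBelow_extend (f := candA) (lo := 85581) (len := 275) tA_g319 tA_c320

theorem tA_g321 : allBelow candA 86175 = true :=
  allBelow_extend (f := candA) (lo := 85856) (len := 319) tA_g320 tA_c321

theorem tA_g322 : allBelow candA 86475 = true :=
  allBelow_extend (f := candA) (lo := 86175) (len := 300) tA_g321 tA_c322

theorem tA_g323 : allBelow candA 86764 = true :=
  allBelow_extend (f := candA) (lo := 86475) (len := 289) tA_g322 tA_c323

theorem tA_g324 : allBelow candA 87071 = true :=
  allBelow_extend (f := candA) (lo := 86764) (len := 307) tA_g323 tA_c324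

theorem tA_g325 : allBelow candA 87358 = true :=
  allBelow_extend (f := candA) (lo := 87071) (len := 287) tA_g324 tA_c325

theorem tA_g326 : allBelow candA 87649 = true :=
  allBelow_extend (f := candA) (lo := 87358) (len := 291) tA_g325 tA_c326

theorem tA_g327 : allBelow candA 87948 = true :=
  allBelow_extend (f := candA) (lo := 87649) (len := 299) tA_g326 tA_c327

theorem tA_g328 : allBelow candA 88247 = true :=
  allBelow_extend (f := candA) (lo := 87948) (len := 299) tA_g327 tA_c328

theorem tA_g329 : allBelow candA 88567 = true :=
  allBelow_extend (f := candA) (lo := 88247) (len := 320) tA_g328 tA_c329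

theorem tA_g330 : allBelow candA 88866 = true :=
  allBelow_extend (f := candA) (lo := 88567) (len := 299) tA_g329 tA_c330

theorem tA_g331 : allBelow candA 89174 = true :=
  allBelow_extend (f := candA) (lo := 88866) (len := 308) tA_g330 tA_c331

theorem tA_g332 : allBelow candA 89485 = true :=
  allBelow_extend (f := candA) (lo := 89174) (len := 311) tA_g331 tA_c332

theorem tA_g333 : allBelow candA 89801 = true :=
  allBelow_extend (f := candA) (lo := 89485) (len := 316) tA_g332 tA_c333

theorem tA_g334 : allBelow candA 90102 = true :=
  allBelow_extend (f := candA) (lo := 89801) (len := 301) tA_g333 tA_c334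

theorem tA_g335 : allBelow candA 90408 = true :=
  allBelow_extend (f := candA) (lo := 90102) (len := 306) tA_g334 tA_c335

theorem tA_g336 : allBelow candA 90712 = true :=
  allBelow_extend (f := candA) (lo := 90408) (len := 304) tA_g335 tA_c336

theorem tA_g337 : allBelow candA 91014 = true :=
  allBelow_extend (f := candA) (lo := 90712) (len := 302) tA_g336 tA_c337

theorem tA_g338 : allBelow candA 91302 = true :=
  allBelow_extend (f := candA) (lo := 91014) (len := 288) tA_g337 tA_c338

theorem tA_g339 : allBelow candA 91577 = true :=
  allBelow_extend (f := candA) (lo := 91302) (len := 275) tA_g338 tA_c339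

theorem tA_g340 : allBelow candA 91880 = true :=
  allBelow_extend (f := candA) (lo := 91577) (len := 303) tA_g339 tA_c340

theorem tA_g341 : allBelow candA 92171 = true :=
  allBelow_extend (f := candA) (lo := 91880) (len := 291) tA_g340 tA_c341

theorem tA_g342 : allBelow candA 92461 = true :=
  allBelow_extend (f := candA) (lo := 92171) (len := 290) tA_g341 tA_c342

theorem tA_g343 : allBelow candA 92767 = true :=
  allBelow_extend (f := candA) (lo := 92461) (len := 306) tA_g342 tA_c343

theorem tA_g344 : allBelow candA 93082 = true :=
  allBelow_extend (f := candA) (lo := 92767) (len := 315) tA_g343 tA_c344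

theorem tA_g345 : allBelow candA 93387 = true :=
  allBelow_extend (f := candA) (lo := 93082) (len := 305) tA_g344 tA_c345

theorem tA_g346 : allBelow candA 93691 = true :=
  allBelow_extend (f := candA) (lo := 93387) (len := 304) tA_g345 tA_c346

theorem tA_g347 : allBelow candA 93997 = true :=
  allBelow_extend (f := candA) (lo := 93691) (len := 306) tA_g346 tA_c347

theorem tA_g348 : allBelow candA 94308 = true :=
  allBelow_extend (f := candA) (lo := 93997) (len := 311) tA_g347 tA_c348

theorem tA_g349 : allBelow candA 94620 = true :=
  allBelow_extend (f := candA) (lo := 94308) (len := 312) tA_g348 tA_c349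

theorem tA_g350 : allBelow candA 94933 = true :=
  allBelow_extend (f := candA) (lo := 94620) (len := 313) tA_g349 tA_c350

theorem tA_g351 : allBelow candA 95234 = true :=
  allBelow_extend (f := candA) (lo := 94933) (len := 301) tA_g350 tA_c351

theorem tA_g352 : allBelow candA 95546 = true :=
  allBelow_extend (f := candA) (lo := 95234) (len := 312) tA_g351 tA_c352

theorem tA_g353 : allBelow candA 95856 = true :=
  allBelow_extend (f := candA) (lo := 95546) (len := 310) tA_g352 tA_c353

theorem tA_g354 : allBelow candA 96158 = true :=
  allBelow_extend (f := candA) (lo := 95856) (len := 302) tA_g353 tA_c354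

theorem tA_g355 : allBelow candA 96445 = true :=
  allBelow_extend (f := candA) (lo := 96158) (len := 287) tA_g354 tA_c355

theorem tA_g356 : allBelow candA 96749 = true :=
  allBelow_extend (f := candA) (lo := 96445) (len := 304) tA_g355 tA_c356

theorem tA_g357 : allBelow candA 97054 = true :=
  allBelow_extend (f := candA) (lo := 96749) (len := 305) tA_g356 tA_c357

theorem tA_g358 : allBelow candA 97358 = true :=
  allBelow_extend (f := candA) (lo := 97054) (len := 304) tA_g357 tA_c358

theorem tA_g359 : allBelow candA 97688 = true :=
  allBelow_extend (f := candA) (lo := 97358) (len := 330) tA_g358 tA_c359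

theorem tA_g360 : allBelow candA 97990 = true :=
  allBelow_extend (f := candA) (lo := 97688) (len := 302) tA_g359 tA_c360

theorem tA_g361 : allBelow candA 98280 = true :=
  allBelow_extend (f := candA) (lo := 97990) (len := 290) tA_g360 tA_c361

theorem tA_all : allBelow candA 98280 = true := tA_g361

theorem tD_g0 : allBelow candD 219 = true :=
  allBelow_extend (f := candD) (lo := 0) (len := 219) (allBelow_zero candD) tD_c0

theorem tD_g1 : allBelow candD 444 = true :=
  allBelow_extend (f := candD) (lo := 219) (len := 225) tD_g0 tD_c1

theorem tD_g2 : allBelow candD 665 = true :=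
  allBelow_extend (f := candD) (lo := 444) (len := 221) tD_g1 tD_c2

theorem tD_g3 : allBelow candD 886 = true :=
  allBelow_extend (f := candD) (lo := 665) (len := 221) tD_g2 tD_c3

theorem tD_g4 : allBelow candD 1122 = true :=
  allBelow_extend (f := candD) (lo := 886) (len := 236) tD_g3 tD_c4

theorem tD_g5 : allBelow candD 1350 = true :=
  allBelow_extend (f := candD) (lo := 1122) (len := 228) tD_g4 tD_c5

theorem tD_g6 : allBelow candD 1520 = true :=
  allBelow_extend (f := candD) (lo := 1350) (len := 170) tD_g5 tD_c6

theorem tD_g7 : allBelow candD 1734 = true :=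
  allBelow_extend (f := candD) (lo := 1520) (len := 214) tD_g6 tD_c7

theorem tD_g8 : allBelow candD 1961 = true :=
  allBelow_extend (f := candD) (lo := 1734) (len := 227) tD_g7 tD_c8

theorem tD_g9 : allBelow candD 2189 = true :=
  allBelow_extend (f := candD) (lo := 1961) (len := 228) tD_g8 tD_c9

theorem tD_g10 : allBelow candD 2419 = true :=
  allBelow_extend (f := candD) (lo := 2189) (len := 230) tD_g9 tD_c10

theorem tD_g11 : allBelow candD 2591 = true :=
  allBelow_extend (f := candD) (lo := 2419) (len := 172) tD_g10 tD_c11

theorem tD_g12 : allBelow candD 2761 = true :=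
  allBelow_extend (f := candD) (lo := 2591) (len := 170) tD_g11 tD_c12

theorem tD_g13 : allBelow candD 2995 = true :=
  allBelow_extend (f := candD) (lo := 2761) (len := 234) tD_g12 tD_c13

theorem tD_g14 : allBelow candD 3215 = true :=
  allBelow_extend (f := candD) (lo := 2995) (len := 220) tD_g13 tD_c14

theorem tD_g15 : allBelow candD 3390 = true :=
  allBelow_extend (f := candD) (lo := 3215) (len := 175) tD_g14 tD_c15

theorem tD_g16 : allBelow candD 3590 = true :=
  allBelow_extend (f := candD) (lo := 3390) (len := 200) tD_g15 tD_c16

theorem tD_g17 : allBelow candD 3817 = true :=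
  allBelow_extend (f := candD) (lo := 3590) (len := 227) tD_g16 tD_c17

theorem tD_g18 : allBelow candD 4028 = true :=
  allBelow_extend (f := candD) (lo := 3817) (len := 211) tD_g17 tD_c18

theorem tD_g19 : allBelow candD 4244 = true :=
  allBelow_extend (f := candD) (lo := 4028) (len := 216) tD_g18 tD_c19

theorem tD_g20 : allBelow candD 4468 = true :=
  allBelow_extend (f := candD) (lo := 4244) (len := 224) tD_g19 tD_c20

theorem tD_g21 : allBelow candD 4689 = true :=
  allBelow_extend (f := candD) (lo := 4468) (len := 221) tD_g20 tD_c21

theorem tD_g22 : allBelow candD 4906 = true :=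
  allBelow_extend (f := candD) (lo := 4689) (len := 217) tD_g21 tD_c22

theorem tD_g23 : allBelow candD 5111 = true :=
  allBelow_extend (f := candD) (lo := 4906) (len := 205) tD_g22 tD_c23

theorem tD_g24 : allBelow candD 5321 = true :=
  allBelow_extend (f := candD) (lo := 5111) (len := 210) tD_g23 tD_c24

theorem tD_g25 : allBelow candD 5534 = true :=
  allBelow_extend (f := candD) (lo := 5321) (len := 213) tD_g24 tD_c25

theorem tD_g26 : allBelow candD 5760 = true :=
  allBelow_extend (f := candD) (lo := 5534) (len := 226) tD_g25 tD_c26

theorem tD_g27 : allBelow candD 5985 = true :=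
  allBelow_extend (f := candD) (lo := 5760) (len := 225) tD_g26 tD_c27

theorem tD_g28 : allBelow candD 6205 = true :=
  allBelow_extend (f := candD) (lo := 5985) (len := 220) tD_g27 tD_c28

theorem tD_g29 : allBelow candD 6449 = true :=
  allBelow_extend (f := candD) (lo := 6205) (len := 244) tD_g28 tD_c29

theorem tD_g30 : allBelow candD 6675 = true :=
  allBelow_extend (f := candD) (lo := 6449) (len := 226) tD_g29 tD_c30

theorem tD_g31 : allBelow candD 6878 = true :=
  allBelow_extend (f := candD) (lo := 6675) (len := 203) tD_g30 tD_c31

theorem tD_g32 : allBelow candD 7116 = true :=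
  allBelow_extend (f := candD) (lo := 6878) (len := 238) tD_g31 tD_c32

theorem tD_g33 : allBelow candD 7342 = true :=
  allBelow_extend (f := candD) (lo := 7116) (len := 226) tD_g32 tD_c33

theorem tD_g34 : allBelow candD 7559 = true :=
  allBelow_extend (f := candD) (lo := 7342) (len := 217) tD_g33 tD_c34

theorem tD_g35 : allBelow candD 7770 = true :=
  allBelow_extend (f := candD) (lo := 7559) (len := 211) tD_g34 tD_c35

theorem tD_g36 : allBelow candD 7981 = true :=
  allBelow_extend (f := candD) (lo := 7770) (len := 211) tD_g35 tD_c36

theorem tD_g37 : allBelow candD 8192 = true :=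
  allBelow_extend (f := candD) (lo := 7981) (len := 211) tD_g36 tD_c37

theorem tD_g38 : allBelow candD 8357 = true :=
  allBelow_extend (f := candD) (lo := 8192) (len := 165) tD_g37 tD_c38

theorem tD_g39 : allBelow candD 8579 = true :=
  allBelow_extend (f := candD) (lo := 8357) (len := 222) tD_g38 tD_c39

theorem tD_g40 : allBelow candD 8807 = true :=
  allBelow_extend (f := candD) (lo := 8579) (len := 228) tD_g39 tD_c40

theorem tD_g41 : allBelow candD 9021 = true :=
  allBelow_extend (f := candD) (lo := 8807) (len := 214) tD_g40 tD_c41

theorem tD_g42 : allBelow candD 9236 = true :=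
  allBelow_extend (f := candD) (lo := 9021) (len := 215) tD_g41 tD_c42

theorem tD_g43 : allBelow candD 9452 = true :=
  allBelow_extend (f := candD) (lo := 9236) (len := 216) tD_g42 tD_c43

theorem tD_g44 : allBelow candD 9676 = true :=
  allBelow_extend (f := candD) (lo := 9452) (len := 224) tD_g43 tD_c44

theorem tD_g45 : allBelow candD 9904 = true :=
  allBelow_extend (f := candD) (lo := 9676) (len := 228) tD_g44 tD_c45

theorem tD_g46 : allBelow candD 10098 = true :=
  allBelow_extend (f := candD) (lo := 9904) (len := 194) tD_g45 tD_c46

theorem tD_g47 : allBelow candD 10293 = true :=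
  allBelow_extend (f := candD) (lo := 10098) (len := 195) tD_g46 tD_c47

theorem tD_g48 : allBelow candD 10497 = true :=
  allBelow_extend (f := candD) (lo := 10293) (len := 204) tD_g47 tD_c48

theorem tD_g49 : allBelow candD 10705 = true :=
  allBelow_extend (f := candD) (lo := 10497) (len := 208) tD_g48 tD_c49

theorem tD_g50 : allBelow candD 10917 = true :=
  allBelow_extend (f := candD) (lo := 10705) (len := 212) tD_g49 tD_c50

theorem tD_g51 : allBelow candD 11119 = true :=
  allBelow_extend (f := candD) (lo := 10917) (len := 202) tD_g50 tD_c51

theorem tD_g52 : allBelow candD 11331 = true :=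
  allBelow_extend (f := candD) (lo := 11119) (len := 212) tD_g51 tD_c52

theorem tD_g53 : allBelow candD 11544 = true :=
  allBelow_extend (f := candD) (lo := 11331) (len := 213) tD_g52 tD_c53

theorem tD_g54 : allBelow candD 11764 = true :=
  allBelow_extend (f := candD) (lo := 11544) (len := 220) tD_g53 tD_c54

theorem tD_g55 : allBelow candD 11982 = true :=
  allBelow_extend (f := candD) (lo := 11764) (len := 218) tD_g54 tD_c55

theorem tD_g56 : allBelow candD 12208 = true :=
  allBelow_extend (f := candD) (lo := 11982) (len := 226) tD_g55 tD_c56

theorem tD_g57 : allBelow candD 12446 = true :=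
  allBelow_extend (f := candD) (lo := 12208) (len := 238) tD_g56 tD_c57

theorem tD_g58 : allBelow candD 12693 = true :=
  allBelow_extend (f := candD) (lo := 12446) (len := 247) tD_g57 tD_c58

theorem tD_g59 : allBelow candD 12897 = true :=
  allBelow_extend (f := candD) (lo := 12693) (len := 204) tD_g58 tD_c59

theorem tD_g60 : allBelow candD 13115 = true :=
  allBelow_extend (f := candD) (lo := 12897) (len := 218) tD_g59 tD_c60

theorem tD_g61 : allBelow candD 13339 = true :=
  allBelow_extend (f := candD) (lo := 13115) (len := 224) tD_g60 tD_c61

theorem tD_g62 : allBelow candD 13566 = true :=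
  allBelow_extend (f := candD) (lo := 13339) (len := 227) tD_g61 tD_c62

theorem tD_g63 : allBelow candD 13791 = true :=
  allBelow_extend (f := candD) (lo := 13566) (len := 225) tD_g62 tD_c63

theorem tD_g64 : allBelow candD 14005 = true :=
  allBelow_extend (f := candD) (lo := 13791) (len := 214) tD_g63 tD_c64

theorem tD_g65 : allBelow candD 14182 = true :=
  allBelow_extend (f := candD) (lo := 14005) (len := 177) tD_g64 tD_c65

theorem tD_g66 : allBelow candD 14404 = true :=
  allBelow_extend (f := candD) (lo := 14182) (len := 222) tD_g65 tD_c66

theorem tD_g67 : allBelow candD 14621 = true :=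
  allBelow_extend (f := candD) (lo := 14404) (len := 217) tD_g66 tD_c67

theorem tD_g68 : allBelow candD 14840 = true :=
  allBelow_extend (f := candD) (lo := 14621) (len := 219) tD_g67 tD_c68

theorem tD_g69 : allBelow candD 15062 = true :=
  allBelow_extend (f := candD) (lo := 14840) (len := 222) tD_g68 tD_c69

theorem tD_g70 : allBelow candD 15296 = true :=
  allBelow_extend (f := candD) (lo := 15062) (len := 234) tD_g69 tD_c70

theorem tD_g71 : allBelow candD 15473 = true :=
  allBelow_extend (f := candD) (lo := 15296) (len := 177) tD_g70 tD_c71

theorem tD_g72 : allBelow candD 15669 = true :=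
  allBelow_extend (f := candD) (lo := 15473) (len := 196) tD_g71 tD_c72

theorem tD_g73 : allBelow candD 15881 = true :=
  allBelow_extend (f := candD) (lo := 15669) (len := 212) tD_g72 tD_c73

theorem tD_g74 : allBelow candD 16082 = true :=
  allBelow_extend (f := candD) (lo := 15881) (len := 201) tD_g73 tD_c74

theorem tD_g75 : allBelow candD 16310 = true :=
  allBelow_extend (f := candD) (lo := 16082) (len := 228) tD_g74 tD_c75

theorem tD_g76 : allBelow candD 16531 = true :=
  allBelow_extend (f := candD) (lo := 16310) (len := 221) tD_g75 tD_c76

theorem tD_g77 : allBelow candD 16761 = true :=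
  allBelow_extend (f := candD) (lo := 16531) (len := 230) tD_g76 tD_c77

theorem tD_g78 : allBelow candD 16988 = true :=
  allBelow_extend (f := candD) (lo := 16761) (len := 227) tD_g77 tD_c78

theorem tD_g79 : allBelow candD 17197 = true :=
  allBelow_extend (f := candD) (lo := 16988) (len := 209) tD_g78 tD_c79

theorem tD_g80 : allBelow candD 17432 = true :=
  allBelow_extend (f := candD) (lo := 17197) (len := 235) tD_g79 tD_c80

theorem tD_g81 : allBelow candD 17663 = true :=
  allBelow_extend (f := candD) (lo := 17432) (len := 231) tD_g80 tD_c81

theorem tD_g82 : allBelow candD 17903 = true :=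
  allBelow_extend (f := candD) (lo := 17663) (len := 240) tD_g81 tD_c82

theorem tD_g83 : allBelow candD 18157 = true :=
  allBelow_extend (f := candD) (lo := 17903) (len := 254) tD_g82 tD_c83

theorem tD_g84 : allBelow candD 18387 = true :=
  allBelow_extend (f := candD) (lo := 18157) (len := 230) tD_g83 tD_c84

theorem tD_g85 : allBelow candD 18608 = true :=
  allBelow_extend (f := candD) (lo := 18387) (len := 221) tD_g84 tD_c85

theorem tD_g86 : allBelow candD 18851 = true :=
  allBelow_extend (f := candD) (lo := 18608) (len := 243) tD_g85 tD_c86

theorem tD_g87 : allBelow candD 19081 = true :=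
  allBelow_extend (f := candD) (lo := 18851) (len := 230) tD_g86 tD_c87

theorem tD_g88 : allBelow candD 19312 = true :=
  allBelow_extend (f := candD) (lo := 19081) (len := 231) tD_g87 tD_c88

theorem tD_g89 : allBelow candD 19541 = true :=
  allBelow_extend (f := candD) (lo := 19312) (len := 229) tD_g88 tD_c89

theorem tD_g90 : allBelow candD 19717 = true :=
  allBelow_extend (f := candD) (lo := 19541) (len := 176) tD_g89 tD_c90

theorem tD_g91 : allBelow candD 19905 = true :=
  allBelow_extend (f := candD) (lo := 19717) (len := 188) tD_g90 tD_c91

theorem tD_g92 : allBelow candD 20137 = true :=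
  allBelow_extend (f := candD) (lo := 19905) (len := 232) tD_g91 tD_c92

theorem tD_g93 : allBelow candD 20361 = true :=
  allBelow_extend (f := candD) (lo := 20137) (len := 224) tD_g92 tD_c93

theorem tD_g94 : allBelow candD 20598 = true :=
  allBelow_extend (f := candD) (lo := 20361) (len := 237) tD_g93 tD_c94

theorem tD_g95 : allBelow candD 20837 = true :=
  allBelow_extend (f := candD) (lo := 20598) (len := 239) tD_g94 tD_c95

theorem tD_g96 : allBelow candD 21048 = true :=
  allBelow_extend (f := candD) (lo := 20837) (len := 211) tD_g95 tD_c96

theorem tD_g97 : allBelow candD 21297 = true :=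
  allBelow_extend (f := candD) (lo := 21048) (len := 249) tD_g96 tD_c97

theorem tD_g98 : allBelow candD 21510 = true :=
  allBelow_extend (f := candD) (lo := 21297) (len := 213) tD_g97 tD_c98

theorem tD_g99 : allBelow candD 21711 = true :=
  allBelow_extend (f := candD) (lo := 21510) (len := 201) tD_g98 tD_c99

theorem tD_g100 : allBelow candD 21937 = true :=
  allBelow_extend (f := candD) (lo := 21711) (len := 226) tD_g99 tD_c100

theorem tD_g101 : allBelow candD 22132 = true :=
  allBelow_extend (f := candD) (lo := 21937) (len := 195) tD_g100 tD_c101

theorem tD_g102 : allBelow candD 22341 = true :=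
  allBelow_extend (f := candD) (lo := 22132) (len := 209) tD_g101 tD_c102

theorem tD_g103 : allBelow candD 22583 = true :=
  allBelow_extend (f := candD) (lo := 22341) (len := 242) tD_g102 tD_c103

theorem tD_g104 : allBelow candD 22805 = true :=
  allBelow_extend (f := candD) (lo := 22583) (len := 222) tD_g103 tD_c104

theorem tD_g105 : allBelow candD 23021 = true :=
  allBelow_extend (f := candD) (lo := 22805) (len := 216) tD_g104 tD_c105

theorem tD_g106 : allBelow candD 23240 = true :=
  allBelow_extend (f := candD) (lo := 23021) (len := 219) tD_g105 tD_c106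

theorem tD_g107 : allBelow candD 23465 = true :=
  allBelow_extend (f := candD) (lo := 23240) (len := 225) tD_g106 tD_c107

theorem tD_g108 : allBelow candD 23664 = true :=
  allBelow_extend (f := candD) (lo := 23465) (len := 199) tD_g107 tD_c108

theorem tD_g109 : allBelow candD 23928 = true :=
  allBelow_extend (f := candD) (lo := 23664) (len := 264) tD_g108 tD_c109

theorem tD_g110 : allBelow candD 24136 = true :=
  allBelow_extend (f := candD) (lo := 23928) (len := 208) tD_g109 tD_c110

theorem tD_g111 : allBelow candD 24374 = true :=
  allBelow_extend (f := candD) (lo := 24136) (len := 238) tD_g110 tD_c111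

theorem tD_g112 : allBelow candD 24598 = true :=
  allBelow_extend (f := candD) (lo := 24374) (len := 224) tD_g111 tD_c112

theorem tD_g113 : allBelow candD 24841 = true :=
  allBelow_extend (f := candD) (lo := 24598) (len := 243) tD_g112 tD_c113

theorem tD_g114 : allBelow candD 25080 = true :=
  allBelow_extend (f := candD) (lo := 24841) (len := 239) tD_g113 tD_c114

theorem tD_g115 : allBelow candD 25308 = true :=
  allBelow_extend (f := candD) (lo := 25080) (len := 228) tD_g114 tD_c115

theorem tD_g116 : allBelow candD 25516 = true :=
  allBelow_extend (f := candD) (lo := 25308) (len := 208) tD_g115 tD_c116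

theorem tD_g117 : allBelow candD 25738 = true :=
  allBelow_extend (f := candD) (lo := 25516) (len := 222) tD_g116 tD_c117

theorem tD_g118 : allBelow candD 25960 = true :=
  allBelow_extend (f := candD) (lo := 25738) (len := 222) tD_g117 tD_c118

theorem tD_g119 : allBelow candD 26145 = true :=
  allBelow_extend (f := candD) (lo := 25960) (len := 185) tD_g118 tD_c119

theorem tD_g120 : allBelow candD 26375 = true :=
  allBelow_extend (f := candD) (lo := 26145) (len := 230) tD_g119 tD_c120

theorem tD_g121 : allBelow candD 26612 = true :=
  allBelow_extend (f := candD) (lo := 26375) (len := 237) tD_g120 tD_c121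

theorem tD_g122 : allBelow candD 26815 = true :=
  allBelow_extend (f := candD) (lo := 26612) (len := 203) tD_g121 tD_c122

theorem tD_g123 : allBelow candD 27032 = true :=
  allBelow_extend (f := candD) (lo := 26815) (len := 217) tD_g122 tD_c123

theorem tD_g124 : allBelow candD 27248 = true :=
  allBelow_extend (f := candD) (lo := 27032) (len := 216) tD_g123 tD_c124

theorem tD_g125 : allBelow candD 27438 = true :=
  allBelow_extend (f := candD) (lo := 27248) (len := 190) tD_g124 tD_c125

theorem tD_g126 : allBelow candD 27677 = true :=
  allBelow_extend (f := candD) (lo := 27438) (len := 239) tD_g125 tD_c126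

theorem tD_g127 : allBelow candD 27900 = true :=
  allBelow_extend (f := candD) (lo := 27677) (len := 223) tD_g126 tD_c127

theorem tD_g128 : allBelow candD 28117 = true :=
  allBelow_extend (f := candD) (lo := 27900) (len := 217) tD_g127 tD_c128

theorem tD_g129 : allBelow candD 28352 = true :=
  allBelow_extend (f := candD) (lo := 28117) (len := 235) tD_g128 tD_c129

theorem tD_g130 : allBelow candD 28582 = true :=
  allBelow_extend (f := candD) (lo := 28352) (len := 230) tD_g129 tD_c130

theorem tD_g131 : allBelow candD 28821 = true :=
  allBelow_extend (f := candD) (lo := 28582) (len := 239) tD_g130 tD_c131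

theorem tD_g132 : allBelow candD 29057 = true :=
  allBelow_extend (f := candD) (lo := 28821) (len := 236) tD_g131 tD_c132

theorem tD_g133 : allBelow candD 29269 = true :=
  allBelow_extend (f := candD) (lo := 29057) (len := 212) tD_g132 tD_c133

theorem tD_g134 : allBelow candD 29509 = true :=
  allBelow_extend (f := candD) (lo := 29269) (len := 240) tD_g133 tD_c134

theorem tD_g135 : allBelow candD 29740 = true :=
  allBelow_extend (f := candD) (lo := 29509) (len := 231) tD_g134 tD_c135

theorem tD_g136 : allBelow candD 29972 = true :=
  allBelow_extend (f := candD) (lo := 29740) (len := 232) tD_g135 tD_c136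

theorem tD_g137 : allBelow candD 30205 = true :=
  allBelow_extend (f := candD) (lo := 29972) (len := 233) tD_g136 tD_c137

theorem tD_g138 : allBelow candD 30458 = true :=
  allBelow_extend (f := candD) (lo := 30205) (len := 253) tD_g137 tD_c138

theorem tD_g139 : allBelow candD 30708 = true :=
  allBelow_extend (f := candD) (lo := 30458) (len := 250) tD_g138 tD_c139

theorem tD_g140 : allBelow candD 30939 = true :=
  allBelow_extend (f := candD) (lo := 30708) (len := 231) tD_g139 tD_c140

theorem tD_g141 : allBelow candD 31176 = true :=
  allBelow_extend (f := candD) (lo := 30939) (len := 237) tD_g140 tD_c141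

theorem tD_g142 : allBelow candD 31399 = true :=
  allBelow_extend (f := candD) (lo := 31176) (len := 223) tD_g141 tD_c142

theorem tD_g143 : allBelow candD 31643 = true :=
  allBelow_extend (f := candD) (lo := 31399) (len := 244) tD_g142 tD_c143

theorem tD_g144 : allBelow candD 31830 = true :=
  allBelow_extend (f := candD) (lo := 31643) (len := 187) tD_g143 tD_c144

theorem tD_g145 : allBelow candD 32063 = true :=
  allBelow_extend (f := candD) (lo := 31830) (len := 233) tD_g144 tD_c145

theorem tD_g146 : allBelow candD 32307 = true :=
  allBelow_extend (f := candD) (lo := 32063) (len := 244) tD_g145 tD_c146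

theorem tD_g147 : allBelow candD 32563 = true :=
  allBelow_extend (f := candD) (lo := 32307) (len := 256) tD_g146 tD_c147

theorem tD_g148 : allBelow candD 32811 = true :=
  allBelow_extend (f := candD) (lo := 32563) (len := 248) tD_g147 tD_c148

theorem tD_g149 : allBelow candD 33039 = true :=
  allBelow_extend (f := candD) (lo := 32811) (len := 228) tD_g148 tD_c149

theorem tD_g150 : allBelow candD 33271 = true :=
  allBelow_extend (f := candD) (lo := 33039) (len := 232) tD_g149 tD_c150

theorem tD_g151 : allBelow candD 33525 = true :=
  allBelow_extend (f := candD) (lo := 33271) (len := 254) tD_g150 tD_c151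

theorem tD_g152 : allBelow candD 33764 = true :=
  allBelow_extend (f := candD) (lo := 33525) (len := 239) tD_g151 tD_c152

theorem tD_g153 : allBelow candD 33984 = true :=
  allBelow_extend (f := candD) (lo := 33764) (len := 220) tD_g152 tD_c153

theorem tD_g154 : allBelow candD 34227 = true :=
  allBelow_extend (f := candD) (lo := 33984) (len := 243) tD_g153 tD_c154

theorem tD_g155 : allBelow candD 34465 = true :=
  allBelow_extend (f := candD) (lo := 34227) (len := 238) tD_g154 tD_c155

theorem tD_g156 : allBelow candD 34657 = true :=
  allBelow_extend (f := candD) (lo := 34465) (len := 192) tD_g155 tD_c156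

theorem tD_g157 : allBelow candD 34894 = true :=
  allBelow_extend (f := candD) (lo := 34657) (len := 237) tD_g156 tD_c157

theorem tD_g158 : allBelow candD 35112 = true :=
  allBelow_extend (f := candD) (lo := 34894) (len := 218) tD_g157 tD_c158

theorem tD_g159 : allBelow candD 35342 = true :=
  allBelow_extend (f := candD) (lo := 35112) (len := 230) tD_g158 tD_c159

theorem tD_g160 : allBelow candD 35571 = true :=
  allBelow_extend (f := candD) (lo := 35342) (len := 229) tD_g159 tD_c160

theorem tD_g161 : allBelow candD 35808 = true :=
  allBelow_extend (f := candD) (lo := 35571) (len := 237) tD_g160 tD_c161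

theorem tD_g162 : allBelow candD 36020 = true :=
  allBelow_extend (f := candD) (lo := 35808) (len := 212) tD_g161 tD_c162

theorem tD_g163 : allBelow candD 36267 = true :=
  allBelow_extend (f := candD) (lo := 36020) (len := 247) tD_g162 tD_c163

theorem tD_g164 : allBelow candD 36503 = true :=
  allBelow_extend (f := candD) (lo := 36267) (len := 236) tD_g163 tD_c164

theorem tD_g165 : allBelow candD 36728 = true :=
  allBelow_extend (f := candD) (lo := 36503) (len := 225) tD_g164 tD_c165

theorem tD_g166 : allBelow candD 36991 = true :=
  allBelow_extend (f := candD) (lo := 36728) (len := 263) tD_g165 tD_c166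

theorem tD_g167 : allBelow candD 37202 = true :=
  allBelow_extend (f := candD) (lo := 36991) (len := 211) tD_g166 tD_c167

theorem tD_g168 : allBelow candD 37441 = true :=
  allBelow_extend (f := candD) (lo := 37202) (len := 239) tD_g167 tD_c168

theorem tD_g169 : allBelow candD 37698 = true :=
  allBelow_extend (f := candD) (lo := 37441) (len := 257) tD_g168 tD_c169

theorem tD_g170 : allBelow candD 37924 = true :=
  allBelow_extend (f := candD) (lo := 37698) (len := 226) tD_g169 tD_c170

theorem tD_g171 : allBelow candD 38163 = true :=
  allBelow_extend (f := candD) (lo := 37924) (len := 239) tD_g170 tD_c171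

theorem tD_g172 : allBelow candD 38410 = true :=
  allBelow_extend (f := candD) (lo := 38163) (len := 247) tD_g171 tD_c172

theorem tD_g173 : allBelow candD 38596 = true :=
  allBelow_extend (f := candD) (lo := 38410) (len := 186) tD_g172 tD_c173

theorem tD_g174 : allBelow candD 38778 = true :=
  allBelow_extend (f := candD) (lo := 38596) (len := 182) tD_g173 tD_c174

theorem tD_g175 : allBelow candD 39018 = true :=
  allBelow_extend (f := candD) (lo := 38778) (len := 240) tD_g174 tD_c175

theorem tD_g176 : allBelow candD 39201 = true :=
  allBelow_extend (f := candD) (lo := 39018) (len := 183) tD_g175 tD_c176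

theorem tD_g177 : allBelow candD 39423 = true :=
  allBelow_extend (f := candD) (lo := 39201) (len := 222) tD_g176 tD_c177

theorem tD_g178 : allBelow candD 39660 = true :=
  allBelow_extend (f := candD) (lo := 39423) (len := 237) tD_g177 tD_c178

theorem tD_g179 : allBelow candD 39902 = true :=
  allBelow_extend (f := candD) (lo := 39660) (len := 242) tD_g178 tD_c179

theorem tD_g180 : allBelow candD 40115 = true :=
  allBelow_extend (f := candD) (lo := 39902) (len := 213) tD_g179 tD_c180

theorem tD_g181 : allBelow candD 40284 = true :=
  allBelow_extend (f := candD) (lo := 40115) (len := 169) tD_g180 tD_c181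

theorem tD_g182 : allBelow candD 40509 = true :=
  allBelow_extend (f := candD) (lo := 40284) (len := 225) tD_g181 tD_c182

theorem tD_g183 : allBelow candD 40719 = true :=
  allBelow_extend (f := candD) (lo := 40509) (len := 210) tD_g182 tD_c183

theorem tD_g184 : allBelow candD 40973 = true :=
  allBelow_extend (f := candD) (lo := 40719) (len := 254) tD_g183 tD_c184

theorem tD_g185 : allBelow candD 41221 = true :=
  allBelow_extend (f := candD) (lo := 40973) (len := 248) tD_g184 tD_c185

theorem tD_g186 : allBelow candD 41480 = true :=
  allBelow_extend (f := candD) (lo := 41221) (len := 259) tD_g185 tD_c186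

theorem tD_g187 : allBelow candD 41731 = true :=
  allBelow_extend (f := candD) (lo := 41480) (len := 251) tD_g186 tD_c187

theorem tD_g188 : allBelow candD 41967 = true :=
  allBelow_extend (f := candD) (lo := 41731) (len := 236) tD_g187 tD_c188

theorem tD_g189 : allBelow candD 42182 = true :=
  allBelow_extend (f := candD) (lo := 41967) (len := 215) tD_g188 tD_c189

theorem tD_g190 : allBelow candD 42410 = true :=
  allBelow_extend (f := candD) (lo := 42182) (len := 228) tD_g189 tD_c190

theorem tD_g191 : allBelow candD 42607 = true :=
  allBelow_extend (f := candD) (lo := 42410) (len := 197) tD_g190 tD_c191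

theorem tD_g192 : allBelow candD 42795 = true :=
  allBelow_extend (f := candD) (lo := 42607) (len := 188) tD_g191 tD_c192

theorem tD_g193 : allBelow candD 42949 = true :=
  allBelow_extend (f := candD) (lo := 42795) (len := 154) tD_g192 tD_c193

theorem tD_g194 : allBelow candD 43175 = true :=
  allBelow_extend (f := candD) (lo := 42949) (len := 226) tD_g193 tD_c194

theorem tD_g195 : allBelow candD 43408 = true :=
  allBelow_extend (f := candD) (lo := 43175) (len := 233) tD_g194 tD_c195

theorem tD_g196 : allBelow candD 43632 = true :=
  allBelow_extend (f := candD) (lo := 43408) (len := 224) tD_g195 tD_c196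

theorem tD_g197 : allBelow candD 43860 = true :=
  allBelow_extend (f := candD) (lo := 43632) (len := 228) tD_g196 tD_c197

theorem tD_g198 : allBelow candD 44087 = true :=
  allBelow_extend (f := candD) (lo := 43860) (len := 227) tD_g197 tD_c198

theorem tD_g199 : allBelow candD 44334 = true :=
  allBelow_extend (f := candD) (lo := 44087) (len := 247) tD_g198 tD_c199

theorem tD_g200 : allBelow candD 44585 = true :=
  allBelow_extend (f := candD) (lo := 44334) (len := 251) tD_g199 tD_c200

theorem tD_g201 : allBelow candD 44863 = true :=
  allBelow_extend (f := candD) (lo := 44585) (len := 278) tD_g200 tD_c201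

theorem tD_g202 : allBelow candD 45086 = true :=
  allBelow_extend (f := candD) (lo := 44863) (len := 223) tD_g201 tD_c202

theorem tD_g203 : allBelow candD 45315 = true :=
  allBelow_extend (f := candD) (lo := 45086) (len := 229) tD_g202 tD_c203

theorem tD_g204 : allBelow candD 45538 = true :=
  allBelow_extend (f := candD) (lo := 45315) (len := 223) tD_g203 tD_c204

theorem tD_g205 : allBelow candD 45770 = true :=
  allBelow_extend (f := candD) (lo := 45538) (len := 232) tD_g204 tD_c205

theorem tD_g206 : allBelow candD 45992 = true :=
  allBelow_extend (f := candD) (lo := 45770) (len := 222) tD_g205 tD_c206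

theorem tD_g207 : allBelow candD 46230 = true :=
  allBelow_extend (f := candD) (lo := 45992) (len := 238) tD_g206 tD_c207

theorem tD_g208 : allBelow candD 46455 = true :=
  allBelow_extend (f := candD) (lo := 46230) (len := 225) tD_g207 tD_c208

theorem tD_g209 : allBelow candD 46667 = true :=
  allBelow_extend (f := candD) (lo := 46455) (len := 212) tD_g208 tD_c209

theorem tD_g210 : allBelow candD 46888 = true :=
  allBelow_extend (f := candD) (lo := 46667) (len := 221) tD_g209 tD_c210

theorem tD_g211 : allBelow candD 47132 = true :=
  allBelow_extend (f := candD) (lo := 46888) (len := 244) tD_g210 tD_c211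

theorem tD_g212 : allBelow candD 47355 = true :=
  allBelow_extend (f := candD) (lo := 47132) (len := 223) tD_g211 tD_c212

theorem tD_g213 : allBelow candD 47570 = true :=
  allBelow_extend (f := candD) (lo := 47355) (len := 215) tD_g212 tD_c213

theorem tD_g214 : allBelow candD 47805 = true :=
  allBelow_extend (f := candD) (lo := 47570) (len := 235) tD_g213 tD_c214

theorem tD_g215 : allBelow candD 48048 = true :=
  allBelow_extend (f := candD) (lo := 47805) (len := 243) tD_g214 tD_c215

theorem tD_g216 : allBelow candD 48282 = true :=
  allBelow_extend (f := candD) (lo := 48048) (len := 234) tD_g215 tD_c216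

theorem tD_g217 : allBelow candD 48469 = true :=
  allBelow_extend (f := candD) (lo := 48282) (len := 187) tD_g216 tD_c217

theorem tD_g218 : allBelow candD 48719 = true :=
  allBelow_extend (f := candD) (lo := 48469) (len := 250) tD_g217 tD_c218

theorem tD_g219 : allBelow candD 48951 = true :=
  allBelow_extend (f := candD) (lo := 48719) (len := 232) tD_g218 tD_c219

theorem tD_g220 : allBelow candD 49278 = true :=
  allBelow_extend (f := candD) (lo := 48951) (len := 327) tD_g219 tD_c220

theorem tD_g221 : allBelow candD 49510 = true :=
  allBelow_extend (f := candD) (lo := 49278) (len := 232) tD_g220 tD_c221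

theorem tD_g222 : allBelow candD 49745 = true :=
  allBelow_extend (f := candD) (lo := 49510) (len := 235) tD_g221 tD_c222

theorem tD_g223 : allBelow candD 49969 = true :=
  allBelow_extend (f := candD) (lo := 49745) (len := 224) tD_g222 tD_c223

theorem tD_g224 : allBelow candD 50189 = true :=
  allBelow_extend (f := candD) (lo := 49969) (len := 220) tD_g223 tD_c224

theorem tD_g225 : allBelow candD 50420 = true :=
  allBelow_extend (f := candD) (lo := 50189) (len := 231) tD_g224 tD_c225

theorem tD_g226 : allBelow candD 50638 = true :=
  allBelow_extend (f := candD) (lo := 50420) (len := 218) tD_g225 tD_c226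

theorem tD_g227 : allBelow candD 50867 = true :=
  allBelow_extend (f := candD) (lo := 50638) (len := 229) tD_g226 tD_c227

theorem tD_g228 : allBelow candD 51086 = true :=
  allBelow_extend (f := candD) (lo := 50867) (len := 219) tD_g227 tD_c228

theorem tD_g229 : allBelow candD 51331 = true :=
  allBelow_extend (f := candD) (lo := 51086) (len := 245) tD_g228 tD_c229

theorem tD_g230 : allBelow candD 51573 = true :=
  allBelow_extend (f := candD) (lo := 51331) (len := 242) tD_g229 tD_c230

theorem tD_g231 : allBelow candD 51788 = true :=
  allBelow_extend (f := candD) (lo := 51573) (len := 215) tD_g230 tD_c231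

theorem tD_g232 : allBelow candD 52020 = true :=
  allBelow_extend (f := candD) (lo := 51788) (len := 232) tD_g231 tD_c232

theorem tD_g233 : allBelow candD 52252 = true :=
  allBelow_extend (f := candD) (lo := 52020) (len := 232) tD_g232 tD_c233

theorem tD_g234 : allBelow candD 52484 = true :=
  allBelow_extend (f := candD) (lo := 52252) (len := 232) tD_g233 tD_c234

theorem tD_g235 : allBelow candD 52728 = true :=
  allBelow_extend (f := candD) (lo := 52484) (len := 244) tD_g234 tD_c235

theorem tD_g236 : allBelow candD 52942 = true :=
  allBelow_extend (f := candD) (lo := 52728) (len := 214) tD_g235 tD_c236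

theorem tD_g237 : allBelow candD 53187 = true :=
  allBelow_extend (f := candD) (lo := 52942) (len := 245) tD_g236 tD_c237

theorem tD_g238 : allBelow candD 53424 = true :=
  allBelow_extend (f := candD) (lo := 53187) (len := 237) tD_g237 tD_c238

theorem tD_g239 : allBelow candD 53710 = true :=
  allBelow_extend (f := candD) (lo := 53424) (len := 286) tD_g238 tD_c239

theorem tD_g240 : allBelow candD 53964 = true :=
  allBelow_extend (f := candD) (lo := 53710) (len := 254) tD_g239 tD_c240

theorem tD_g241 : allBelow candD 54210 = true :=
  allBelow_extend (f := candD) (lo := 53964) (len := 246) tD_g240 tD_c241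

theorem tD_g242 : allBelow candD 54454 = true :=
  allBelow_extend (f := candD) (lo := 54210) (len := 244) tD_g241 tD_c242

theorem tD_g243 : allBelow candD 54700 = true :=
  allBelow_extend (f := candD) (lo := 54454) (len := 246) tD_g242 tD_c243

theorem tD_g244 : allBelow candD 54935 = true :=
  allBelow_extend (f := candD) (lo := 54700) (len := 235) tD_g243 tD_c244

theorem tD_g245 : allBelow candD 55182 = true :=
  allBelow_extend (f := candD) (lo := 54935) (len := 247) tD_g244 tD_c245

theorem tD_g246 : allBelow candD 55425 = true :=
  allBelow_extend (f := candD) (lo := 55182) (len := 243) tD_g245 tD_c246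

theorem tD_g247 : allBelow candD 55624 = true :=
  allBelow_extend (f := candD) (lo := 55425) (len := 199) tD_g246 tD_c247

theorem tD_g248 : allBelow candD 55833 = true :=
  allBelow_extend (f := candD) (lo := 55624) (len := 209) tD_g247 tD_c248

theorem tD_g249 : allBelow candD 56044 = true :=
  allBelow_extend (f := candD) (lo := 55833) (len := 211) tD_g248 tD_c249

theorem tD_g250 : allBelow candD 56289 = true :=
  allBelow_extend (f := candD) (lo := 56044) (len := 245) tD_g249 tD_c250

theorem tD_g251 : allBelow candD 56538 = true :=
  allBelow_extend (f := candD) (lo := 56289) (len := 249) tD_g250 tD_c251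

theorem tD_g252 : allBelow candD 56805 = true :=
  allBelow_extend (f := candD) (lo := 56538) (len := 267) tD_g251 tD_c252

theorem tD_g253 : allBelow candD 57068 = true :=
  allBelow_extend (f := candD) (lo := 56805) (len := 263) tD_g252 tD_c253

theorem tD_g254 : allBelow candD 57327 = true :=
  allBelow_extend (f := candD) (lo := 57068) (len := 259) tD_g253 tD_c254

theorem tD_g255 : allBelow candD 57570 = true :=
  allBelow_extend (f := candD) (lo := 57327) (len := 243) tD_g254 tD_c255

theorem tD_g256 : allBelow candD 57795 = true :=
  allBelow_extend (f := candD) (lo := 57570) (len := 225) tD_g255 tD_c256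

theorem tD_g257 : allBelow candD 58032 = true :=
  allBelow_extend (f := candD) (lo := 57795) (len := 237) tD_g256 tD_c257

theorem tD_g258 : allBelow candD 58249 = true :=
  allBelow_extend (f := candD) (lo := 58032) (len := 217) tD_g257 tD_c258

theorem tD_g259 : allBelow candD 58487 = true :=
  allBelow_extend (f := candD) (lo := 58249) (len := 238) tD_g258 tD_c259

theorem tD_g260 : allBelow candD 58756 = true :=
  allBelow_extend (f := candD) (lo := 58487) (len := 269) tD_g259 tD_c260

theorem tD_g261 : allBelow candD 58999 = true :=
  allBelow_extend (f := candD) (lo := 58756) (len := 243) tD_g260 tD_c261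

theorem tD_g262 : allBelow candD 59217 = true :=
  allBelow_extend (f := candD) (lo := 58999) (len := 218) tD_g261 tD_c262

theorem tD_g263 : allBelow candD 59470 = true :=
  allBelow_extend (f := candD) (lo := 59217) (len := 253) tD_g262 tD_c263

theorem tD_g264 : allBelow candD 59696 = true :=
  allBelow_extend (f := candD) (lo := 59470) (len := 226) tD_g263 tD_c264

theorem tD_g265 : allBelow candD 59958 = true :=
  allBelow_extend (f := candD) (lo := 59696) (len := 262) tD_g264 tD_c265

theorem tD_g266 : allBelow candD 60194 = true :=
  allBelow_extend (f := candD) (lo := 59958) (len := 236) tD_g265 tD_c266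

theorem tD_g267 : allBelow candD 60420 = true :=
  allBelow_extend (f := candD) (lo := 60194) (len := 226) tD_g266 tD_c267

theorem tD_g268 : allBelow candD 60648 = true :=
  allBelow_extend (f := candD) (lo := 60420) (len := 228) tD_g267 tD_c268

theorem tD_g269 : allBelow candD 60902 = true :=
  allBelow_extend (f := candD) (lo := 60648) (len := 254) tD_g268 tD_c269

theorem tD_g270 : allBelow candD 61144 = true :=
  allBelow_extend (f := candD) (lo := 60902) (len := 242) tD_g269 tD_c270

theorem tD_g271 : allBelow candD 61392 = true :=
  allBelow_extend (f := candD) (lo := 61144) (len := 248) tD_g270 tD_c271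

theorem tD_g272 : allBelow candD 61646 = true :=
  allBelow_extend (f := candD) (lo := 61392) (len := 254) tD_g271 tD_c272

theorem tD_g273 : allBelow candD 61885 = true :=
  allBelow_extend (f := candD) (lo := 61646) (len := 239) tD_g272 tD_c273

theorem tD_g274 : allBelow candD 62112 = true :=
  allBelow_extend (f := candD) (lo := 61885) (len := 227) tD_g273 tD_c274

theorem tD_g275 : allBelow candD 62365 = true :=
  allBelow_extend (f := candD) (lo := 62112) (len := 253) tD_g274 tD_c275

theorem tD_g276 : allBelow candD 62606 = true :=
  allBelow_extend (f := candD) (lo := 62365) (len := 241) tD_g275 tD_c276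

theorem tD_g277 : allBelow candD 62849 = true :=
  allBelow_extend (f := candD) (lo := 62606) (len := 243) tD_g276 tD_c277

theorem tD_g278 : allBelow candD 63086 = true :=
  allBelow_extend (f := candD) (lo := 62849) (len := 237) tD_g277 tD_c278

theorem tD_g279 : allBelow candD 63355 = true :=
  allBelow_extend (f := candD) (lo := 63086) (len := 269) tD_g278 tD_c279

theorem tD_g280 : allBelow candD 63585 = true :=
  allBelow_extend (f := candD) (lo := 63355) (len := 230) tD_g279 tD_c280

theorem tD_g281 : allBelow candD 63834 = true :=
  allBelow_extend (f := candD) (lo := 63585) (len := 249) tD_g280 tD_c281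

theorem tD_g282 : allBelow candD 64086 = true :=
  allBelow_extend (f := candD) (lo := 63834) (len := 252) tD_g281 tD_c282

theorem tD_g283 : allBelow candD 64336 = true :=
  allBelow_extend (f := candD) (lo := 64086) (len := 250) tD_g282 tD_c283

theorem tD_g284 : allBelow candD 64581 = true :=
  allBelow_extend (f := candD) (lo := 64336) (len := 245) tD_g283 tD_c284

theorem tD_g285 : allBelow candD 64847 = true :=
  allBelow_extend (f := candD) (lo := 64581) (len := 266) tD_g284 tD_c285

theorem tD_g286 : allBelow candD 65076 = true :=
  allBelow_extend (f := candD) (lo := 64847) (len := 229) tD_g285 tD_c286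

theorem tD_g287 : allBelow candD 65309 = true :=
  allBelow_extend (f := candD) (lo := 65076) (len := 233) tD_g286 tD_c287

theorem tD_g288 : allBelow candD 65555 = true :=
  allBelow_extend (f := candD) (lo := 65309) (len := 246) tD_g287 tD_c288

theorem tD_g289 : allBelow candD 65820 = true :=
  allBelow_extend (f := candD) (lo := 65555) (len := 265) tD_g288 tD_c289

theorem tD_g290 : allBelow candD 66064 = true :=
  allBelow_extend (f := candD) (lo := 65820) (len := 244) tD_g289 tD_c290

theorem tD_g291 : allBelow candD 66319 = true :=
  allBelow_extend (f := candD) (lo := 66064) (len := 255) tD_g290 tD_c291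

theorem tD_g292 : allBelow candD 66580 = true :=
  allBelow_extend (f := candD) (lo := 66319) (len := 261) tD_g291 tD_c292

theorem tD_g293 : allBelow candD 66812 = true :=
  allBelow_extend (f := candD) (lo := 66580) (len := 232) tD_g292 tD_c293

theorem tD_g294 : allBelow candD 67040 = true :=
  allBelow_extend (f := candD) (lo := 66812) (len := 228) tD_g293 tD_c294

theorem tD_g295 : allBelow candD 67285 = true :=
  allBelow_extend (f := candD) (lo := 67040) (len := 245) tD_g294 tD_c295

theorem tD_g296 : allBelow candD 67521 = true :=
  allBelow_extend (f := candD) (lo := 67285) (len := 236) tD_g295 tD_c296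

theorem tD_g297 : allBelow candD 67763 = true :=
  allBelow_extend (f := candD) (lo := 67521) (len := 242) tD_g296 tD_c297

theorem tD_g298 : allBelow candD 68005 = true :=
  allBelow_extend (f := candD) (lo := 67763) (len := 242) tD_g297 tD_c298

theorem tD_g299 : allBelow candD 68264 = true :=
  allBelow_extend (f := candD) (lo := 68005) (len := 259) tD_g298 tD_c299

theorem tD_g300 : allBelow candD 68506 = true :=
  allBelow_extend (f := candD) (lo := 68264) (len := 242) tD_g299 tD_c300

theorem tD_g301 : allBelow candD 68773 = true :=
  allBelow_extend (f := candD) (lo := 68506) (len := 267) tD_g300 tD_c301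

theorem tD_g302 : allBelow candD 69054 = true :=
  allBelow_extend (f := candD) (lo := 68773) (len := 281) tD_g301 tD_c302

theorem tD_g303 : allBelow candD 69301 = true :=
  allBelow_extend (f := candD) (lo := 69054) (len := 247) tD_g302 tD_c303

theorem tD_g304 : allBelow candD 69552 = true :=
  allBelow_extend (f := candD) (lo := 69301) (len := 251) tD_g303 tD_c304

theorem tD_g305 : allBelow candD 69812 = true :=
  allBelow_extend (f := candD) (lo := 69552) (len := 260) tD_g304 tD_c305

theorem tD_g306 : allBelow candD 70040 = true :=
  allBelow_extend (f := candD) (lo := 69812) (len := 228) tD_g305 tD_c306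

theorem tD_g307 : allBelow candD 70257 = true :=
  allBelow_extend (f := candD) (lo := 70040) (len := 217) tD_g306 tD_c307

theorem tD_g308 : allBelow candD 70504 = true :=
  allBelow_extend (f := candD) (lo := 70257) (len := 247) tD_g307 tD_c308

theorem tD_g309 : allBelow candD 70744 = true :=
  allBelow_extend (f := candD) (lo := 70504) (len := 240) tD_g308 tD_c309

theorem tD_g310 : allBelow candD 71000 = true :=
  allBelow_extend (f := candD) (lo := 70744) (len := 256) tD_g309 tD_c310

theorem tD_g311 : allBelow candD 71228 = true :=
  allBelow_extend (f := candD) (lo := 71000) (len := 228) tD_g310 tD_c311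

theorem tD_g312 : allBelow candD 71474 = true :=
  allBelow_extend (f := candD) (lo := 71228) (len := 246) tD_g311 tD_c312

theorem tD_g313 : allBelow candD 71668 = true :=
  allBelow_extend (f := candD) (lo := 71474) (len := 194) tD_g312 tD_c313

theorem tD_g314 : allBelow candD 71928 = true :=
  allBelow_extend (f := candD) (lo := 71668) (len := 260) tD_g313 tD_c314

theorem tD_g315 : allBelow candD 72149 = true :=
  allBelow_extend (f := candD) (lo := 71928) (len := 221) tD_g314 tD_c315

theorem tD_g316 : allBelow candD 72382 = true :=
  allBelow_extend (f := candD) (lo := 72149) (len := 233) tD_g315 tD_c316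

theorem tD_g317 : allBelow candD 72611 = true :=
  allBelow_extend (f := candD) (lo := 72382) (len := 229) tD_g316 tD_c317

theorem tD_g318 : allBelow candD 72856 = true :=
  allBelow_extend (f := candD) (lo := 72611) (len := 245) tD_g317 tD_c318

theorem tD_g319 : allBelow candD 73077 = true :=
  allBelow_extend (f := candD) (lo := 72856) (len := 221) tD_g318 tD_c319

theorem tD_g320 : allBelow candD 73316 = true :=
  allBelow_extend (f := candD) (lo := 73077) (len := 239) tD_g319 tD_c320

theorem tD_g321 : allBelow candD 73559 = true :=
  allBelow_extend (f := candD) (lo := 73316) (len := 243) tD_g320 tD_c321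

theorem tD_g322 : allBelow candD 73800 = true :=
  allBelow_extend (f := candD) (lo := 73559) (len := 241) tD_g321 tD_c322

theorem tD_g323 : allBelow candD 74068 = true :=
  allBelow_extend (f := candD) (lo := 73800) (len := 268) tD_g322 tD_c323

theorem tD_g324 : allBelow candD 74321 = true :=
  allBelow_extend (f := candD) (lo := 74068) (len := 253) tD_g323 tD_c324

theorem tD_g325 : allBelow candD 74601 = true :=
  allBelow_extend (f := candD) (lo := 74321) (len := 280) tD_g324 tD_c325

theorem tD_g326 : allBelow candD 74849 = true :=
  allBelow_extend (f := candD) (lo := 74601) (len := 248) tD_g325 tD_c326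

theorem tD_g327 : allBelow candD 75098 = true :=
  allBelow_extend (f := candD) (lo := 74849) (len := 249) tD_g326 tD_c327

theorem tD_g328 : allBelow candD 75366 = true :=
  allBelow_extend (f := candD) (lo := 75098) (len := 268) tD_g327 tD_c328

theorem tD_g329 : allBelow candD 75635 = true :=
  allBelow_extend (f := candD) (lo := 75366) (len := 269) tD_g328 tD_c329

theorem tD_g330 : allBelow candD 75838 = true :=
  allBelow_extend (f := candD) (lo := 75635) (len := 203) tD_g329 tD_c330

theorem tD_g331 : allBelow candD 76074 = true :=
  allBelow_extend (f := candD) (lo := 75838) (len := 236) tD_g330 tD_c331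

theorem tD_g332 : allBelow candD 76263 = true :=
  allBelow_extend (f := candD) (lo := 76074) (len := 189) tD_g331 tD_c332

theorem tD_g333 : allBelow candD 76523 = true :=
  allBelow_extend (f := candD) (lo := 76263) (len := 260) tD_g332 tD_c333

theorem tD_g334 : allBelow candD 76769 = true :=
  allBelow_extend (f := candD) (lo := 76523) (len := 246) tD_g333 tD_c334

theorem tD_g335 : allBelow candD 77010 = true :=
  allBelow_extend (f := candD) (lo := 76769) (len := 241) tD_g334 tD_c335

theorem tD_g336 : allBelow candD 77209 = true :=
  allBelow_extend (f := candD) (lo := 77010) (len := 199) tD_g335 tD_c336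

theorem tD_g337 : allBelow candD 77463 = true :=
  allBelow_extend (f := candD) (lo := 77209) (len := 254) tD_g336 tD_c337

theorem tD_g338 : allBelow candD 77716 = true :=
  allBelow_extend (f := candD) (lo := 77463) (len := 253) tD_g337 tD_c338

theorem tD_g339 : allBelow candD 77936 = true :=
  allBelow_extend (f := candD) (lo := 77716) (len := 220) tD_g338 tD_c339

theorem tD_g340 : allBelow candD 78129 = true :=
  allBelow_extend (f := candD) (lo := 77936) (len := 193) tD_g339 tD_c340

theorem tD_g341 : allBelow candD 78381 = true :=
  allBelow_extend (f := candD) (lo := 78129) (len := 252) tD_g340 tD_c341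

theorem tD_g342 : allBelow candD 78635 = true :=
  allBelow_extend (f := candD) (lo := 78381) (len := 254) tD_g341 tD_c342

theorem tD_g343 : allBelow candD 78900 = true :=
  allBelow_extend (f := candD) (lo := 78635) (len := 265) tD_g342 tD_c343

theorem tD_g344 : allBelow candD 79158 = true :=
  allBelow_extend (f := candD) (lo := 78900) (len := 258) tD_g343 tD_c344

theorem tD_g345 : allBelow candD 79411 = true :=
  allBelow_extend (f := candD) (lo := 79158) (len := 253) tD_g344 tD_c345

theorem tD_g346 : allBelow candD 79675 = true :=
  allBelow_extend (f := candD) (lo := 79411) (len := 264) tD_g345 tD_c346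

theorem tD_g347 : allBelow candD 79948 = true :=
  allBelow_extend (f := candD) (lo := 79675) (len := 273) tD_g346 tD_c347

theorem tD_g348 : allBelow candD 80155 = true :=
  allBelow_extend (f := candD) (lo := 79948) (len := 207) tD_g347 tD_c348

theorem tD_g349 : allBelow candD 80448 = true :=
  allBelow_extend (f := candD) (lo := 80155) (len := 293) tD_g348 tD_c349

theorem tD_g350 : allBelow candD 80693 = true :=
  allBelow_extend (f := candD) (lo := 80448) (len := 245) tD_g349 tD_c350

theorem tD_g351 : allBelow candD 80937 = true :=
  allBelow_extend (f := candD) (lo := 80693) (len := 244) tD_g350 tD_c351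

theorem tD_g352 : allBelow candD 81202 = true :=
  allBelow_extend (f := candD) (lo := 80937) (len := 265) tD_g351 tD_c352

theorem tD_g353 : allBelow candD 81409 = true :=
  allBelow_extend (f := candD) (lo := 81202) (len := 207) tD_g352 tD_c353

theorem tD_g354 : allBelow candD 81683 = true :=
  allBelow_extend (f := candD) (lo := 81409) (len := 274) tD_g353 tD_c354

theorem tD_g355 : allBelow candD 81922 = true :=
  allBelow_extend (f := candD) (lo := 81683) (len := 239) tD_g354 tD_c355

theorem tD_g356 : allBelow candD 82173 = true :=
  allBelow_extend (f := candD) (lo := 81922) (len := 251) tD_g355 tD_c356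

theorem tD_g357 : allBelow candD 82412 = true :=
  allBelow_extend (f := candD) (lo := 82173) (len := 239) tD_g356 tD_c357

theorem tD_g358 : allBelow candD 82695 = true :=
  allBelow_extend (f := candD) (lo := 82412) (len := 283) tD_g357 tD_c358

theorem tD_g359 : allBelow candD 82949 = true :=
  allBelow_extend (f := candD) (lo := 82695) (len := 254) tD_g358 tD_c359

theorem tD_g360 : allBelow candD 83206 = true :=
  allBelow_extend (f := candD) (lo := 82949) (len := 257) tD_g359 tD_c360

theorem tD_g361 : allBelow candD 83430 = true :=
  allBelow_extend (f := candD) (lo := 83206) (len := 224) tD_g360 tD_c361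

theorem tD_g362 : allBelow candD 83664 = true :=
  allBelow_extend (f := candD) (lo := 83430) (len := 234) tD_g361 tD_c362

theorem tD_g363 : allBelow candD 83927 = true :=
  allBelow_extend (f := candD) (lo := 83664) (len := 263) tD_g362 tD_c363

theorem tD_g364 : allBelow candD 84191 = true :=
  allBelow_extend (f := candD) (lo := 83927) (len := 264) tD_g363 tD_c364

theorem tD_g365 : allBelow candD 84443 = true :=
  allBelow_extend (f := candD) (lo := 84191) (len := 252) tD_g364 tD_c365

theorem tD_g366 : allBelow candD 84694 = true :=
  allBelow_extend (f := candD) (lo := 84443) (len := 251) tD_g365 tD_c366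

theorem tD_g367 : allBelow candD 84954 = true :=
  allBelow_extend (f := candD) (lo := 84694) (len := 260) tD_g366 tD_c367

theorem tD_g368 : allBelow candD 85236 = true :=
  allBelow_extend (f := candD) (lo := 84954) (len := 282) tD_g367 tD_c368

theorem tD_g369 : allBelow candD 85398 = true :=
  allBelow_extend (f := candD) (lo := 85236) (len := 162) tD_g368 tD_c369

theorem tD_g370 : allBelow candD 85666 = true :=
  allBelow_extend (f := candD) (lo := 85398) (len := 268) tD_g369 tD_c370

theorem tD_g371 : allBelow candD 85936 = true :=
  allBelow_extend (f := candD) (lo := 85666) (len := 270) tD_g370 tD_c371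

theorem tD_g372 : allBelow candD 86198 = true :=
  allBelow_extend (f := candD) (lo := 85936) (len := 262) tD_g371 tD_c372

theorem tD_g373 : allBelow candD 86386 = true :=
  allBelow_extend (f := candD) (lo := 86198) (len := 188) tD_g372 tD_c373

theorem tD_g374 : allBelow candD 86668 = true :=
  allBelow_extend (f := candD) (lo := 86386) (len := 282) tD_g373 tD_c374

theorem tD_g375 : allBelow candD 86918 = true :=
  allBelow_extend (f := candD) (lo := 86668) (len := 250) tD_g374 tD_c375

theorem tD_g376 : allBelow candD 87156 = true :=
  allBelow_extend (f := candD) (lo := 86918) (len := 238) tD_g375 tD_c376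

theorem tD_g377 : allBelow candD 87383 = true :=
  allBelow_extend (f := candD) (lo := 87156) (len := 227) tD_g376 tD_c377

theorem tD_g378 : allBelow candD 87638 = true :=
  allBelow_extend (f := candD) (lo := 87383) (len := 255) tD_g377 tD_c378

theorem tD_g379 : allBelow candD 87850 = true :=
  allBelow_extend (f := candD) (lo := 87638) (len := 212) tD_g378 tD_c379

theorem tD_g380 : allBelow candD 88119 = true :=
  allBelow_extend (f := candD) (lo := 87850) (len := 269) tD_g379 tD_c380

theorem tD_g381 : allBelow candD 88387 = true :=
  allBelow_extend (f := candD) (lo := 88119) (len := 268) tD_g380 tD_c381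

theorem tD_g382 : allBelow candD 88624 = true :=
  allBelow_extend (f := candD) (lo := 88387) (len := 237) tD_g381 tD_c382

theorem tD_g383 : allBelow candD 88848 = true :=
  allBelow_extend (f := candD) (lo := 88624) (len := 224) tD_g382 tD_c383

theorem tD_g384 : allBelow candD 89128 = true :=
  allBelow_extend (f := candD) (lo := 88848) (len := 280) tD_g383 tD_c384

theorem tD_g385 : allBelow candD 89398 = true :=
  allBelow_extend (f := candD) (lo := 89128) (len := 270) tD_g384 tD_c385

theorem tD_g386 : allBelow candD 89687 = true :=
  allBelow_extend (f := candD) (lo := 89398) (len := 289) tD_g385 tD_c386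

theorem tD_g387 : allBelow candD 89916 = true :=
  allBelow_extend (f := candD) (lo := 89687) (len := 229) tD_g386 tD_c387

theorem tD_g388 : allBelow candD 90164 = true :=
  allBelow_extend (f := candD) (lo := 89916) (len := 248) tD_g387 tD_c388

theorem tD_g389 : allBelow candD 90425 = true :=
  allBelow_extend (f := candD) (lo := 90164) (len := 261) tD_g388 tD_c389

theorem tD_g390 : allBelow candD 90689 = true :=
  allBelow_extend (f := candD) (lo := 90425) (len := 264) tD_g389 tD_c390

theorem tD_g391 : allBelow candD 90933 = true :=
  allBelow_extend (f := candD) (lo := 90689) (len := 244) tD_g390 tD_c391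

theorem tD_g392 : allBelow candD 91201 = true :=
  allBelow_extend (f := candD) (lo := 90933) (len := 268) tD_g391 tD_c392

theorem tD_g393 : allBelow candD 91468 = true :=
  allBelow_extend (f := candD) (lo := 91201) (len := 267) tD_g392 tD_c393

theorem tD_g394 : allBelow candD 91714 = true :=
  allBelow_extend (f := candD) (lo := 91468) (len := 246) tD_g393 tD_c394

theorem tD_g395 : allBelow candD 91989 = true :=
  allBelow_extend (f := candD) (lo := 91714) (len := 275) tD_g394 tD_c395

theorem tD_g396 : allBelow candD 92256 = true :=
  allBelow_extend (f := candD) (lo := 91989) (len := 267) tD_g395 tD_c396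

theorem tD_g397 : allBelow candD 92524 = true :=
  allBelow_extend (f := candD) (lo := 92256) (len := 268) tD_g396 tD_c397

theorem tD_g398 : allBelow candD 92781 = true :=
  allBelow_extend (f := candD) (lo := 92524) (len := 257) tD_g397 tD_c398

theorem tD_g399 : allBelow candD 93030 = true :=
  allBelow_extend (f := candD) (lo := 92781) (len := 249) tD_g398 tD_c399

theorem tD_g400 : allBelow candD 93261 = true :=
  allBelow_extend (f := candD) (lo := 93030) (len := 231) tD_g399 tD_c400

theorem tD_g401 : allBelow candD 93532 = true :=
  allBelow_extend (f := candD) (lo := 93261) (len := 271) tD_g400 tD_c401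

theorem tD_g402 : allBelow candD 93788 = true :=
  allBelow_extend (f := candD) (lo := 93532) (len := 256) tD_g401 tD_c402

theorem tD_g403 : allBelow candD 94079 = true :=
  allBelow_extend (f := candD) (lo := 93788) (len := 291) tD_g402 tD_c403

theorem tD_g404 : allBelow candD 94345 = true :=
  allBelow_extend (f := candD) (lo := 94079) (len := 266) tD_g403 tD_c404

theorem tD_g405 : allBelow candD 94622 = true :=
  allBelow_extend (f := candD) (lo := 94345) (len := 277) tD_g404 tD_c405

theorem tD_g406 : allBelow candD 94866 = true :=
  allBelow_extend (f := candD) (lo := 94622) (len := 244) tD_g405 tD_c406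

theorem tD_g407 : allBelow candD 95134 = true :=
  allBelow_extend (f := candD) (lo := 94866) (len := 268) tD_g406 tD_c407

theorem tD_g408 : allBelow candD 95408 = true :=
  allBelow_extend (f := candD) (lo := 95134) (len := 274) tD_g407 tD_c408

theorem tD_g409 : allBelow candD 95657 = true :=
  allBelow_extend (f := candD) (lo := 95408) (len := 249) tD_g408 tD_c409

theorem tD_g410 : allBelow candD 95936 = true :=
  allBelow_extend (f := candD) (lo := 95657) (len := 279) tD_g409 tD_c410

theorem tD_g411 : allBelow candD 96201 = true :=
  allBelow_extend (f := candD) (lo := 95936) (len := 265) tD_g410 tD_c411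

theorem tD_g412 : allBelow candD 96456 = true :=
  allBelow_extend (f := candD) (lo := 96201) (len := 255) tD_g411 tD_c412

theorem tD_g413 : allBelow candD 96717 = true :=
  allBelow_extend (f := candD) (lo := 96456) (len := 261) tD_g412 tD_c413

theorem tD_g414 : allBelow candD 96958 = true :=
  allBelow_extend (f := candD) (lo := 96717) (len := 241) tD_g413 tD_c414

theorem tD_g415 : allBelow candD 97219 = true :=
  allBelow_extend (f := candD) (lo := 96958) (len := 261) tD_g414 tD_c415

theorem tD_g416 : allBelow candD 97510 = true :=
  allBelow_extend (f := candD) (lo := 97219) (len := 291) tD_g415 tD_c416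

theorem tD_g417 : allBelow candD 97768 = true :=
  allBelow_extend (f := candD) (lo := 97510) (len := 258) tD_g416 tD_c417

theorem tD_g418 : allBelow candD 98047 = true :=
  allBelow_extend (f := candD) (lo := 97768) (len := 279) tD_g417 tD_c418

theorem tD_g419 : allBelow candD 98280 = true :=
  allBelow_extend (f := candD) (lo := 98047) (len := 233) tD_g418 tD_c419

theorem tD_all : allBelow candD 98280 = true := tD_g419

end Cfsg.Agent.Lib.Helper27.Co1O
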