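import Cfsg.Agent.Lib.Helper27.Co1O.MainA
import Cfsg.Agent.Lib.Helper27.Co1O.GlueTest
import Cfsg.Agent.Lib.Helper27.OutOnePM

/-! # S2069: identities between the permutations, the centraliser of `a`, rigidity of `y` -/

set_option autoImplicit false
set_option maxRecDepth 100000

namespace Cfsg.Agent.Lib.Helper27.Co1O

open Cfsg.Agent.Lib.Helper28.BSGS Cfsg.Agent.Lib.Helper22.SuzOut Cfsg.Agent.Lib.Helper27.TreeSift
open Cfsg.Agent.Lib.Helper27.Big MulAction

-- the elaborator must never unfold `permOf`: its `dite` would make it evaluate `pairOK` on all 98280 points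
attribute [local irreducible] permOf

instance fact23 : Fact (Nat.Prime 23) := ⟨by norm_num⟩

theorem lt98280 : (29795 : ℕ) < 98280 := by norm_num

/-! ## values -/

theorem vA (H : Hyp) (x : Fin 98280) : (pA x).val = fA x.val := by
  rw [pA_spec]; exact permOf_apply (pairA H) x
theorem vAi (H : Hyp) (x : Fin 98280) : (pA⁻¹ x).val = fAi x.val := by
  rw [pA_spec]; exact permOf_inv_apply (pairA H) x
theorem vD (H : Hyp) (x : Fin 98280) : (pD x).val = fd x.val := by
  rw [pD_spec]; exact permOf_apply (paird H) x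
theorem vDi (H : Hyp) (x : Fin 98280) : (pD⁻¹ x).val = fdi x.val := by
  rw [pD_spec]; exact permOf_inv_apply (paird H) x
theorem vY (H : Hyp) (x : Fin 98280) : (pY x).val = fy x.val := by
  rw [pY_spec]; exact permOf_apply (pairy H) x
theorem vYi (H : Hyp) (x : Fin 98280) : (pY⁻¹ x).val = fyi x.val := by
  rw [pY_spec]; exact permOf_inv_apply (pairy H) x

theorem sifts (H : Hyp) (z : Equiv.Perm (Fin 98280)) (hz : z ∈ K) :
    Sifts (semTs 98280 17 known1 7 levels) z := (main1 H).2.2 z hz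

/-! ## kernel computations on the base points -/

theorem A_pow23 : levels.all (fun lv => Nat.beq (fA^[23] lv.1) lv.1) = true := by decide +kernel

theorem A_b : fA 29795 = 14316 := by decide +kernel

theorem d_conj_A : levels.all (fun lv => Nat.beq ((fun x => fd (fA x)) lv.1)
    ((fun x => fA (fA (fd x))) lv.1)) = true := by decide +kernel

theorem y_comm_d : levels.all (fun lv => Nat.beq ((fun x => fy (fd x)) lv.1)
    ((fun x => fd (fy x)) lv.1)) = true := by decide +kernel

theorem rels_ok : rels.all (fun r => levels.all (fun lv =>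
    Nat.beq ((evalU fA fAi fd fdi fyi r.1)^[r.2] lv.1) lv.1)) = true := by decide +kernel

theorem basesA : basesE fA 29795 levels expsA = true := by decide +kernel

theorem basesD : basesOK fd levels = true := by decide +kernel

theorem cycA_spec : cycA = (List.range 23).map (fun k => fA^[k] 29795) := by decide +kernel

theorem y_b : fy 29795 = 58095 := by decide +kernel

/-! ## identities between the permutations -/

theorem pA_pow (H : Hyp) : pA ^ 23 = 1 :=
  eq_one_of_base 98280 17 known1 7 (known1_ok H) levels chain_ok (pA ^ 23)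
    (sifts H _ (K.pow_mem (pA_mem H) 23)) (sifts H 1 K.one_mem) (fA^[23])
    (pow_val_iterate 98280 pA fA (vA H) 23) A_pow23

theorem pA_ne (H : Hyp) : pA ≠ 1 := by
  intro h
  have h1 := vA H (pt 98280 29795)
  rw [h, Equiv.Perm.one_apply, pt_val 98280 lt98280, A_b] at h1
  exact absurd h1 (by norm_num)

theorem order_pA (H : Hyp) : orderOf pA = 23 := orderOf_eq_prime (pA_pow H) (pA_ne H)

theorem d_A (H : Hyp) : pD * pA = pA * pA * pD :=
  eq_of_base 98280 17 known1 7 (known1_ok H) levels chain_ok (pD * pA) (pA * pA * pD)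
    (sifts H _ (K.mul_mem (pD_mem H) (pA_mem H)))
    (sifts H _ (K.mul_mem (K.mul_mem (pA_mem H) (pA_mem H)) (pD_mem H)))
    (fun x => fd (fA x)) (fun x => fA (fA (fd x)))
    (fun x => by rw [Equiv.Perm.mul_apply, vD H, vA H])
    (fun x => by rw [Equiv.Perm.mul_apply, Equiv.Perm.mul_apply, vA H, vA H, vD H])
    d_conj_A

theorem d_conj (H : Hyp) : pD * pA * pD⁻¹ = pA ^ 2 := by
  rw [d_A H, mul_inv_cancel_right, pow_two]

theorem y_d (H : Hyp) : pY * pD = pD * pY :=
  eq_of_base 98280 17 known1 7 (known1_ok H) levels chain_ok (pY * pD) (pD * pY)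
    (sifts H _ (K.mul_mem (pY_mem H) (pD_mem H)))
    (sifts H _ (K.mul_mem (pD_mem H) (pY_mem H)))
    (fun x => fy (fd x)) (fun x => fd (fy x))
    (fun x => by rw [Equiv.Perm.mul_apply, vY H, vD H])
    (fun x => by rw [Equiv.Perm.mul_apply, vD H, vY H])
    y_comm_d

theorem prodG_mem {G : Type*} [Group G] (S : Subgroup G) {a d z : G} (ha : a ∈ S) (hd : d ∈ S)
    (hz : z ∈ S) (u : List ℕ) : prodG a d z u ∈ S := by
  unfold prodG
  apply Subgroup.list_prod_mem
  intro x hx
  obtain ⟨c, -, rfl⟩ := List.mem_map.mp hx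
  unfold letG
  split
  · exact ha
  · exact S.inv_mem ha
  · exact hd
  · exact S.inv_mem hd
  · exact hz

/-- the word orders of `a`, `d`, `y⁻¹` -/
theorem rels_hold (H : Hyp) : ∀ r ∈ rels, prodG pA pD pY⁻¹ r.1 ^ r.2 = 1 := by
  intro r hr
  have hb := List.all_eq_true.mp rels_ok r hr
  have hm : prodG pA pD pY⁻¹ r.1 ∈ K :=
    prodG_mem K (pA_mem H) (pD_mem H) (K.inv_mem (pY_mem H)) r.1
  exact eq_one_of_base 98280 17 known1 7 (known1_ok H) levels chain_ok _
    (sifts H _ (K.pow_mem hm r.2)) (sifts H 1 K.one_mem)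
    ((evalU fA fAi fd fdi fyi r.1)^[r.2])
    (pow_val_iterate 98280 _ _
      (prodG_val pA pD pY⁻¹ fA fAi fd fdi fyi (vA H) (vAi H) (vD H) (vDi H) (vYi H) r.1) r.2)
    hb

/-! ## the centraliser of `a` -/

theorem cent_A (H : Hyp) (c : Equiv.Perm (Fin 98280)) (hc : c ∈ K) (hcomm : c * pA = pA * c) :
    ∃ k : ℕ, c = pA ^ k := by
  have himg := himg_of_comm 98280 pA c fA (vA H) hcomm 29795 lt98280 levels expsA basesA
  obtain ⟨ws, hws, -⟩ := treeSift_sound 98280 17 known1 7 (known1_ok H) levels [] chain_ok c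
    (sifts H c hc) _ himg
  have hex := allBelow_spec tA_all (c (pt 98280 29795)).val (Fin.isLt _)
  unfold candA at hex
  rw [hws] at hex
  simp only [Option.isNone_some, Bool.or_false] at hex
  rw [cycA_spec, List.any_map, List.any_eq_true] at hex
  obtain ⟨k, -, hk⟩ := hex
  have hk' : (c (pt 98280 29795)).val = fA^[k] 29795 := Nat.eq_of_beq_eq_true hk
  refine ⟨k, ?_⟩
  have hcomm' : pA ^ k * pA = pA * pA ^ k := by rw [← pow_succ, ← pow_succ']
  have himg' := himg_of_comm 98280 pA (pA ^ k) fA (vA H) hcomm' 29795 lt98280 levels expsA basesA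
  have hv : ((pA ^ k) (pt 98280 29795)).val = (c (pt 98280 29795)).val := by
    rw [hk', pow_val_iterate 98280 pA fA (vA H) k, pt_val 98280 lt98280]
  rw [hv] at himg'
  exact eq_of_imgs 98280 17 known1 7 (known1_ok H) levels [] chain_ok c (pA ^ k)
    (sifts H c hc) (sifts H _ (K.pow_mem (pA_mem H) k)) _ himg himg'

/-! ## the elements of `K` -/

/-- `a` in `K` -/
noncomputable def kA (H : Hyp) : ↥K := ⟨pA, pA_mem H⟩
/-- `d` in `K` -/
noncomputable def kD (H : Hyp) : ↥K := ⟨pD, pD_mem H⟩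
/-- `y` in `K` -/
noncomputable def kY (H : Hyp) : ↥K := ⟨pY, pY_mem H⟩

theorem hCa (H : Hyp) : ∀ c ∈ K, c * pA = pA * c → c ∈ Subgroup.zpowers pA := by
  intro c hc hcomm
  obtain ⟨k, hk⟩ := cent_A H c hc hcomm
  rw [hk]
  exact Subgroup.npow_mem_zpowers pA k

/-! ## rigidity -/

theorem hgen (H : Hyp) : Subgroup.closure ({kA H, kD H, kY H} : Set ↥K) = ⊤ := by
  have h1 : Subgroup.closure ({pA, pD, pY} : Set (Equiv.Perm (Fin 98280))) = K := by
    rw [← ady_grp H, pA_spec, pD_spec, pY_spec]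
    unfold genGroup
    congr 1
    ext s
    simp only [semGens, kn3, List.map_cons, List.map_nil, List.mem_cons, List.not_mem_nil, or_false,
      Set.mem_insert_iff, Set.mem_singleton_iff, Set.mem_ofPred_eq]
  apply Subgroup.map_injective K.subtype_injective
  rw [MonoidHom.map_closure, ← MonoidHom.range_eq_map, Subgroup.range_subtype]
  have : (K.subtype '' ({kA H, kD H, kY H} : Set ↥K)) = {pA, pD, pY} := by
    simp only [Set.image_insert_eq, Set.image_singleton]
    rfl
  rw [this]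
  exact h1

/-- the relations in `K`, transported by an automorphism fixing `d` -/
theorem rels_transport (H : Hyp) (χ : MulAut ↥K) (hd : χ (kD H) = kD H) :
    ∀ r ∈ rels, prodG (χ (kA H)).1 pD ((χ (kY H)).1)⁻¹ r.1 ^ r.2 = 1 := by
  intro r hr
  have e1 : prodG (kA H) (kD H) (kY H)⁻¹ r.1 ^ r.2 = 1 := by
    apply Subtype.ext
    rw [Subgroup.coe_pow]
    have := map_prodG K.subtype (kA H) (kD H) (kY H)⁻¹ r.1
    simp only [Subgroup.coe_subtype] at this
    rw [this]
    exact rels_hold H r hr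
  have e2 := congrArg χ e1
  rw [map_pow, map_one] at e2
  have e3 := map_prodG χ.toMonoidHom (kA H) (kD H) (kY H)⁻¹ r.1
  rw [MulEquiv.coe_toMonoidHom, map_inv] at e3
  rw [e3, hd] at e2
  have e4 := congrArg Subtype.val e2
  rw [Subgroup.coe_pow] at e4
  have e5 := map_prodG K.subtype (χ (kA H)) (kD H) (χ (kY H))⁻¹ r.1
  simp only [Subgroup.coe_subtype] at e5
  rw [e5] at e4
  exact e4

theorem hrig (H : Hyp) : ∀ χ : MulAut ↥K,
    (χ (kA H) = kA H ∨ χ (kA H) = (kA H)⁻¹) → χ (kD H) = kD H → χ = 1 := by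
  intro χ ha hd
  -- the image of `y`
  have e1 : kY H * kD H = kD H * kY H := Subtype.ext (y_d H)
  have f1 : χ (kY H) * kD H = kD H * χ (kY H) := by
    have := congrArg χ e1
    rwa [map_mul, map_mul, hd] at this
  have hcomm : (χ (kY H)).1 * pD = pD * (χ (kY H)).1 := congrArg Subtype.val f1
  have hzK : (χ (kY H)).1 ∈ K := (χ (kY H)).2
  obtain ⟨ws, hws, hact⟩ := conj_sift 98280 17 known1 7 (known1_ok H) levels _ _ rfl chain_ok
    pD pD (χ (kY H)).1 fd fd (vD H) (vD H) basesD (sifts H _ hzK) hcomm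
  have hws' : treeSift 17 known1 7 levels
      (iterImgs fd 5 ((χ (kY H)).1 (pt 98280 29795)).val) [] = some ws := hws
  have hex := allBelow_spec tD_all ((χ (kY H)).1 (pt 98280 29795)).val (Fin.isLt _)
  unfold candD at hex
  simp only [hws'] at hex
  rw [Bool.and_eq_true] at hex
  have hrel := rels_transport H χ hd
  have hb : (pt 98280 29795).val = 29795 := pt_val 98280 lt98280
  rcases ha with ha | ha
  · -- `a` is fixed: the image of `y` is `y`
    rw [ha] at hrel
    have ht := relTest_false pA pD ((χ (kY H)).1)⁻¹ fA fAi fd fdi (evalW 17 ws)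
      (vA H) (vAi H) (vD H) (vDi H) hact (pt 98280 29795) rels hrel
    rw [hb] at ht
    rw [ht, Bool.or_false] at hex
    have hz0 : ((χ (kY H)).1 (pt 98280 29795)).val = 58095 := Nat.eq_of_beq_eq_true hex.1
    have hzy : (χ (kY H)).1 = pY := by
      refine conj_rigid 98280 17 known1 7 (known1_ok H) levels _ _ rfl chain_ok pD pD _ pY
        fd fd (vD H) (vD H) basesD (sifts H _ hzK) (sifts H _ (pY_mem H)) hcomm (y_d H) ?_
      apply Fin.ext
      show ((χ (kY H)).1 (pt 98280 29795)).val = (pY (pt 98280 29795)).val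
      rw [hz0, vY H, hb, y_b]
    have hy : χ (kY H) = kY H := Subtype.ext hzy
    exact Cfsg.Agent.Lib.Helper28.OutOne.eq_one_of_fix (hgen H) χ ha hd hy
  · -- `a` is inverted: impossible
    exfalso
    rw [ha] at hrel
    have hinv : ((kA H)⁻¹ : ↥K).1 = pA⁻¹ := rfl
    rw [hinv] at hrel
    have ht := relTest_false pA⁻¹ pD ((χ (kY H)).1)⁻¹ fAi fA fd fdi (evalW 17 ws)
      (vAi H) (by intro x; rw [inv_inv]; exact vA H x) (vD H) (vDi H) hact (pt 98280 29795) rels hrel
    rw [hb] at ht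
    rw [ht] at hex
    exact Bool.false_ne_true hex.2

/-! ## arithmetic -/

theorem fac23 (H : Hyp) : (Nat.card ↥K).factorization 23 = 1 := by
  rw [(main1 H).2.1]
  have e : (4157776806543360000 : ℕ) = 23 ^ 1 * 180772904632320000 := by norm_num
  rw [e, Nat.factorization_mul (by norm_num) (by norm_num), Finsupp.add_apply,
    Nat.Prime.factorization_pow (by norm_num : Nat.Prime 23), Finsupp.single_eq_same,
    Nat.factorization_eq_zero_of_not_dvd (by norm_num)]

theorem hr23 : ∀ k : ℕ, 1 ≤ k → k < 23 → ∃ i : ℕ, k * 2 ^ i % 23 = 1 ∨ k * 2 ^ i % 23 = 23 - 1 := by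
  intro k h1 h2
  interval_cases k
  · exact ⟨0, by decide⟩
  · exact ⟨10, by decide⟩
  · exact ⟨3, by decide⟩
  · exact ⟨9, by decide⟩
  · exact ⟨5, by decide⟩
  · exact ⟨2, by decide⟩
  · exact ⟨7, by decide⟩
  · exact ⟨8, by decide⟩
  · exact ⟨6, by decide⟩
  · exact ⟨4, by decide⟩
  · exact ⟨1, by decide⟩
  · exact ⟨1, by decide⟩
  · exact ⟨4, by decide⟩
  · exact ⟨6, by decide⟩
  · exact ⟨8, by decide⟩
  · exact ⟨7, by decide⟩
  · exact ⟨2, by decide⟩
  · exact ⟨5, by decide⟩
  · exact ⟨9, by decide⟩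
  · exact ⟨3, by decide⟩
  · exact ⟨10, by decide⟩
  · exact ⟨0, by decide⟩

/-! ## the result -/

theorem out_K (H : Hyp) : Nat.card (Cfsg.Out ↥K) = 1 :=
  Cfsg.Agent.Lib.Helper27.OutPM.out_card_one_pm_sub K (p := 23) (a := pA) (d := pD)
    (pA_mem H) (pD_mem H) (order_pA H) (fac23 H) (d_conj H) hr23 (hCa H) (hrig H)

/-- the statement for the lattice side -/
theorem out_one (h0 : gensOK 98280 17 gens9 = true) (K0 : Subgroup (Equiv.Perm (Fin 98280)))
    (h1 : genGroup 98280 17 gens9 ≤ K0) (h2 : Nat.card K0 ≤ 4157776806543360000) :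
    Nat.card (Cfsg.Out ↥(genGroup 98280 17 gens9)) = 1 ∧ genGroup 98280 17 gens9 = K0 ∧
      Nat.card K0 = 4157776806543360000 := by
  have H : Hyp := ⟨h0, K0, h1, h2⟩
  refine ⟨out_K H, ?_⟩
  have hle : Nat.card K0 ≤ Nat.card ↥K := by rw [(main1 H).2.1]; exact h2
  have hKK : K = K0 := Subgroup.eq_of_le_of_card_ge h1 hle
  exact ⟨hKK, by rw [← hKK]; exact (main1 H).2.1⟩

end Cfsg.Agent.Lib.Helper27.Co1O
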