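import Cfsg.Agent.Lib.Helper28.Co1Link
import Cfsg.Agent.Lib.Helper27.Co1O.MainB
import Cfsg.Agent.H5.TCkSound

/-!
# The model of `Co₁` on 98280 points: words in the nine generators

`K = genGroup 98280 17 gens9` is helper28's `Co1B.K0 ≃* Cfsg.Spor.Co1`.  An element of `K` is determined by its
images on the five base points of the chain, so identities between words in the nine generators are checked by
tracing five points.  `wordK cs` is the element of the word `cs` (letters `2 i`, `2 i + 1` for the generator
`i` and its inverse, the head is the leftmost factor: the conventions of `Cfsg.H5.TCk.ev`).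
-/

set_option autoImplicit false
set_option maxRecDepth 100000

namespace Cfsg.Agent.Lib.Helper27.Co1O

open Cfsg.Agent.Lib.Helper28.BSGS Cfsg.Agent.Lib.Helper22.SuzOut Cfsg.Agent.Lib.Helper27.TreeSift
open Cfsg.Agent.Lib.Helper27.Big Cfsg.H5.TCk

attribute [local irreducible] permOf

/-! ## the hypotheses of the permutation side, supplied by the lattice side -/

theorem gens9_ok : gensOK 98280 17 gens9 = true := by
  rw [← Cfsg.Agent.Lib.Helper28.Co1L.gens_eq]
  exact Cfsg.Agent.Lib.Helper28.Co1B.gens9_ok

theorem gens9_le : genGroup 98280 17 gens9 ≤ Cfsg.Agent.Lib.Helper28.Co1B.K0 := by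
  rw [← Cfsg.Agent.Lib.Helper28.Co1L.gens_eq]
  exact Cfsg.Agent.Lib.Helper28.Co1B.gens9_le

theorem hyp : Hyp :=
  ⟨gens9_ok, Cfsg.Agent.Lib.Helper28.Co1B.K0, gens9_le, le_of_eq Cfsg.Agent.Lib.Helper28.Co1B.card_K0⟩

theorem K_eq : K = Cfsg.Agent.Lib.Helper28.Co1B.K0 :=
  (out_one gens9_ok _ gens9_le (le_of_eq Cfsg.Agent.Lib.Helper28.Co1B.card_K0)).2.1

theorem card_K : Nat.card ↥K = 4157776806543360000 := (main1 hyp).2.1

/-- `Co₁` is the group of the nine tables -/
noncomputable def co1EquivK : Cfsg.Spor.Co1 ≃* ↥K :=
  Cfsg.Agent.Lib.Helper28.Co1B.co1Equiv.trans (MulEquiv.subgroupCongr K_eq.symm)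

/-! ## words -/

/-- the letters of a word are in range -/
def okW (cs : List ℕ) : Bool := cs.all (fun c => Nat.blt (c / 2) 9)

/-- the element of a word in the nine generators -/
noncomputable def wordK (cs : List ℕ) : Equiv.Perm (Fin 98280) := pathPerm 98280 17 gens9 cs

theorem gens9_length : gens9.length = 9 := rfl

theorem okW_spec {cs : List ℕ} (h : okW cs = true) : ∀ c ∈ cs, c / 2 < gens9.length := by
  intro c hc
  rw [gens9_length]
  exact Nat.blt_eq.mp (List.all_eq_true.mp h c hc)

theorem okW_append {u v : List ℕ} (hu : okW u = true) (hv : okW v = true) : okW (u ++ v) = true := by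
  unfold okW at *
  rw [List.all_append, hu, hv]
  rfl

theorem okW_linv {l : ℕ} (h : Nat.blt (l / 2) 9 = true) : Nat.blt (linv l / 2) 9 = true := by
  rw [Nat.blt_eq] at *
  unfold linv
  split <;> omega

theorem okW_winv {u : List ℕ} (hu : okW u = true) : okW (winv u) = true := by
  induction u with
  | nil => rfl
  | cons l u ih =>
    unfold okW at hu
    rw [List.all_cons, Bool.and_eq_true] at hu
    unfold winv
    refine okW_append (ih hu.2) ?_
    unfold okW
    rw [List.all_cons, List.all_nil, Bool.and_true]
    exact okW_linv hu.1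

theorem wordK_mem {cs : List ℕ} (h : okW cs = true) : wordK cs ∈ K :=
  pathPerm_mem 98280 17 gens9 cs (okW_spec h)

theorem wordK_val {cs : List ℕ} (h : okW cs = true) (x : Fin 98280) :
    (wordK cs x).val = evalF 17 gens9 cs x.val :=
  (pathPerm_spec 98280 17 gens9 gens9_ok cs (okW_spec h) x).1

theorem wordK_nil : wordK [] = 1 := rfl

theorem wordK_cons (c : ℕ) (cs : List ℕ) : wordK (c :: cs) = wordK [c] * wordK cs := by
  unfold wordK
  rw [pathPerm_cons, pathPerm_cons, pathPerm_nil, mul_one]

theorem wordK_append (u v : List ℕ) : wordK (u ++ v) = wordK u * wordK v := by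
  induction u with
  | nil => rw [List.nil_append, wordK_nil, one_mul]
  | cons c u ih => rw [List.cons_append, wordK_cons, ih, wordK_cons c u, mul_assoc]

/-! ## identities by the base points -/

/-- the two words agree on the five base points -/
noncomputable def baseEq (cs cs' : List ℕ) : Bool :=
  levels.all (fun lv => Nat.beq (evalF 17 gens9 cs lv.1) (evalF 17 gens9 cs' lv.1))

/-- the word fixes the five base points -/
noncomputable def baseFix (cs : List ℕ) : Bool :=
  levels.all (fun lv => Nat.beq (evalF 17 gens9 cs lv.1) lv.1)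

/-- two elements of `K` that agree on the base points are equal -/
theorem eq_of_base_K (g g' : Equiv.Perm (Fin 98280)) (hg : g ∈ K) (hg' : g' ∈ K) (f f' : ℕ → ℕ)
    (hf : ∀ a : Fin 98280, (g a).val = f a.val) (hf' : ∀ a : Fin 98280, (g' a).val = f' a.val)
    (hb : levels.all (fun lv => Nat.beq (f lv.1) (f' lv.1)) = true) : g = g' :=
  eq_of_base 98280 17 known1 7 (known1_ok hyp) levels chain_ok g g' (sifts hyp g hg) (sifts hyp g' hg')
    f f' hf hf' hb

theorem wordK_eq_of_base {cs cs' : List ℕ} (h : okW cs = true) (h' : okW cs' = true)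
    (hb : baseEq cs cs' = true) : wordK cs = wordK cs' :=
  eq_of_base_K _ _ (wordK_mem h) (wordK_mem h') _ _ (wordK_val h) (wordK_val h') hb

theorem wordK_eq_one_of_base {cs : List ℕ} (h : okW cs = true) (hb : baseFix cs = true) :
    wordK cs = 1 :=
  eq_of_base_K _ 1 (wordK_mem h) K.one_mem _ (fun x => x) (wordK_val h) (fun _ => rfl) hb

/-! ## the inverse word -/

theorem wordK_linv (l : ℕ) : wordK [linv l] = (wordK [l])⁻¹ := by
  unfold wordK
  rw [pathPerm_cons, pathPerm_cons, pathPerm_nil, mul_one, mul_one]
  unfold letterPerm linv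
  by_cases h0 : l % 2 = 0
  · have h1 : (l + 1) % 2 ≠ 0 := by omega
    have h2 : (l + 1) / 2 = l / 2 := by omega
    rw [if_pos h0, if_pos h0, if_neg h1, h2]
  · have h1 : (l - 1) % 2 = 0 := by omega
    have h2 : (l - 1) / 2 = l / 2 := by omega
    rw [if_neg h0, if_neg h0, if_pos h1, h2, inv_inv]

theorem wordK_winv {u : List ℕ} (hu : okW u = true) : wordK (winv u) = (wordK u)⁻¹ := by
  induction u with
  | nil => rw [wordK_nil, inv_one]; rfl
  | cons l u ih =>
    unfold okW at hu
    rw [List.all_cons, Bool.and_eq_true] at hu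
    have e : winv (l :: u) = winv u ++ [linv l] := rfl
    rw [e, wordK_append, ih hu.2, wordK_linv l, wordK_cons l u, mul_inv_rev]

/-! ## generators given by words, relators -/

/-- the letter `l` over the generators `ws`, as a word in the nine generators -/
def substL (ws : List (List ℕ)) (l : ℕ) : List ℕ :=
  if l % 2 = 0 then ws.getD (l / 2) [] else winv (ws.getD (l / 2) [])

/-- the word `r` over the generators `ws`, as a word in the nine generators -/
def substW (ws : List (List ℕ)) : List ℕ → List ℕ
  | [] => []
  | l :: r => substL ws l ++ substW ws r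

/-- the elements of the words `ws` -/
noncomputable def genK (ws : List (List ℕ)) (i : ℕ) : Equiv.Perm (Fin 98280) := wordK (ws.getD i [])

theorem okW_getD {ws : List (List ℕ)} (hws : ws.all okW = true) (i : ℕ) : okW (ws.getD i []) = true := by
  by_cases hi : i < ws.length
  · rw [List.getD_eq_getElem _ _ hi]
    exact List.all_eq_true.mp hws _ (List.getElem_mem hi)
  · rw [List.getD_eq_default _ _ (Nat.le_of_not_lt hi)]
    rfl

theorem genK_mem {ws : List (List ℕ)} (hws : ws.all okW = true) (i : ℕ) : genK ws i ∈ K :=
  wordK_mem (okW_getD hws i)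

theorem okW_substL {ws : List (List ℕ)} (hws : ws.all okW = true) (l : ℕ) : okW (substL ws l) = true := by
  unfold substL
  split
  · exact okW_getD hws _
  · exact okW_winv (okW_getD hws _)

theorem okW_substW {ws : List (List ℕ)} (hws : ws.all okW = true) (r : List ℕ) :
    okW (substW ws r) = true := by
  induction r with
  | nil => rfl
  | cons l r ih => exact okW_append (okW_substL hws l) ih

theorem wordK_substL {ws : List (List ℕ)} (hws : ws.all okW = true) (l : ℕ) :
    wordK (substL ws l) = gl (genK ws) l := by
  unfold substL gl genK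
  split
  · rfl
  · exact wordK_winv (okW_getD hws _)

theorem wordK_substW {ws : List (List ℕ)} (hws : ws.all okW = true) (r : List ℕ) :
    wordK (substW ws r) = ev (genK ws) r := by
  induction r with
  | nil => rfl
  | cons l r ih =>
    have e : substW ws (l :: r) = substL ws l ++ substW ws r := rfl
    have e' : ev (genK ws) (l :: r) = gl (genK ws) l * ev (genK ws) r := rfl
    rw [e, e', wordK_append, ih, wordK_substL hws]

/-- relators over generators given by words: they hold as soon as they fix the five base points -/
theorem ev_eq_one_of_base {ws : List (List ℕ)} (hws : ws.all okW = true) (r : List ℕ)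
    (hb : baseFix (substW ws r) = true) : ev (genK ws) r = 1 := by
  rw [← wordK_substW hws]
  exact wordK_eq_one_of_base (okW_substW hws r) hb

theorem ev_eq_of_base {ws : List (List ℕ)} (hws : ws.all okW = true) (r r' : List ℕ)
    (hb : baseEq (substW ws r) (substW ws r') = true) : ev (genK ws) r = ev (genK ws) r' := by
  rw [← wordK_substW hws, ← wordK_substW hws]
  exact wordK_eq_of_base (okW_substW hws r) (okW_substW hws r') hb

theorem rels_hold_of_base {ws : List (List ℕ)} (hws : ws.all okW = true) (rels : List (List ℕ))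
    (hb : rels.all (fun r => baseFix (substW ws r)) = true) : ∀ r ∈ rels, ev (genK ws) r = 1 :=
  fun r hr => ev_eq_one_of_base hws r (List.all_eq_true.mp hb r hr)

/-- the elements of the words `ws`, in `K` -/
noncomputable def genKK (ws : List (List ℕ)) (hws : ws.all okW = true) (i : ℕ) : ↥K :=
  ⟨genK ws i, genK_mem hws i⟩

theorem ev_genKK {ws : List (List ℕ)} (hws : ws.all okW = true) (r : List ℕ) :
    ((ev (genKK ws hws) r : ↥K) : Equiv.Perm (Fin 98280)) = ev (genK ws) r := by
  induction r with
  | nil => rfl
  | cons l r ih =>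
    have e : ev (genKK ws hws) (l :: r) = gl (genKK ws hws) l * ev (genKK ws hws) r := rfl
    have e' : ev (genK ws) (l :: r) = gl (genK ws) l * ev (genK ws) r := rfl
    rw [e, e', Subgroup.coe_mul, ih]
    congr 1
    unfold gl
    split
    · rfl
    · rfl

theorem rels_hold_KK {ws : List (List ℕ)} (hws : ws.all okW = true) (rels : List (List ℕ))
    (hb : rels.all (fun r => baseFix (substW ws r)) = true) :
    ∀ r ∈ rels, ev (genKK ws hws) r = 1 := by
  intro r hr
  apply Subtype.ext
  rw [ev_genKK hws r]
  exact rels_hold_of_base hws rels hb r hr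

end Cfsg.Agent.Lib.Helper27.Co1O
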