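import Cfsg.Agent.Lib.Helper27.Co1O.Low
import Cfsg.Agent.Lib.Helper21.WeakL12
import Cfsg.Agent.Lib.Helper1.WeakL3
import Cfsg.Agent.Lib.Helper17.WeakL6
import Cfsg.Agent.Lib.Helper17.WeakL9
import Cfsg.Agent.Lib.Helper9.Co3P2G

/-!
# The `p`-part of the Schur multiplier of `Co₁`: the generic block (S2043)

A local subgroup `L` of `K = genGroup 98280 17 gens9 ≃* Co₁` is generated by elements of orders prime to `p` given as
words `ws` in the nine generators; the relators are the power relators and conjugation relators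
`u g_i u⁻¹ = g_j ^ l` (`Weak.conjRel`), checked in `K` on the five base points.  They hold for the lifts of the same
orders in every stem extension with `p`-group kernel, and a Todd–Coxeter certificate bounds the preimage of `L`.
-/

set_option autoImplicit false

namespace Cfsg.Agent.Lib.Helper27.Co1O.Block

open Cfsg Cfsg.H5.TCk Cfsg.H5.StemTC Cfsg.Agent.Lib.Helper10.Weak Cfsg.Agent.Lib.Helper27.Co1O
open Cfsg.Agent.Lib.Helper27.Co1O.Low

/-- the power relators `g_i ^ n_i` -/
def powRels (ords : List ℕ) : List (List ℕ) :=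
  (List.range ords.length).map fun i => List.replicate (ords.getD i 1) (2 * i)

/-- the conjugation relator of `(u, i, j, l)`: `u g_i u⁻¹ = g_j ^ l` -/
def crel (q : List ℕ × ℕ × ℕ × ℕ) : List ℕ := conjRel q.1 q.2.1 q.2.2.1 q.2.2.2

/-- all relators -/
def relsOf (ords : List ℕ) (conj : List (List ℕ × ℕ × ℕ × ℕ)) : List (List ℕ) :=
  powRels ords ++ conj.map crel

theorem mem_relsOf {ords : List ℕ} {conj : List (List ℕ × ℕ × ℕ × ℕ)} {r : List ℕ}
    (hr : r ∈ relsOf ords conj) :
    (∃ i < ords.length, r = List.replicate (ords.getD i 1) (2 * i)) ∨ ∃ q ∈ conj, r = crel q := by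
  unfold relsOf at hr
  rcases List.mem_append.mp hr with hr | hr
  · left
    unfold powRels at hr
    obtain ⟨i, hi, rfl⟩ := List.mem_map.mp hr
    exact ⟨i, List.mem_range.mp hi, rfl⟩
  · right
    obtain ⟨q, hq, rfl⟩ := List.mem_map.mp hr
    exact ⟨q, hq, rfl⟩

theorem pow_mem_relsOf {ords : List ℕ} (conj : List (List ℕ × ℕ × ℕ × ℕ)) {i : ℕ}
    (hi : i < ords.length) : List.replicate (ords.getD i 1) (2 * i) ∈ relsOf ords conj := by
  unfold relsOf powRels
  exact List.mem_append_left _ (List.mem_map.mpr ⟨i, List.mem_range.mpr hi, rfl⟩)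

/-- the order of the generator `i` (`1` out of range) -/
def ordOf (ords : List ℕ) (i : ℕ) : ℕ := ords.getD i 1

theorem ordOf_coprime {ords : List ℕ} {p : ℕ} (hcop : ords.all (fun n => Nat.beq (Nat.gcd n p) 1) = true)
    (i : ℕ) : (ordOf ords i).Coprime p := by
  unfold ordOf
  by_cases hi : i < ords.length
  · rw [List.getD_eq_getElem _ _ hi]
    exact Nat.eq_of_beq_eq_true (List.all_eq_true.mp hcop _ (List.getElem_mem hi))
  · rw [List.getD_eq_default _ _ (Nat.le_of_not_lt hi)]
    exact Nat.coprime_one_left p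

theorem genKK_of_le {ws : List (List ℕ)} (hws : ws.all okW = true) {i : ℕ} (hi : ws.length ≤ i) :
    genKK ws hws i = 1 := by
  apply Subtype.ext
  show wordK (ws.getD i []) = 1
  rw [List.getD_eq_default _ _ hi, wordK_nil]

/-- the power relators hold in `K` -/
theorem genKK_pow {ws : List (List ℕ)} (hws : ws.all okW = true) {ords : List ℕ}
    (hwt : ws.length = ords.length) (conj : List (List ℕ × ℕ × ℕ × ℕ))
    (hK : (relsOf ords conj).all (fun r => baseFix (substW ws r)) = true) (i : ℕ) :
    genKK ws hws i ^ ordOf ords i = 1 := by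
  by_cases hi : i < ords.length
  · have h := rels_hold_KK hws _ hK _ (pow_mem_relsOf conj hi)
    rwa [Helper1.ev_replicate, Helper1.gl_even] at h
  · rw [genKK_of_le hws (by omega)]
    exact one_pow _

/-- lifts of the same orders -/
theorem lifts_exist {Γ : Type} [Group Γ] [Finite Γ] (σ : Γ →* ↥K) (hs : Function.Surjective σ) {p : ℕ}
    (hk : IsPGroup p σ.ker) (γ : ℕ → ↥K) (n : ℕ → ℕ) (hn : ∀ i, (n i).Coprime p)
    (hγ : ∀ i, γ i ^ n i = 1) : ∃ γh : ℕ → Γ, (∀ i, σ (γh i) = γ i) ∧ ∀ i, γh i ^ n i = 1 := by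
  choose f hf using fun i => exists_lift_pow_eq_one σ hs hk (γ i) (hn i) (hγ i)
  exact ⟨f, fun i => (hf i).1, fun i => (hf i).2⟩

/-- THE LIFTING STEP: in a stem extension of `K` with `p`-group kernel there are lifts of the generators for which all
relators hold -/
theorem exists_lifts {p : ℕ} {ws : List (List ℕ)} (hws : ws.all okW = true) {ords : List ℕ}
    (hwt : ws.length = ords.length) (hcop : ords.all (fun n => Nat.beq (Nat.gcd n p) 1) = true)
    (conj : List (List ℕ × ℕ × ℕ × ℕ))
    (hK : (relsOf ords conj).all (fun r => baseFix (substW ws r)) = true)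
    {Γ : Type} [Group Γ] [Finite Γ] (σ : Γ →* ↥K) (hσ : IsStemExtension σ) (hk : IsPGroup p σ.ker) :
    ∃ γh : ℕ → Γ, (∀ i, σ (γh i) = genKK ws hws i) ∧ (∀ i, γh i ^ ordOf ords i = 1) ∧
      ∀ r ∈ relsOf ords conj, ev γh r = 1 := by
  obtain ⟨γh, hγh, hγo⟩ := lifts_exist σ hσ.1 hk (genKK ws hws) (ordOf ords) (ordOf_coprime hcop)
    (genKK_pow hws hwt conj hK)
  refine ⟨γh, hγh, hγo, ?_⟩
  intro r hr
  rcases mem_relsOf hr with ⟨i, _, rfl⟩ | ⟨q, hq, rfl⟩
  · rw [Helper1.ev_replicate, Helper1.gl_even]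
    exact hγo i
  · have hσγ : (fun k => σ (γh k)) = genKK ws hws := funext hγh
    apply ev_conjRel_eq_one σ hσ.2.1 hk γh (ordOf ords) q.1 q.2.1 q.2.2.1 q.2.2.2
      (ordOf_coprime hcop _) (ordOf_coprime hcop _) (hγo _) (hγo _)
    rw [hσγ]
    exact rels_hold_KK hws _ hK _ hr

theorem card_zpowers_le {G : Type} [Group G] (x : G) {n : ℕ} (hn : 0 < n) (hx : x ^ n = 1) :
    Finite (Subgroup.zpowers x) ∧ Nat.card (Subgroup.zpowers x) ≤ n := by
  have hfin : IsOfFinOrder x := isOfFinOrder_iff_pow_eq_one.mpr ⟨n, hn, hx⟩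
  refine ⟨?_, ?_⟩
  · exact Nat.finite_of_card_ne_zero (by
      rw [Nat.card_zpowers]; exact (orderOf_pos_iff.mpr hfin).ne')
  · rw [Nat.card_zpowers]
    exact Nat.le_of_dvd hn (orderOf_dvd_of_pow_eq_one hx)

theorem ev_single {G : Type} [Group G] (γ : ℕ → G) (i : ℕ) : ev γ [2 * i] = γ i := by
  show gl γ (2 * i) * 1 = γ i
  rw [mul_one, Helper1.gl_even]

/-- THE BLOCK with a Todd–Coxeter certificate over a subgroup whose order is bounded by `c` whenever the relators
hold: `|ker σ| · |L| ≤ bound · c` -/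
theorem ker_mul_card_le {p : ℕ} [Fact p.Prime] {ws : List (List ℕ)} (hws : ws.all okW = true) (t : ℕ)
    {ords : List ℕ} (hwt : ws.length = t) (hot : ords.length = t)
    (hcop : ords.all (fun n => Nat.beq (Nat.gcd n p) 1) = true)
    (conj : List (List ℕ × ℕ × ℕ × ℕ)) (rels : List (List ℕ)) (hrels : rels = relsOf ords conj)
    (hK : rels.all (fun r => baseFix (substW ws r)) = true)
    (hlet : rels.all (fun r => r.all (fun l => decide (l < 2 * t))) = true)
    (sgens : List (List ℕ)) (hsl : sgens.all (fun r => r.all (fun l => decide (l < 2 * t))) = true)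
    (c : ℕ)
    (hsub : ∀ {G : Type} [Group G] (γ' : ℕ → G), (∀ r ∈ rels, ev γ' r = 1) →
      ∃ K' : Subgroup G, Finite K' ∧ (∀ g ∈ sgens, ev γ' g ∈ K') ∧ Nat.card K' ≤ c)
    (hidx : ¬ p ∣ (Subgroup.closure (Set.range fun i : Fin t => genKK ws hws i.val)).index)
    (D F ncos bound : ℕ) (defs : List (ℕ × ℕ)) (log : List ℕ)
    (hchk : check D F (2 * t) ncos bound defs rels sgens log = true)
    {Γ : Type} [Group Γ] [Finite Γ] (σ : Γ →* ↥K) (hσ : IsStemExtension σ) (hk : IsPGroup p σ.ker) :
    Nat.card σ.ker * Nat.card ↥(Subgroup.closure (Set.range fun i : Fin t => genKK ws hws i.val)) ≤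
      bound * c := by
  subst hrels
  obtain ⟨γh, hγh, _, hrel⟩ := exists_lifts hws (hwt.trans hot.symm) hcop conj hK σ hσ hk
  obtain ⟨K', hfin, hK', hc⟩ := hsub γh hrel
  have h := card_ker_mul_card_le σ hσ p hk t (genKK ws hws) hidx γh (fun i _ => hγh i)
    (relsOf ords conj) (fun r hr => List.all_eq_true.mp hlet r hr) hrel sgens
    (fun g hg => List.all_eq_true.mp hsl g hg) K' hK' D F ncos bound defs log hchk
  exact le_trans h (Nat.mul_le_mul_left _ hc)

/-- the same certificate in `K` itself bounds the order of `L` -/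
theorem card_L_le {ws : List (List ℕ)} (hws : ws.all okW = true) (t : ℕ)
    (rels : List (List ℕ))
    (hK : rels.all (fun r => baseFix (substW ws r)) = true)
    (hlet : rels.all (fun r => r.all (fun l => decide (l < 2 * t))) = true)
    (sgens : List (List ℕ)) (hsl : sgens.all (fun r => r.all (fun l => decide (l < 2 * t))) = true)
    (c : ℕ)
    (hsub : ∀ {G : Type} [Group G] (γ' : ℕ → G), (∀ r ∈ rels, ev γ' r = 1) →
      ∃ K' : Subgroup G, Finite K' ∧ (∀ g ∈ sgens, ev γ' g ∈ K') ∧ Nat.card K' ≤ c)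
    (D F ncos bound : ℕ) (defs : List (ℕ × ℕ)) (log : List ℕ)
    (hchk : check D F (2 * t) ncos bound defs rels sgens log = true) :
    Nat.card ↥(Subgroup.closure (Set.range fun i : Fin t => genKK ws hws i.val)) ≤ bound * c := by
  have hrel := rels_hold_KK hws rels hK
  obtain ⟨K', hfin, hK', hc⟩ := hsub (genKK ws hws) hrel
  have h := (card_closure_le (genKK ws hws) t rels (fun r hr => List.all_eq_true.mp hlet r hr) hrel
    sgens (fun g hg => List.all_eq_true.mp hsl g hg) K' hK' D F ncos bound defs log hchk).2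
  exact le_trans h (Nat.mul_le_mul_left _ hc)

/-- THE BLOCK, complete, when the certificate closes at the order of `L`: kernel of order `≤ 1` -/
theorem part_le_one {p : ℕ} [Fact p.Prime] {ws : List (List ℕ)} (hws : ws.all okW = true) (t : ℕ)
    {ords : List ℕ} (hwt : ws.length = t) (hot : ords.length = t)
    (hcop : ords.all (fun n => Nat.beq (Nat.gcd n p) 1) = true)
    (conj : List (List ℕ × ℕ × ℕ × ℕ)) (rels : List (List ℕ)) (hrels : rels = relsOf ords conj)
    (hK : rels.all (fun r => baseFix (substW ws r)) = true)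
    (hlet : rels.all (fun r => r.all (fun l => decide (l < 2 * t))) = true)
    (sgens : List (List ℕ)) (hsl : sgens.all (fun r => r.all (fun l => decide (l < 2 * t))) = true)
    (c : ℕ)
    (hsub : ∀ {G : Type} [Group G] (γ' : ℕ → G), (∀ r ∈ rels, ev γ' r = 1) →
      ∃ K' : Subgroup G, Finite K' ∧ (∀ g ∈ sgens, ev γ' g ∈ K') ∧ Nat.card K' ≤ c)
    (N : ℕ) (hN : N ≤ Nat.card ↥(Subgroup.closure (Set.range fun i : Fin t => genKK ws hws i.val)))
    (D F ncos bound : ℕ) (defs : List (ℕ × ℕ)) (log : List ℕ)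
    (hchk : check D F (2 * t) ncos bound defs rels sgens log = true)
    (hb : bound * c ≤ N) (hp : ¬ p ∣ 4157776806543360000 / N)
    {Γ : Type} [Group Γ] [Finite Γ] (σ : Γ →* ↥K) (hσ : IsStemExtension σ) (hk : IsPGroup p σ.ker) :
    Nat.card σ.ker ≤ 1 := by
  have hle := card_L_le hws t rels hK hlet sgens hsl c hsub D F ncos bound defs log hchk
  have hcard : Nat.card ↥(Subgroup.closure (Set.range fun i : Fin t => genKK ws hws i.val)) = N :=
    le_antisymm (le_trans hle hb) hN
  have hidx := not_dvd_index_of_card hcard hp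
  have h := ker_mul_card_le hws t hwt hot hcop conj rels hrels hK hlet sgens hsl c hsub hidx
    D F ncos bound defs log hchk σ hσ hk
  rw [hcard] at h
  have hNpos : 0 < N := by
    rcases Nat.eq_zero_or_pos N with h0 | h0
    · exfalso; apply hp; rw [h0, Nat.div_zero]; exact dvd_zero p
    · exact h0
  by_contra hcon
  push Not at hcon
  have h2 : 2 * N ≤ Nat.card σ.ker * N := Nat.mul_le_mul_right N hcon
  omega

/-- the subgroup of the certificate is trivial (`sgens = []`) -/
theorem hsub_nil (rels : List (List ℕ)) {G : Type} [Group G] (γ' : ℕ → G) (_ : ∀ r ∈ rels, ev γ' r = 1) :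
    ∃ K' : Subgroup G, Finite K' ∧ (∀ g ∈ ([] : List (List ℕ)), ev γ' g ∈ K') ∧ Nat.card K' ≤ 1 :=
  ⟨⊥, inferInstance, fun _ hg => absurd hg List.not_mem_nil, le_of_eq Subgroup.card_bot⟩

/-- the subgroup of the certificate is generated by the generator `s` (`sgens = [[2 * s]]`) -/
theorem hsub_cyc (ords : List ℕ) (conj : List (List ℕ × ℕ × ℕ × ℕ)) {s : ℕ} (hs : s < ords.length)
    (hpos : 0 < ords.getD s 1) {G : Type} [Group G] (γ' : ℕ → G)
    (h : ∀ r ∈ relsOf ords conj, ev γ' r = 1) :
    ∃ K' : Subgroup G, Finite K' ∧ (∀ g ∈ [[2 * s]], ev γ' g ∈ K') ∧ Nat.card K' ≤ ords.getD s 1 := by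
  have hpow : γ' s ^ ords.getD s 1 = 1 := by
    have := h _ (pow_mem_relsOf conj hs)
    rwa [Helper1.ev_replicate, Helper1.gl_even] at this
  obtain ⟨hf, hc⟩ := card_zpowers_le (γ' s) hpos hpow
  refine ⟨Subgroup.zpowers (γ' s), hf, ?_, hc⟩
  intro g hg
  rw [List.mem_singleton] at hg
  rw [hg, ev_single]
  exact Subgroup.mem_zpowers _

/-! ## the same with an abstract bound for the order of the presented group -/

/-- a bound for every group generated by elements satisfying the relators bounds the subgroup generated by such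
elements -/
theorem card_closure_le_of_bound {G : Type} [Group G] (γ : ℕ → G) (t : ℕ) (rels : List (List ℕ))
    (hl : ∀ r ∈ rels, r.all (fun l => decide (l < 2 * t)) = true) (hrels : ∀ r ∈ rels, ev γ r = 1)
    (B : ℕ)
    (hB : ∀ (M : Type) [Group M] (γm : ℕ → M), (∀ r ∈ rels, ev γm r = 1) →
      Subgroup.closure (Set.range fun i : Fin t => γm i.val) = ⊤ → Nat.card M ≤ B) :
    Nat.card ↥(Subgroup.closure (Set.range fun i : Fin t => γ i.val)) ≤ B := by
  classical
  generalize hMdef : Subgroup.closure (Set.range fun i : Fin t => γ i.val) = M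
  have hγM : ∀ i < t, γ i ∈ M := by
    intro i hi
    rw [← hMdef]
    exact Subgroup.subset_closure ⟨⟨i, hi⟩, rfl⟩
  let γm : ℕ → M := fun i => if h : i < t then ⟨γ i, hγM i h⟩ else 1
  have hγm : ∀ i < t, ((γm i : M) : G) = γ i := by
    intro i hi
    simp only [γm, dif_pos hi]
  have hev : ∀ w : List ℕ, w.all (fun l => decide (l < 2 * t)) = true →
      ((ev γm w : M) : G) = ev γ w := by
    intro w hw
    have h1 : ((ev γm w : M) : G) = ev (fun i => ((γm i : M) : G)) w :=
      Cfsg.H5.StemTC.map_ev M.subtype γm w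
    rw [h1]
    exact Helper17.ev_congr_lt _ _ t (fun i hi => hγm i hi) w hw
  have hgenM : Subgroup.closure (Set.range fun i : Fin t => γm i.val) = ⊤ := by
    apply Subgroup.map_injective M.subtype_injective
    have h1 : (⊤ : Subgroup M).map M.subtype = M := by
      rw [← MonoidHom.range_eq_map, Subgroup.range_subtype]
    rw [h1, MonoidHom.map_closure]
    have himg : (⇑M.subtype '' Set.range fun i : Fin t => γm i.val) =
        Set.range fun i : Fin t => γ i.val := by
      ext x
      constructor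
      · rintro ⟨_, ⟨i, rfl⟩, rfl⟩
        exact ⟨i, (hγm i.val i.isLt).symm⟩
      · rintro ⟨i, rfl⟩
        exact ⟨γm i.val, ⟨i, rfl⟩, hγm i.val i.isLt⟩
    rw [himg]
    exact hMdef
  have hrelM : ∀ r ∈ rels, ev γm r = 1 := by
    intro r hr
    apply Subtype.ext
    rw [hev r (hl r hr), hrels r hr]
    rfl
  exact hB M γm hrelM hgenM

/-- THE BLOCK with an abstract bound `B` for the order of the presented group: `|ker σ| · |L| ≤ B` -/
theorem ker_mul_card_le_of_bound {p : ℕ} [Fact p.Prime] {ws : List (List ℕ)} (hws : ws.all okW = true)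
    (t : ℕ) {ords : List ℕ} (hwt : ws.length = t) (hot : ords.length = t)
    (hcop : ords.all (fun n => Nat.beq (Nat.gcd n p) 1) = true)
    (conj : List (List ℕ × ℕ × ℕ × ℕ)) (rels : List (List ℕ)) (hrels : rels = relsOf ords conj)
    (hK : rels.all (fun r => baseFix (substW ws r)) = true)
    (hlet : rels.all (fun r => r.all (fun l => decide (l < 2 * t))) = true)
    (B : ℕ)
    (hB : ∀ (M : Type) [Group M] (γm : ℕ → M), (∀ r ∈ rels, ev γm r = 1) →
      Subgroup.closure (Set.range fun i : Fin t => γm i.val) = ⊤ → Nat.card M ≤ B)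
    (hidx : ¬ p ∣ (Subgroup.closure (Set.range fun i : Fin t => genKK ws hws i.val)).index)
    {Γ : Type} [Group Γ] [Finite Γ] (σ : Γ →* ↥K) (hσ : IsStemExtension σ) (hk : IsPGroup p σ.ker) :
    Nat.card σ.ker * Nat.card ↥(Subgroup.closure (Set.range fun i : Fin t => genKK ws hws i.val)) ≤ B := by
  subst hrels
  obtain ⟨γh, hγh, _, hrel⟩ := exists_lifts hws (hwt.trans hot.symm) hcop conj hK σ hσ hk
  exact Cfsg.Agent.Lib.Helper20.Co3Mult.card_ker_mul_card_le_of_bound σ hσ p hk t (genKK ws hws) hidx γh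
    (fun i _ => hγh i) (relsOf ords conj) (fun r hr => List.all_eq_true.mp hlet r hr) hrel B hB

/-- the order of `L` itself is bounded by `B` -/
theorem card_L_le_of_bound {ws : List (List ℕ)} (hws : ws.all okW = true) (t : ℕ) (rels : List (List ℕ))
    (hK : rels.all (fun r => baseFix (substW ws r)) = true)
    (hlet : rels.all (fun r => r.all (fun l => decide (l < 2 * t))) = true) (B : ℕ)
    (hB : ∀ (M : Type) [Group M] (γm : ℕ → M), (∀ r ∈ rels, ev γm r = 1) →
      Subgroup.closure (Set.range fun i : Fin t => γm i.val) = ⊤ → Nat.card M ≤ B) :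
    Nat.card ↥(Subgroup.closure (Set.range fun i : Fin t => genKK ws hws i.val)) ≤ B :=
  card_closure_le_of_bound (genKK ws hws) t rels (fun r hr => List.all_eq_true.mp hlet r hr)
    (rels_hold_KK hws rels hK) B hB

/-- THE BLOCK, complete, with an abstract bound that is the order of `L`: kernel of order `≤ 1` -/
theorem part_le_one_of_bound {p : ℕ} [Fact p.Prime] {ws : List (List ℕ)} (hws : ws.all okW = true) (t : ℕ)
    {ords : List ℕ} (hwt : ws.length = t) (hot : ords.length = t)
    (hcop : ords.all (fun n => Nat.beq (Nat.gcd n p) 1) = true)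
    (conj : List (List ℕ × ℕ × ℕ × ℕ)) (rels : List (List ℕ)) (hrels : rels = relsOf ords conj)
    (hK : rels.all (fun r => baseFix (substW ws r)) = true)
    (hlet : rels.all (fun r => r.all (fun l => decide (l < 2 * t))) = true)
    (N : ℕ) (hN : N ≤ Nat.card ↥(Subgroup.closure (Set.range fun i : Fin t => genKK ws hws i.val)))
    (hB : ∀ (M : Type) [Group M] (γm : ℕ → M), (∀ r ∈ rels, ev γm r = 1) →
      Subgroup.closure (Set.range fun i : Fin t => γm i.val) = ⊤ → Nat.card M ≤ N)
    (hp : ¬ p ∣ 4157776806543360000 / N)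
    {Γ : Type} [Group Γ] [Finite Γ] (σ : Γ →* ↥K) (hσ : IsStemExtension σ) (hk : IsPGroup p σ.ker) :
    Nat.card σ.ker ≤ 1 := by
  have hle := card_L_le_of_bound hws t rels hK hlet N hB
  have hcard : Nat.card ↥(Subgroup.closure (Set.range fun i : Fin t => genKK ws hws i.val)) = N :=
    le_antisymm hle hN
  have hidx := not_dvd_index_of_card hcard hp
  have h := ker_mul_card_le_of_bound hws t hwt hot hcop conj rels hrels hK hlet N hB hidx σ hσ hk
  rw [hcard] at h
  have hNpos : 0 < N := by
    rcases Nat.eq_zero_or_pos N with h0 | h0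
    · exfalso; apply hp; rw [h0, Nat.div_zero]; exact dvd_zero p
    · exact h0
  by_contra hcon
  push Not at hcon
  have h2 : 2 * N ≤ Nat.card σ.ker * N := Nat.mul_le_mul_right N hcon
  omega

end Cfsg.Agent.Lib.Helper27.Co1O.Block
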