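import Cfsg.Agent.Lib.Helper27.Co1O.Defs
import Cfsg.Agent.Lib.Helper27.BigCount

/-! # S2069: sliced kernel computations (orbit count of level 0) -/

set_option autoImplicit false
set_option maxRecDepth 100000
set_option Elab.async false

namespace Cfsg.Agent.Lib.Helper27.Co1O

open Cfsg.Agent.Lib.Helper28.BSGS Cfsg.Agent.Lib.Helper22.SuzOut Cfsg.Agent.Lib.Helper27.TreeSift Cfsg.Agent.Lib.Helper27.Big

theorem ct0_c0 : cntOK orb0 0 4608 4608 = true := by decide +kernel

theorem ct0_c1 : cntOK orb0 4608 4846 4846 = true := by decide +kernel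

theorem ct0_c2 : cntOK orb0 9454 5126 5126 = true := by decide +kernel

theorem ct0_c3 : cntOK orb0 14580 5462 5462 = true := by decide +kernel

theorem ct0_c4 : cntOK orb0 20042 5873 5873 = true := by decide +kernel

theorem ct0_c5 : cntOK orb0 25915 6393 6393 = true := by decide +kernel

theorem ct0_c6 : cntOK orb0 32308 7084 7084 = true := by decide +kernel

theorem ct0_c7 : cntOK orb0 39392 8061 8061 = true := by decide +kernel

theorem ct0_c8 : cntOK orb0 47453 9609 9609 = true := by decide +kernel

theorem ct0_c9 : cntOK orb0 57062 12680 12680 = true := by decide +kernel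

theorem ct0_c10 : cntOK orb0 69742 28538 28538 = true := by decide +kernel

end Cfsg.Agent.Lib.Helper27.Co1O
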