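import Cfsg.Agent.Lib.Helper27.Co1O.Defs
import Cfsg.Agent.Lib.Helper27.BigCount

/-! # S2069: sliced kernel computations (orbit count of level 1) -/

set_option autoImplicit false
set_option maxRecDepth 100000
set_option Elab.async false

namespace Cfsg.Agent.Lib.Helper27.Co1O

open Cfsg.Agent.Lib.Helper28.BSGS Cfsg.Agent.Lib.Helper22.SuzOut Cfsg.Agent.Lib.Helper27.TreeSift Cfsg.Agent.Lib.Helper27.Big

theorem ct1_c0 : cntOK orb1 0 4608 2307 = true := by decide +kernel

theorem ct1_c1 : cntOK orb1 4608 4846 2548 = true := by decide +kernel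

theorem ct1_c2 : cntOK orb1 9454 5126 2270 = true := by decide +kernel

theorem ct1_c3 : cntOK orb1 14580 5462 2704 = true := by decide +kernel

theorem ct1_c4 : cntOK orb1 20042 5873 2969 = true := by decide +kernel

theorem ct1_c5 : cntOK orb1 25915 6393 3573 = true := by decide +kernel

theorem ct1_c6 : cntOK orb1 32308 7084 3225 = true := by decide +kernel

theorem ct1_c7 : cntOK orb1 39392 8061 3790 = true := by decide +kernel

theorem ct1_c8 : cntOK orb1 47453 9609 4678 = true := by decide +kernel

theorem ct1_c9 : cntOK orb1 57062 12680 6105 = true := by decide +kernel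

theorem ct1_c10 : cntOK orb1 69742 28538 12935 = true := by decide +kernel

end Cfsg.Agent.Lib.Helper27.Co1O
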