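import Cfsg.Agent.Lib.Helper27.Co1O.Defs
import Cfsg.Agent.Lib.Helper27.BigCount

/-! # S2069: sliced kernel computations (orbit count of level 2) -/

set_option autoImplicit false
set_option maxRecDepth 100000
set_option Elab.async false

namespace Cfsg.Agent.Lib.Helper27.Co1O

open Cfsg.Agent.Lib.Helper28.BSGS Cfsg.Agent.Lib.Helper22.SuzOut Cfsg.Agent.Lib.Helper27.TreeSift Cfsg.Agent.Lib.Helper27.Big

theorem ct2_c0 : cntOK orb2 0 4608 1035 = true := by decide +kernel

theorem ct2_c1 : cntOK orb2 4608 4846 949 = true := by decide +kernel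

theorem ct2_c2 : cntOK orb2 9454 5126 939 = true := by decide +kernel

theorem ct2_c3 : cntOK orb2 14580 5462 1109 = true := by decide +kernel

theorem ct2_c4 : cntOK orb2 20042 5873 1254 = true := by decide +kernel

theorem ct2_c5 : cntOK orb2 25915 6393 1234 = true := by decide +kernel

theorem ct2_c6 : cntOK orb2 32308 7084 973 = true := by decide +kernel

theorem ct2_c7 : cntOK orb2 39392 8061 1247 = true := by decide +kernel

theorem ct2_c8 : cntOK orb2 47453 9609 1609 = true := by decide +kernel

theorem ct2_c9 : cntOK orb2 57062 12680 1591 = true := by decide +kernel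

theorem ct2_c10 : cntOK orb2 69742 28538 3460 = true := by decide +kernel

end Cfsg.Agent.Lib.Helper27.Co1O
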