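import Cfsg.Agent.Lib.Helper27.Co1O.Defs
import Cfsg.Agent.Lib.Helper27.BigCount

/-! # S2069: sliced kernel computations (orbit count of level 3) -/

set_option autoImplicit false
set_option maxRecDepth 100000
set_option Elab.async false

namespace Cfsg.Agent.Lib.Helper27.Co1O

open Cfsg.Agent.Lib.Helper28.BSGS Cfsg.Agent.Lib.Helper22.SuzOut Cfsg.Agent.Lib.Helper27.TreeSift Cfsg.Agent.Lib.Helper27.Big

theorem ct3_c0 : cntOK orb3 0 4608 510 = true := by decide +kernel

theorem ct3_c1 : cntOK orb3 4608 4846 413 = true := by decide +kernel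

theorem ct3_c2 : cntOK orb3 9454 5126 404 = true := by decide +kernel

theorem ct3_c3 : cntOK orb3 14580 5462 534 = true := by decide +kernel

theorem ct3_c4 : cntOK orb3 20042 5873 437 = true := by decide +kernel

theorem ct3_c5 : cntOK orb3 25915 6393 479 = true := by decide +kernel

theorem ct3_c6 : cntOK orb3 32308 7084 390 = true := by decide +kernel

theorem ct3_c7 : cntOK orb3 39392 8061 459 = true := by decide +kernel

theorem ct3_c8 : cntOK orb3 47453 9609 593 = true := by decide +kernel

theorem ct3_c9 : cntOK orb3 57062 12680 578 = true := by decide +kernel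

theorem ct3_c10 : cntOK orb3 69742 28538 1035 = true := by decide +kernel

end Cfsg.Agent.Lib.Helper27.Co1O
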