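import Cfsg.Agent.Lib.Helper27.Co1O.Defs
import Cfsg.Agent.Lib.Helper27.BigCount

/-! # S2069: sliced kernel computations (orbit count of level 4) -/

set_option autoImplicit false
set_option maxRecDepth 100000
set_option Elab.async false

namespace Cfsg.Agent.Lib.Helper27.Co1O

open Cfsg.Agent.Lib.Helper28.BSGS Cfsg.Agent.Lib.Helper22.SuzOut Cfsg.Agent.Lib.Helper27.TreeSift Cfsg.Agent.Lib.Helper27.Big

theorem ct4_c0 : cntOK orb4 0 4608 0 = true := by decide +kernel

theorem ct4_c1 : cntOK orb4 4608 4846 2 = true := by decide +kernel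

theorem ct4_c2 : cntOK orb4 9454 5126 1 = true := by decide +kernel

theorem ct4_c3 : cntOK orb4 14580 5462 0 = true := by decide +kernel

theorem ct4_c4 : cntOK orb4 20042 5873 0 = true := by decide +kernel

theorem ct4_c5 : cntOK orb4 25915 6393 1 = true := by decide +kernel

theorem ct4_c6 : cntOK orb4 32308 7084 1 = true := by decide +kernel

theorem ct4_c7 : cntOK orb4 39392 8061 2 = true := by decide +kernel

theorem ct4_c8 : cntOK orb4 47453 9609 0 = true := by decide +kernel

theorem ct4_c9 : cntOK orb4 57062 12680 1 = true := by decide +kernel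

theorem ct4_c10 : cntOK orb4 69742 28538 2 = true := by decide +kernel

end Cfsg.Agent.Lib.Helper27.Co1O
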