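import Cfsg.Agent.Lib.Helper27.Co1O.TabY
import Cfsg.Agent.Lib.Helper27.Co1O.TabA
import Cfsg.Agent.Lib.Helper27.Co1O.TabD
import Cfsg.Agent.Lib.Helper27.Co1O.TabS3
import Cfsg.Agent.Lib.Helper27.Co1O.TabS4
import Cfsg.Agent.Lib.Helper27.Co1O.TabS5
import Cfsg.Agent.Lib.Helper27.Co1O.TabS6
import Cfsg.Agent.Lib.Helper27.Co1O.TabS7
import Cfsg.Agent.Lib.Helper27.Co1O.TabS8
import Cfsg.Agent.Lib.Helper27.Co1O.TabS9
import Cfsg.Agent.Lib.Helper27.Co1O.TabS10
import Cfsg.Agent.Lib.Helper27.Co1O.TabS11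
import Cfsg.Agent.Lib.Helper27.Co1O.TabV0
import Cfsg.Agent.Lib.Helper27.Co1O.TabV1
import Cfsg.Agent.Lib.Helper27.Co1O.TabV2
import Cfsg.Agent.Lib.Helper27.Co1O.TabV3
import Cfsg.Agent.Lib.Helper27.Co1O.TabV4
import Cfsg.Agent.Lib.Helper27.BigPath
import Cfsg.Agent.Lib.Helper27.BigLevel
import Cfsg.Agent.Lib.Helper27.BigRel

/-! # S2069: `a`, `d`, `y`, the strong generators, words, levels and the point checks -/

set_option autoImplicit false

namespace Cfsg.Agent.Lib.Helper27.Co1O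

open Cfsg.Agent.Lib.Helper28.BSGS Cfsg.Agent.Lib.Helper22.SuzOut Cfsg.Agent.Lib.Helper27.TreeSift Cfsg.Agent.Lib.Helper27.Big

noncomputable def py : ℕ × ℕ := (tyf, tyb)
noncomputable def pa : ℕ × ℕ := (taf, tab)
noncomputable def pd : ℕ × ℕ := (tdf, tdb)
noncomputable def ps3 : ℕ × ℕ := (ts3f, ts3b)
noncomputable def ps4 : ℕ × ℕ := (ts4f, ts4b)
noncomputable def ps5 : ℕ × ℕ := (ts5f, ts5b)
noncomputable def ps6 : ℕ × ℕ := (ts6f, ts6b)
noncomputable def ps7 : ℕ × ℕ := (ts7f, ts7b)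
noncomputable def ps8 : ℕ × ℕ := (ts8f, ts8b)
noncomputable def ps9 : ℕ × ℕ := (ts9f, ts9b)
noncomputable def ps10 : ℕ × ℕ := (ts10f, ts10b)
noncomputable def ps11 : ℕ × ℕ := (ts11f, ts11b)

noncomputable def kn3 : List (ℕ × ℕ) := [pa, pd, py]

noncomputable def kn4 : List (ℕ × ℕ) := [pa, pd, py, ps3]

noncomputable def kn5 : List (ℕ × ℕ) := [pa, pd, py, ps3, ps4]

noncomputable def kn6 : List (ℕ × ℕ) := [pa, pd, py, ps3, ps4, ps5]

noncomputable def kn7 : List (ℕ × ℕ) := [pa, pd, py, ps3, ps4, ps5, ps6]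

noncomputable def kn8 : List (ℕ × ℕ) := [pa, pd, py, ps3, ps4, ps5, ps6, ps7]

noncomputable def kn9 : List (ℕ × ℕ) := [pa, pd, py, ps3, ps4, ps5, ps6, ps7, ps8]

noncomputable def kn10 : List (ℕ × ℕ) := [pa, pd, py, ps3, ps4, ps5, ps6, ps7, ps8, ps9]

noncomputable def kn11 : List (ℕ × ℕ) := [pa, pd, py, ps3, ps4, ps5, ps6, ps7, ps8, ps9, ps10]

noncomputable def kn12 : List (ℕ × ℕ) := [pa, pd, py, ps3, ps4, ps5, ps6, ps7, ps8, ps9, ps10, ps11]

/-- `a`, `d`, `y` and the strong generators -/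
noncomputable def known1 : List (ℕ × ℕ) := [pa, pd, py, ps3, ps4, ps5, ps6, ps7, ps8, ps9, ps10, ps11]

def cs3 : List ℕ := [1, 2]
def cs4 : List ℕ := [2, 5, 6, 5, 1, 4, 1, 5, 0, 4]
def cs5 : List ℕ := [6, 6, 9, 7, 9, 6, 6, 8, 7]
def cs6 : List ℕ := [9, 7, 9, 10, 8, 8, 7, 8, 8]
def cs7 : List ℕ := [10, 12, 12, 11, 11, 11, 13, 13, 11, 13]
def cs8 : List ℕ := [10, 10, 10, 12, 14, 13, 11, 11, 13]
def cs9 : List ℕ := [13, 10, 16, 13, 16, 16, 13, 11, 11, 13]
def cs10 : List ℕ := [14, 17, 18, 17, 18, 17, 14, 16]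
def cs11 : List ℕ := [19, 14, 16, 19, 17, 14, 16]

noncomputable def chk3 : ℕ → Bool := fwdOK 17 kn3 ps3 cs3
noncomputable def chk4 : ℕ → Bool := fwdOK 17 kn4 ps4 cs4
noncomputable def chk5 : ℕ → Bool := fwdOK 17 kn5 ps5 cs5
noncomputable def chk6 : ℕ → Bool := fwdOK 17 kn6 ps6 cs6
noncomputable def chk7 : ℕ → Bool := fwdOK 17 kn7 ps7 cs7
noncomputable def chk8 : ℕ → Bool := fwdOK 17 kn8 ps8 cs8
noncomputable def chk9 : ℕ → Bool := fwdOK 17 kn9 ps9 cs9
noncomputable def chk10 : ℕ → Bool := fwdOK 17 kn10 ps10 cs10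
noncomputable def chk11 : ℕ → Bool := fwdOK 17 kn11 ps11 cs11

/-- the chain: base points and Schreier vectors -/
noncomputable def levels : List TLevel := [(29795, tv0), (14316, tv1), (17197, tv2), (31219, tv3), (83347, tv4)]

noncomputable def lvl0 : ℕ → Bool := lvlPt 98280 17 known1 7 [] (29795, tv0)
noncomputable def lvl1 : ℕ → Bool := lvlPt 98280 17 known1 7 [29795] (14316, tv1)
noncomputable def lvl2 : ℕ → Bool := lvlPt 98280 17 known1 7 [14316, 29795] (17197, tv2)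
noncomputable def lvl3 : ℕ → Bool := lvlPt 98280 17 known1 7 [17197, 14316, 29795] (31219, tv3)
noncomputable def lvl4 : ℕ → Bool := lvlPt 98280 17 known1 7 [31219, 17197, 14316, 29795] (83347, tv4)

noncomputable def orb0 : ℕ → Bool := orbPt 17 tv0
noncomputable def orb1 : ℕ → Bool := orbPt 17 tv1
noncomputable def orb2 : ℕ → Bool := orbPt 17 tv2
noncomputable def orb3 : ℕ → Bool := orbPt 17 tv3
noncomputable def orb4 : ℕ → Bool := orbPt 17 tv4

noncomputable def fA (x : ℕ) : ℕ := look 17 taf x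
noncomputable def fAi (x : ℕ) : ℕ := look 17 tab x
noncomputable def fd (x : ℕ) : ℕ := look 17 tdf x
noncomputable def fdi (x : ℕ) : ℕ := look 17 tdb x
noncomputable def fy (x : ℕ) : ℕ := look 17 tyf x
noncomputable def fyi (x : ℕ) : ℕ := look 17 tyb x

/-- the base points are `a ^ e` of the first one -/
def expsA : List ℕ := [0, 1, 3, 7, 15]

/-- the `a`-cycle of the first base point -/
def cycA : List ℕ := [29795, 14316, 80788, 17197, 76619, 10982, 13626, 31219, 23505, 83562, 81175, 81800, 67645, 80153, 18301, 83347, 30416, 72574, 73684, 22788, 28710, 70473, 76506]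

/-- candidates for the image of the first base point under an element centralising `a` -/
noncomputable def candA (p : ℕ) : Bool :=
  cycA.any (Nat.beq p) || Option.isNone (treeSift 17 known1 7 levels (imgsE fA expsA p) [])

/-- word orders in `a`, `d`, `y⁻¹` (letters `0 1 2 3 4`) -/
def rels : List (List ℕ × ℕ) := [([0, 4, 1], 3), ([0, 4, 1, 3], 10), ([0, 3, 3, 4], 22)]

/-- candidates for the image of the first base point under the image of `y`: it commutes with `d`; all word orders survive only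
for `y` itself, and none if `a` is inverted -/
noncomputable def candD (p : ℕ) : Bool :=
  match treeSift 17 known1 7 levels (iterImgs fd 5 p) [] with
  | none => true
  | some ws => (Nat.beq p 58095 || relTest fA fAi fd fdi (evalW 17 ws) 29795 rels) &&
      relTest fAi fA fd fdi (evalW 17 ws) 29795 rels

end Cfsg.Agent.Lib.Helper27.Co1O
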