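import Cfsg.Agent.Lib.Helper27.Co1O.Gens9
import Cfsg.Agent.Lib.Helper27.Co1O.Defs

/-! # S2069: `y`, `a`, `d` as words in the nine generators of the lattice side -/

set_option autoImplicit false

namespace Cfsg.Agent.Lib.Helper27.Co1O

open Cfsg.Agent.Lib.Helper28.BSGS Cfsg.Agent.Lib.Helper22.SuzOut Cfsg.Agent.Lib.Helper27.TreeSift Cfsg.Agent.Lib.Helper27.Big

/-- the generators and `y` -/
noncomputable def known0y : List (ℕ × ℕ) := gens9 ++ [py]

/-- the generators, `y` and `a` -/
noncomputable def known0a : List (ℕ × ℕ) := known0y ++ [pa]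

/-- the generators, `y`, `a` and `d` -/
noncomputable def known0 : List (ℕ × ℕ) := known0a ++ [pd]

def csY : List ℕ := [10, 6, 12, 6, 14, 6, 16]
def csA : List ℕ := [0, 4, 4]
def csD : List ℕ := [1, 3, 1, 5, 5, 2, 4, 3, 0]

noncomputable def chkY : ℕ → Bool := fwdOK 17 gens9 py csY
noncomputable def chkA : ℕ → Bool := fwdOK 17 known0y pa csA
noncomputable def chkD : ℕ → Bool := fwdOK 17 known0a pd csD

end Cfsg.Agent.Lib.Helper27.Co1O
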