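import Cfsg.Agent.Lib.Helper27.Co1O.TabG0
import Cfsg.Agent.Lib.Helper27.Co1O.TabG1
import Cfsg.Agent.Lib.Helper27.Co1O.TabG2
import Cfsg.Agent.Lib.Helper27.Co1O.TabM0
import Cfsg.Agent.Lib.Helper27.Co1O.TabM1
import Cfsg.Agent.Lib.Helper27.Co1O.TabK1
import Cfsg.Agent.Lib.Helper27.Co1O.TabK2
import Cfsg.Agent.Lib.Helper27.Co1O.TabK3
import Cfsg.Agent.Lib.Helper27.Co1O.TabK4

/-! # S2069: the nine generator table pairs of the lattice side -/

set_option autoImplicit false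

namespace Cfsg.Agent.Lib.Helper27.Co1O

noncomputable def pg0 : ℕ × ℕ := (tg0f, tg0b)
noncomputable def pg1 : ℕ × ℕ := (tg1f, tg1b)
noncomputable def pg2 : ℕ × ℕ := (tg2f, tg2b)
noncomputable def pm0 : ℕ × ℕ := (tm0f, tm0b)
noncomputable def pm1 : ℕ × ℕ := (tm1f, tm1b)
noncomputable def pk1 : ℕ × ℕ := (tk1f, tk1b)
noncomputable def pk2 : ℕ × ℕ := (tk2f, tk2b)
noncomputable def pk3 : ℕ × ℕ := (tk3f, tk3b)
noncomputable def pk4 : ℕ × ℕ := (tk4f, tk4b)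

/-- the nine generators of the lattice side -/
noncomputable def gens9 : List (ℕ × ℕ) := [pg0, pg1, pg2, pm0, pm1, pk1, pk2, pk3, pk4]

end Cfsg.Agent.Lib.Helper27.Co1O
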