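import Cfsg.Agent.Lib.Helper27.Co1O.Defs

/-! # S2069: sliced kernel computations (level 0) -/

set_option autoImplicit false
set_option maxRecDepth 100000
set_option Elab.async false

namespace Cfsg.Agent.Lib.Helper27.Co1O

open Cfsg.Agent.Lib.Helper28.BSGS Cfsg.Agent.Lib.Helper22.SuzOut Cfsg.Agent.Lib.Helper27.TreeSift Cfsg.Agent.Lib.Helper27.Big

theorem lv0_c40 : rangeAll lvl0 25011 659 = true := by decide +kernel

theorem lv0_c41 : rangeAll lvl0 25670 670 = true := by decide +kernel

theorem lv0_c42 : rangeAll lvl0 26340 665 = true := by decide +kernel

theorem lv0_c43 : rangeAll lvl0 27005 688 = true := by decide +kernel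

theorem lv0_c44 : rangeAll lvl0 27693 674 = true := by decide +kernel

theorem lv0_c45 : rangeAll lvl0 28367 669 = true := by decide +kernel

theorem lv0_c46 : rangeAll lvl0 29036 688 = true := by decide +kernel

theorem lv0_c47 : rangeAll lvl0 29724 693 = true := by decide +kernel

theorem lv0_c48 : rangeAll lvl0 30417 692 = true := by decide +kernel

theorem lv0_c49 : rangeAll lvl0 31109 700 = true := by decide +kernel

theorem lv0_c50 : rangeAll lvl0 31809 695 = true := by decide +kernel

theorem lv0_c51 : rangeAll lvl0 32504 691 = true := by decide +kernel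

theorem lv0_c52 : rangeAll lvl0 33195 673 = true := by decide +kernel

theorem lv0_c53 : rangeAll lvl0 33868 683 = true := by decide +kernel

theorem lv0_c54 : rangeAll lvl0 34551 683 = true := by decide +kernel

theorem lv0_c55 : rangeAll lvl0 35234 687 = true := by decide +kernel

theorem lv0_c56 : rangeAll lvl0 35921 694 = true := by decide +kernel

theorem lv0_c57 : rangeAll lvl0 36615 698 = true := by decide +kernel

theorem lv0_c58 : rangeAll lvl0 37313 691 = true := by decide +kernel

theorem lv0_c59 : rangeAll lvl0 38004 697 = true := by decide +kernel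

theorem lv0_c60 : rangeAll lvl0 38701 704 = true := by decide +kernel

theorem lv0_c61 : rangeAll lvl0 39405 707 = true := by decide +kernel

theorem lv0_c62 : rangeAll lvl0 40112 714 = true := by decide +kernel

theorem lv0_c63 : rangeAll lvl0 40826 713 = true := by decide +kernel

theorem lv0_c64 : rangeAll lvl0 41539 719 = true := by decide +kernel

theorem lv0_c65 : rangeAll lvl0 42258 716 = true := by decide +kernel

theorem lv0_c66 : rangeAll lvl0 42974 716 = true := by decide +kernel

theorem lv0_c67 : rangeAll lvl0 43690 717 = true := by decide +kernel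

theorem lv0_c68 : rangeAll lvl0 44407 733 = true := by decide +kernel

theorem lv0_c69 : rangeAll lvl0 45140 733 = true := by decide +kernel

theorem lv0_c70 : rangeAll lvl0 45873 722 = true := by decide +kernel

theorem lv0_c71 : rangeAll lvl0 46595 734 = true := by decide +kernel

theorem lv0_c72 : rangeAll lvl0 47329 745 = true := by decide +kernel

theorem lv0_c73 : rangeAll lvl0 48074 736 = true := by decide +kernel

theorem lv0_c74 : rangeAll lvl0 48810 747 = true := by decide +kernel

theorem lv0_c75 : rangeAll lvl0 49557 745 = true := by decide +kernel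

theorem lv0_c76 : rangeAll lvl0 50302 763 = true := by decide +kernel

theorem lv0_c77 : rangeAll lvl0 51065 748 = true := by decide +kernel

theorem lv0_c78 : rangeAll lvl0 51813 753 = true := by decide +kernel

theorem lv0_c79 : rangeAll lvl0 52566 763 = true := by decide +kernel

end Cfsg.Agent.Lib.Helper27.Co1O
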