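import Cfsg.Agent.Lib.Helper27.Co1O.Defs

/-! # S2069: sliced kernel computations (level 0) -/

set_option autoImplicit false
set_option maxRecDepth 100000
set_option Elab.async false

namespace Cfsg.Agent.Lib.Helper27.Co1O

open Cfsg.Agent.Lib.Helper28.BSGS Cfsg.Agent.Lib.Helper22.SuzOut Cfsg.Agent.Lib.Helper27.TreeSift Cfsg.Agent.Lib.Helper27.Big

theorem lv0_c80 : rangeAll lvl0 53329 770 = true := by decide +kernel

theorem lv0_c81 : rangeAll lvl0 54099 781 = true := by decide +kernel

theorem lv0_c82 : rangeAll lvl0 54880 781 = true := by decide +kernel

theorem lv0_c83 : rangeAll lvl0 55661 776 = true := by decide +kernel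

theorem lv0_c84 : rangeAll lvl0 56437 778 = true := by decide +kernel

theorem lv0_c85 : rangeAll lvl0 57215 789 = true := by decide +kernel

theorem lv0_c86 : rangeAll lvl0 58004 788 = true := by decide +kernel

theorem lv0_c87 : rangeAll lvl0 58792 799 = true := by decide +kernel

theorem lv0_c88 : rangeAll lvl0 59591 778 = true := by decide +kernel

theorem lv0_c89 : rangeAll lvl0 60369 801 = true := by decide +kernel

theorem lv0_c90 : rangeAll lvl0 61170 812 = true := by decide +kernel

theorem lv0_c91 : rangeAll lvl0 61982 794 = true := by decide +kernel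

theorem lv0_c92 : rangeAll lvl0 62776 813 = true := by decide +kernel

theorem lv0_c93 : rangeAll lvl0 63589 808 = true := by decide +kernel

theorem lv0_c94 : rangeAll lvl0 64397 823 = true := by decide +kernel

theorem lv0_c95 : rangeAll lvl0 65220 807 = true := by decide +kernel

theorem lv0_c96 : rangeAll lvl0 66027 812 = true := by decide +kernel

theorem lv0_c97 : rangeAll lvl0 66839 809 = true := by decide +kernel

theorem lv0_c98 : rangeAll lvl0 67648 808 = true := by decide +kernel

theorem lv0_c99 : rangeAll lvl0 68456 826 = true := by decide +kernel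

theorem lv0_c100 : rangeAll lvl0 69282 817 = true := by decide +kernel

theorem lv0_c101 : rangeAll lvl0 70099 822 = true := by decide +kernel

theorem lv0_c102 : rangeAll lvl0 70921 833 = true := by decide +kernel

theorem lv0_c103 : rangeAll lvl0 71754 842 = true := by decide +kernel

theorem lv0_c104 : rangeAll lvl0 72596 824 = true := by decide +kernel

theorem lv0_c105 : rangeAll lvl0 73420 839 = true := by decide +kernel

theorem lv0_c106 : rangeAll lvl0 74259 852 = true := by decide +kernel

theorem lv0_c107 : rangeAll lvl0 75111 851 = true := by decide +kernel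

theorem lv0_c108 : rangeAll lvl0 75962 867 = true := by decide +kernel

theorem lv0_c109 : rangeAll lvl0 76829 872 = true := by decide +kernel

theorem lv0_c110 : rangeAll lvl0 77701 871 = true := by decide +kernel

theorem lv0_c111 : rangeAll lvl0 78572 866 = true := by decide +kernel

theorem lv0_c112 : rangeAll lvl0 79438 878 = true := by decide +kernel

theorem lv0_c113 : rangeAll lvl0 80316 868 = true := by decide +kernel

theorem lv0_c114 : rangeAll lvl0 81184 895 = true := by decide +kernel

theorem lv0_c115 : rangeAll lvl0 82079 918 = true := by decide +kernel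

theorem lv0_c116 : rangeAll lvl0 82997 897 = true := by decide +kernel

theorem lv0_c117 : rangeAll lvl0 83894 901 = true := by decide +kernel

theorem lv0_c118 : rangeAll lvl0 84795 907 = true := by decide +kernel

theorem lv0_c119 : rangeAll lvl0 85702 930 = true := by decide +kernel

end Cfsg.Agent.Lib.Helper27.Co1O
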