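import Cfsg.Agent.Lib.Helper27.Co1O.Defs

/-! # S2069: sliced kernel computations (level 0) -/

set_option autoImplicit false
set_option maxRecDepth 100000
set_option Elab.async false

namespace Cfsg.Agent.Lib.Helper27.Co1O

open Cfsg.Agent.Lib.Helper28.BSGS Cfsg.Agent.Lib.Helper22.SuzOut Cfsg.Agent.Lib.Helper27.TreeSift Cfsg.Agent.Lib.Helper27.Big

theorem lv0_c120 : rangeAll lvl0 86632 940 = true := by decide +kernel

theorem lv0_c121 : rangeAll lvl0 87572 948 = true := by decide +kernel

theorem lv0_c122 : rangeAll lvl0 88520 915 = true := by decide +kernel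

theorem lv0_c123 : rangeAll lvl0 89435 906 = true := by decide +kernel

theorem lv0_c124 : rangeAll lvl0 90341 937 = true := by decide +kernel

theorem lv0_c125 : rangeAll lvl0 91278 926 = true := by decide +kernel

theorem lv0_c126 : rangeAll lvl0 92204 939 = true := by decide +kernel

theorem lv0_c127 : rangeAll lvl0 93143 948 = true := by decide +kernel

theorem lv0_c128 : rangeAll lvl0 94091 980 = true := by decide +kernel

theorem lv0_c129 : rangeAll lvl0 95071 969 = true := by decide +kernel

theorem lv0_c130 : rangeAll lvl0 96040 983 = true := by decide +kernel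

theorem lv0_c131 : rangeAll lvl0 97023 973 = true := by decide +kernel

theorem lv0_c132 : rangeAll lvl0 97996 284 = true := by decide +kernel

end Cfsg.Agent.Lib.Helper27.Co1O
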