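import Cfsg.Agent.Lib.Helper27.Co1O.Defs

/-! # S2069: sliced kernel computations (level 1) -/

set_option autoImplicit false
set_option maxRecDepth 100000
set_option Elab.async false

namespace Cfsg.Agent.Lib.Helper27.Co1O

open Cfsg.Agent.Lib.Helper28.BSGS Cfsg.Agent.Lib.Helper22.SuzOut Cfsg.Agent.Lib.Helper27.TreeSift Cfsg.Agent.Lib.Helper27.Big

theorem lv1_c0 : rangeAll lvl1 0 702 = true := by decide +kernel

theorem lv1_c1 : rangeAll lvl1 702 728 = true := by decide +kernel

theorem lv1_c2 : rangeAll lvl1 1430 825 = true := by decide +kernel

theorem lv1_c3 : rangeAll lvl1 2255 839 = true := by decide +kernel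

theorem lv1_c4 : rangeAll lvl1 3094 802 = true := by decide +kernel

theorem lv1_c5 : rangeAll lvl1 3896 699 = true := by decide +kernel

theorem lv1_c6 : rangeAll lvl1 4595 751 = true := by decide +kernel

theorem lv1_c7 : rangeAll lvl1 5346 773 = true := by decide +kernel

theorem lv1_c8 : rangeAll lvl1 6119 734 = true := by decide +kernel

theorem lv1_c9 : rangeAll lvl1 6853 701 = true := by decide +kernel

theorem lv1_c10 : rangeAll lvl1 7554 722 = true := by decide +kernel

theorem lv1_c11 : rangeAll lvl1 8276 685 = true := by decide +kernel

theorem lv1_c12 : rangeAll lvl1 8961 959 = true := by decide +kernel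

theorem lv1_c13 : rangeAll lvl1 9920 885 = true := by decide +kernel

theorem lv1_c14 : rangeAll lvl1 10805 920 = true := by decide +kernel

theorem lv1_c15 : rangeAll lvl1 11725 901 = true := by decide +kernel

theorem lv1_c16 : rangeAll lvl1 12626 777 = true := by decide +kernel

theorem lv1_c17 : rangeAll lvl1 13403 841 = true := by decide +kernel

theorem lv1_c18 : rangeAll lvl1 14244 908 = true := by decide +kernel

theorem lv1_c19 : rangeAll lvl1 15152 788 = true := by decide +kernel

theorem lv1_c20 : rangeAll lvl1 15940 817 = true := by decide +kernel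

theorem lv1_c21 : rangeAll lvl1 16757 881 = true := by decide +kernel

theorem lv1_c22 : rangeAll lvl1 17638 776 = true := by decide +kernel

theorem lv1_c23 : rangeAll lvl1 18414 733 = true := by decide +kernel

theorem lv1_c24 : rangeAll lvl1 19147 780 = true := by decide +kernel

theorem lv1_c25 : rangeAll lvl1 19927 797 = true := by decide +kernel

theorem lv1_c26 : rangeAll lvl1 20724 849 = true := by decide +kernel

theorem lv1_c27 : rangeAll lvl1 21573 801 = true := by decide +kernel

theorem lv1_c28 : rangeAll lvl1 22374 837 = true := by decide +kernel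

theorem lv1_c29 : rangeAll lvl1 23211 882 = true := by decide +kernel

theorem lv1_c30 : rangeAll lvl1 24093 750 = true := by decide +kernel

theorem lv1_c31 : rangeAll lvl1 24843 766 = true := by decide +kernel

theorem lv1_c32 : rangeAll lvl1 25609 842 = true := by decide +kernel

theorem lv1_c33 : rangeAll lvl1 26451 711 = true := by decide +kernel

theorem lv1_c34 : rangeAll lvl1 27162 749 = true := by decide +kernel

theorem lv1_c35 : rangeAll lvl1 27911 810 = true := by decide +kernel

theorem lv1_c36 : rangeAll lvl1 28721 807 = true := by decide +kernel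

theorem lv1_c37 : rangeAll lvl1 29528 732 = true := by decide +kernel

theorem lv1_c38 : rangeAll lvl1 30260 732 = true := by decide +kernel

theorem lv1_c39 : rangeAll lvl1 30992 784 = true := by decide +kernel

end Cfsg.Agent.Lib.Helper27.Co1O
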