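import Cfsg.Agent.Lib.Helper27.Co1O.Defs

/-! # S2069: sliced kernel computations (level 1) -/

set_option autoImplicit false
set_option maxRecDepth 100000
set_option Elab.async false

namespace Cfsg.Agent.Lib.Helper27.Co1O

open Cfsg.Agent.Lib.Helper28.BSGS Cfsg.Agent.Lib.Helper22.SuzOut Cfsg.Agent.Lib.Helper27.TreeSift Cfsg.Agent.Lib.Helper27.Big

theorem lv1_c40 : rangeAll lvl1 31776 664 = true := by decide +kernel

theorem lv1_c41 : rangeAll lvl1 32440 838 = true := by decide +kernel

theorem lv1_c42 : rangeAll lvl1 33278 952 = true := by decide +kernel

theorem lv1_c43 : rangeAll lvl1 34230 934 = true := by decide +kernel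

theorem lv1_c44 : rangeAll lvl1 35164 937 = true := by decide +kernel

theorem lv1_c45 : rangeAll lvl1 36101 961 = true := by decide +kernel

theorem lv1_c46 : rangeAll lvl1 37062 965 = true := by decide +kernel

theorem lv1_c47 : rangeAll lvl1 38027 976 = true := by decide +kernel

theorem lv1_c48 : rangeAll lvl1 39003 960 = true := by decide +kernel

theorem lv1_c49 : rangeAll lvl1 39963 947 = true := by decide +kernel

theorem lv1_c50 : rangeAll lvl1 40910 966 = true := by decide +kernel

theorem lv1_c51 : rangeAll lvl1 41876 966 = true := by decide +kernel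

theorem lv1_c52 : rangeAll lvl1 42842 968 = true := by decide +kernel

theorem lv1_c53 : rangeAll lvl1 43810 992 = true := by decide +kernel

theorem lv1_c54 : rangeAll lvl1 44802 854 = true := by decide +kernel

theorem lv1_c55 : rangeAll lvl1 45656 837 = true := by decide +kernel

theorem lv1_c56 : rangeAll lvl1 46493 881 = true := by decide +kernel

theorem lv1_c57 : rangeAll lvl1 47374 922 = true := by decide +kernel

theorem lv1_c58 : rangeAll lvl1 48296 912 = true := by decide +kernel

theorem lv1_c59 : rangeAll lvl1 49208 902 = true := by decide +kernel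

theorem lv1_c60 : rangeAll lvl1 50110 936 = true := by decide +kernel

theorem lv1_c61 : rangeAll lvl1 51046 990 = true := by decide +kernel

theorem lv1_c62 : rangeAll lvl1 52036 1016 = true := by decide +kernel

theorem lv1_c63 : rangeAll lvl1 53052 907 = true := by decide +kernel

theorem lv1_c64 : rangeAll lvl1 53959 888 = true := by decide +kernel

theorem lv1_c65 : rangeAll lvl1 54847 932 = true := by decide +kernel

theorem lv1_c66 : rangeAll lvl1 55779 997 = true := by decide +kernel

theorem lv1_c67 : rangeAll lvl1 56776 877 = true := by decide +kernel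

theorem lv1_c68 : rangeAll lvl1 57653 887 = true := by decide +kernel

theorem lv1_c69 : rangeAll lvl1 58540 946 = true := by decide +kernel

theorem lv1_c70 : rangeAll lvl1 59486 936 = true := by decide +kernel

theorem lv1_c71 : rangeAll lvl1 60422 1047 = true := by decide +kernel

theorem lv1_c72 : rangeAll lvl1 61469 847 = true := by decide +kernel

theorem lv1_c73 : rangeAll lvl1 62316 918 = true := by decide +kernel

theorem lv1_c74 : rangeAll lvl1 63234 958 = true := by decide +kernel

theorem lv1_c75 : rangeAll lvl1 64192 873 = true := by decide +kernel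

theorem lv1_c76 : rangeAll lvl1 65065 1045 = true := by decide +kernel

theorem lv1_c77 : rangeAll lvl1 66110 1158 = true := by decide +kernel

theorem lv1_c78 : rangeAll lvl1 67268 1197 = true := by decide +kernel

theorem lv1_c79 : rangeAll lvl1 68465 1087 = true := by decide +kernel

end Cfsg.Agent.Lib.Helper27.Co1O
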