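import Cfsg.Agent.Lib.Helper27.Co1O.Defs

/-! # S2069: sliced kernel computations (level 1) -/

set_option autoImplicit false
set_option maxRecDepth 100000
set_option Elab.async false

namespace Cfsg.Agent.Lib.Helper27.Co1O

open Cfsg.Agent.Lib.Helper28.BSGS Cfsg.Agent.Lib.Helper22.SuzOut Cfsg.Agent.Lib.Helper27.TreeSift Cfsg.Agent.Lib.Helper27.Big

theorem lv1_c80 : rangeAll lvl1 69552 1130 = true := by decide +kernel

theorem lv1_c81 : rangeAll lvl1 70682 1211 = true := by decide +kernel

theorem lv1_c82 : rangeAll lvl1 71893 1098 = true := by decide +kernel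

theorem lv1_c83 : rangeAll lvl1 72991 1167 = true := by decide +kernel

theorem lv1_c84 : rangeAll lvl1 74158 993 = true := by decide +kernel

theorem lv1_c85 : rangeAll lvl1 75151 1106 = true := by decide +kernel

theorem lv1_c86 : rangeAll lvl1 76257 1157 = true := by decide +kernel

theorem lv1_c87 : rangeAll lvl1 77414 1195 = true := by decide +kernel

theorem lv1_c88 : rangeAll lvl1 78609 1222 = true := by decide +kernel

theorem lv1_c89 : rangeAll lvl1 79831 1060 = true := by decide +kernel

theorem lv1_c90 : rangeAll lvl1 80891 1071 = true := by decide +kernel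

theorem lv1_c91 : rangeAll lvl1 81962 1209 = true := by decide +kernel

theorem lv1_c92 : rangeAll lvl1 83171 1010 = true := by decide +kernel

theorem lv1_c93 : rangeAll lvl1 84181 1129 = true := by decide +kernel

theorem lv1_c94 : rangeAll lvl1 85310 1002 = true := by decide +kernel

theorem lv1_c95 : rangeAll lvl1 86312 981 = true := by decide +kernel

theorem lv1_c96 : rangeAll lvl1 87293 1054 = true := by decide +kernel

theorem lv1_c97 : rangeAll lvl1 88347 948 = true := by decide +kernel

theorem lv1_c98 : rangeAll lvl1 89295 1237 = true := by decide +kernel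

theorem lv1_c99 : rangeAll lvl1 90532 1261 = true := by decide +kernel

theorem lv1_c100 : rangeAll lvl1 91793 1239 = true := by decide +kernel

theorem lv1_c101 : rangeAll lvl1 93032 1242 = true := by decide +kernel

theorem lv1_c102 : rangeAll lvl1 94274 1254 = true := by decide +kernel

theorem lv1_c103 : rangeAll lvl1 95528 1255 = true := by decide +kernel

theorem lv1_c104 : rangeAll lvl1 96783 1436 = true := by decide +kernel

theorem lv1_c105 : rangeAll lvl1 98219 61 = true := by decide +kernel

end Cfsg.Agent.Lib.Helper27.Co1O
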