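import Cfsg.Agent.Lib.Helper27.Co1O.Defs

/-! # S2069: sliced kernel computations (level 2) -/

set_option autoImplicit false
set_option maxRecDepth 100000
set_option Elab.async false

namespace Cfsg.Agent.Lib.Helper27.Co1O

open Cfsg.Agent.Lib.Helper28.BSGS Cfsg.Agent.Lib.Helper22.SuzOut Cfsg.Agent.Lib.Helper27.TreeSift Cfsg.Agent.Lib.Helper27.Big

theorem lv2_c0 : rangeAll lvl2 0 747 = true := by decide +kernel

theorem lv2_c1 : rangeAll lvl2 747 1212 = true := by decide +kernel

theorem lv2_c2 : rangeAll lvl2 1959 1173 = true := by decide +kernel

theorem lv2_c3 : rangeAll lvl2 3132 1342 = true := by decide +kernel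

theorem lv2_c4 : rangeAll lvl2 4474 1105 = true := by decide +kernel

theorem lv2_c5 : rangeAll lvl2 5579 1222 = true := by decide +kernel

theorem lv2_c6 : rangeAll lvl2 6801 1213 = true := by decide +kernel

theorem lv2_c7 : rangeAll lvl2 8014 1473 = true := by decide +kernel

theorem lv2_c8 : rangeAll lvl2 9487 1477 = true := by decide +kernel

theorem lv2_c9 : rangeAll lvl2 10964 1688 = true := by decide +kernel

theorem lv2_c10 : rangeAll lvl2 12652 1063 = true := by decide +kernel

theorem lv2_c11 : rangeAll lvl2 13715 1231 = true := by decide +kernel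

theorem lv2_c12 : rangeAll lvl2 14946 1415 = true := by decide +kernel

theorem lv2_c13 : rangeAll lvl2 16361 1489 = true := by decide +kernel

theorem lv2_c14 : rangeAll lvl2 17850 1095 = true := by decide +kernel

theorem lv2_c15 : rangeAll lvl2 18945 1037 = true := by decide +kernel

theorem lv2_c16 : rangeAll lvl2 19982 1103 = true := by decide +kernel

theorem lv2_c17 : rangeAll lvl2 21085 1532 = true := by decide +kernel

theorem lv2_c18 : rangeAll lvl2 22617 1438 = true := by decide +kernel

theorem lv2_c19 : rangeAll lvl2 24055 1145 = true := by decide +kernel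

theorem lv2_c20 : rangeAll lvl2 25200 1070 = true := by decide +kernel

theorem lv2_c21 : rangeAll lvl2 26270 1647 = true := by decide +kernel

theorem lv2_c22 : rangeAll lvl2 27917 1530 = true := by decide +kernel

theorem lv2_c23 : rangeAll lvl2 29447 1291 = true := by decide +kernel

theorem lv2_c24 : rangeAll lvl2 30738 1132 = true := by decide +kernel

theorem lv2_c25 : rangeAll lvl2 31870 2034 = true := by decide +kernel

theorem lv2_c26 : rangeAll lvl2 33904 1738 = true := by decide +kernel

theorem lv2_c27 : rangeAll lvl2 35642 1760 = true := by decide +kernel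

theorem lv2_c28 : rangeAll lvl2 37402 1928 = true := by decide +kernel

theorem lv2_c29 : rangeAll lvl2 39330 1738 = true := by decide +kernel

theorem lv2_c30 : rangeAll lvl2 41068 1880 = true := by decide +kernel

theorem lv2_c31 : rangeAll lvl2 42948 1917 = true := by decide +kernel

theorem lv2_c32 : rangeAll lvl2 44865 1813 = true := by decide +kernel

theorem lv2_c33 : rangeAll lvl2 46678 1436 = true := by decide +kernel

theorem lv2_c34 : rangeAll lvl2 48114 1757 = true := by decide +kernel

theorem lv2_c35 : rangeAll lvl2 49871 1732 = true := by decide +kernel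

theorem lv2_c36 : rangeAll lvl2 51603 1818 = true := by decide +kernel

theorem lv2_c37 : rangeAll lvl2 53421 1472 = true := by decide +kernel

theorem lv2_c38 : rangeAll lvl2 54893 1828 = true := by decide +kernel

theorem lv2_c39 : rangeAll lvl2 56721 2137 = true := by decide +kernel

end Cfsg.Agent.Lib.Helper27.Co1O
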