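import Cfsg.Agent.Lib.Helper27.Co1O.Defs

/-! # S2069: sliced kernel computations (level 2) -/

set_option autoImplicit false
set_option maxRecDepth 100000
set_option Elab.async false

namespace Cfsg.Agent.Lib.Helper27.Co1O

open Cfsg.Agent.Lib.Helper28.BSGS Cfsg.Agent.Lib.Helper22.SuzOut Cfsg.Agent.Lib.Helper27.TreeSift Cfsg.Agent.Lib.Helper27.Big

theorem lv2_c40 : rangeAll lvl2 58858 1863 = true := by decide +kernel

theorem lv2_c41 : rangeAll lvl2 60721 2353 = true := by decide +kernel

theorem lv2_c42 : rangeAll lvl2 63074 2142 = true := by decide +kernel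

theorem lv2_c43 : rangeAll lvl2 65216 3623 = true := by decide +kernel

theorem lv2_c44 : rangeAll lvl2 68839 2006 = true := by decide +kernel

theorem lv2_c45 : rangeAll lvl2 70845 2942 = true := by decide +kernel

theorem lv2_c46 : rangeAll lvl2 73787 2333 = true := by decide +kernel

theorem lv2_c47 : rangeAll lvl2 76120 2656 = true := by decide +kernel

theorem lv2_c48 : rangeAll lvl2 78776 2633 = true := by decide +kernel

theorem lv2_c49 : rangeAll lvl2 81409 2511 = true := by decide +kernel

theorem lv2_c50 : rangeAll lvl2 83920 3278 = true := by decide +kernel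

theorem lv2_c51 : rangeAll lvl2 87198 2877 = true := by decide +kernel

theorem lv2_c52 : rangeAll lvl2 90075 2761 = true := by decide +kernel

theorem lv2_c53 : rangeAll lvl2 92836 2613 = true := by decide +kernel

theorem lv2_c54 : rangeAll lvl2 95449 2831 = true := by decide +kernel

end Cfsg.Agent.Lib.Helper27.Co1O
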