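import Cfsg.Agent.Lib.Helper27.Co1O.Defs

/-! # S2069: sliced kernel computations (level 3) -/

set_option autoImplicit false
set_option maxRecDepth 100000
set_option Elab.async false

namespace Cfsg.Agent.Lib.Helper27.Co1O

open Cfsg.Agent.Lib.Helper28.BSGS Cfsg.Agent.Lib.Helper22.SuzOut Cfsg.Agent.Lib.Helper27.TreeSift Cfsg.Agent.Lib.Helper27.Big

theorem lv3_c0 : rangeAll lvl3 0 1007 = true := by decide +kernel

theorem lv3_c1 : rangeAll lvl3 1007 1754 = true := by decide +kernel

theorem lv3_c2 : rangeAll lvl3 2761 1861 = true := by decide +kernel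

theorem lv3_c3 : rangeAll lvl3 4622 1684 = true := by decide +kernel

theorem lv3_c4 : rangeAll lvl3 6306 1868 = true := by decide +kernel

theorem lv3_c5 : rangeAll lvl3 8174 2154 = true := by decide +kernel

theorem lv3_c6 : rangeAll lvl3 10328 2114 = true := by decide +kernel

theorem lv3_c7 : rangeAll lvl3 12442 1905 = true := by decide +kernel

theorem lv3_c8 : rangeAll lvl3 14347 1862 = true := by decide +kernel

theorem lv3_c9 : rangeAll lvl3 16209 1983 = true := by decide +kernel

theorem lv3_c10 : rangeAll lvl3 18192 1459 = true := by decide +kernel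

theorem lv3_c11 : rangeAll lvl3 19651 1777 = true := by decide +kernel

theorem lv3_c12 : rangeAll lvl3 21428 2338 = true := by decide +kernel

theorem lv3_c13 : rangeAll lvl3 23766 2326 = true := by decide +kernel

theorem lv3_c14 : rangeAll lvl3 26092 2427 = true := by decide +kernel

theorem lv3_c15 : rangeAll lvl3 28519 2339 = true := by decide +kernel

theorem lv3_c16 : rangeAll lvl3 30858 2420 = true := by decide +kernel

theorem lv3_c17 : rangeAll lvl3 33278 2635 = true := by decide +kernel

theorem lv3_c18 : rangeAll lvl3 35913 2610 = true := by decide +kernel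

theorem lv3_c19 : rangeAll lvl3 38523 3170 = true := by decide +kernel

theorem lv3_c20 : rangeAll lvl3 41693 3134 = true := by decide +kernel

theorem lv3_c21 : rangeAll lvl3 44827 2659 = true := by decide +kernel

theorem lv3_c22 : rangeAll lvl3 47486 2902 = true := by decide +kernel

theorem lv3_c23 : rangeAll lvl3 50388 2707 = true := by decide +kernel

theorem lv3_c24 : rangeAll lvl3 53095 3080 = true := by decide +kernel

theorem lv3_c25 : rangeAll lvl3 56175 3178 = true := by decide +kernel

theorem lv3_c26 : rangeAll lvl3 59353 3837 = true := by decide +kernel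

theorem lv3_c27 : rangeAll lvl3 63190 4907 = true := by decide +kernel

theorem lv3_c28 : rangeAll lvl3 68097 4966 = true := by decide +kernel

theorem lv3_c29 : rangeAll lvl3 73063 3813 = true := by decide +kernel

theorem lv3_c30 : rangeAll lvl3 76876 7488 = true := by decide +kernel

theorem lv3_c31 : rangeAll lvl3 84364 6606 = true := by decide +kernel

theorem lv3_c32 : rangeAll lvl3 90970 6239 = true := by decide +kernel

theorem lv3_c33 : rangeAll lvl3 97209 1071 = true := by decide +kernel

end Cfsg.Agent.Lib.Helper27.Co1O
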