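import Cfsg.Agent.Lib.Helper27.Co1O.Defs

/-! # S2069: sliced kernel computations (level 4) -/

set_option autoImplicit false
set_option maxRecDepth 100000
set_option Elab.async false

namespace Cfsg.Agent.Lib.Helper27.Co1O

open Cfsg.Agent.Lib.Helper28.BSGS Cfsg.Agent.Lib.Helper22.SuzOut Cfsg.Agent.Lib.Helper27.TreeSift Cfsg.Agent.Lib.Helper27.Big

theorem lv4_c0 : rangeAll lvl4 0 4608 = true := by decide +kernel

theorem lv4_c1 : rangeAll lvl4 4608 4825 = true := by decide +kernel

theorem lv4_c2 : rangeAll lvl4 9433 5109 = true := by decide +kernel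

theorem lv4_c3 : rangeAll lvl4 14542 5459 = true := by decide +kernel

theorem lv4_c4 : rangeAll lvl4 20001 5869 = true := by decide +kernel

theorem lv4_c5 : rangeAll lvl4 25870 6382 = true := by decide +kernel

theorem lv4_c6 : rangeAll lvl4 32252 7062 = true := by decide +kernel

theorem lv4_c7 : rangeAll lvl4 39314 8014 = true := by decide +kernel

theorem lv4_c8 : rangeAll lvl4 47328 9580 = true := by decide +kernel

theorem lv4_c9 : rangeAll lvl4 56908 12598 = true := by decide +kernel

theorem lv4_c10 : rangeAll lvl4 69506 28774 = true := by decide +kernel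

end Cfsg.Agent.Lib.Helper27.Co1O
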