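import Cfsg.Agent.Lib.Helper27.Co1O.Lvl0_0
import Cfsg.Agent.Lib.Helper27.Co1O.Lvl0_1
import Cfsg.Agent.Lib.Helper27.Co1O.Lvl0_2
import Cfsg.Agent.Lib.Helper27.Co1O.Lvl0_3
import Cfsg.Agent.Lib.Helper27.Co1O.Cnt0_0
import Cfsg.Agent.Lib.Helper27.Co1O.Lvl1_0
import Cfsg.Agent.Lib.Helper27.Co1O.Lvl1_1
import Cfsg.Agent.Lib.Helper27.Co1O.Lvl1_2
import Cfsg.Agent.Lib.Helper27.Co1O.Cnt1_0
import Cfsg.Agent.Lib.Helper27.Co1O.Lvl2_0
import Cfsg.Agent.Lib.Helper27.Co1O.Lvl2_1
import Cfsg.Agent.Lib.Helper27.Co1O.Cnt2_0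
import Cfsg.Agent.Lib.Helper27.Co1O.Lvl3_0
import Cfsg.Agent.Lib.Helper27.Co1O.Cnt3_0
import Cfsg.Agent.Lib.Helper27.Co1O.Lvl4_0
import Cfsg.Agent.Lib.Helper27.Co1O.Cnt4_0
import Cfsg.Agent.Lib.Helper27.BigCount

/-! # S2069: gluing the slices of the level checks and orbit counts -/

set_option autoImplicit false

namespace Cfsg.Agent.Lib.Helper27.Co1O

open Cfsg.Agent.Lib.Helper28.BSGS Cfsg.Agent.Lib.Helper22.SuzOut Cfsg.Agent.Lib.Helper27.TreeSift Cfsg.Agent.Lib.Helper27.Big

theorem lv0_g0 : allBelow lvl0 590 = true :=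
  allBelow_extend (f := lvl0) (lo := 0) (len := 590) (allBelow_zero lvl0) lv0_c0

theorem lv0_g1 : allBelow lvl0 1187 = true :=
  allBelow_extend (f := lvl0) (lo := 590) (len := 597) lv0_g0 lv0_c1

theorem lv0_g2 : allBelow lvl0 1774 = true :=
  allBelow_extend (f := lvl0) (lo := 1187) (len := 587) lv0_g1 lv0_c2

theorem lv0_g3 : allBelow lvl0 2367 = true :=
  allBelow_extend (f := lvl0) (lo := 1774) (len := 593) lv0_g2 lv0_c3

theorem lv0_g4 : allBelow lvl0 2972 = true :=
  allBelow_extend (f := lvl0) (lo := 2367) (len := 605) lv0_g3 lv0_c4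

theorem lv0_g5 : allBelow lvl0 3568 = true :=
  allBelow_extend (f := lvl0) (lo := 2972) (len := 596) lv0_g4 lv0_c5

theorem lv0_g6 : allBelow lvl0 4170 = true :=
  allBelow_extend (f := lvl0) (lo := 3568) (len := 602) lv0_g5 lv0_c6

theorem lv0_g7 : allBelow lvl0 4782 = true :=
  allBelow_extend (f := lvl0) (lo := 4170) (len := 612) lv0_g6 lv0_c7

theorem lv0_g8 : allBelow lvl0 5389 = true :=
  allBelow_extend (f := lvl0) (lo := 4782) (len := 607) lv0_g7 lv0_c8

theorem lv0_g9 : allBelow lvl0 5997 = true :=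
  allBelow_extend (f := lvl0) (lo := 5389) (len := 608) lv0_g8 lv0_c9

theorem lv0_g10 : allBelow lvl0 6608 = true :=
  allBelow_extend (f := lvl0) (lo := 5997) (len := 611) lv0_g9 lv0_c10

theorem lv0_g11 : allBelow lvl0 7227 = true :=
  allBelow_extend (f := lvl0) (lo := 6608) (len := 619) lv0_g10 lv0_c11

theorem lv0_g12 : allBelow lvl0 7849 = true :=
  allBelow_extend (f := lvl0) (lo := 7227) (len := 622) lv0_g11 lv0_c12

theorem lv0_g13 : allBelow lvl0 8463 = true :=
  allBelow_extend (f := lvl0) (lo := 7849) (len := 614) lv0_g12 lv0_c13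

theorem lv0_g14 : allBelow lvl0 9095 = true :=
  allBelow_extend (f := lvl0) (lo := 8463) (len := 632) lv0_g13 lv0_c14

theorem lv0_g15 : allBelow lvl0 9706 = true :=
  allBelow_extend (f := lvl0) (lo := 9095) (len := 611) lv0_g14 lv0_c15

theorem lv0_g16 : allBelow lvl0 10319 = true :=
  allBelow_extend (f := lvl0) (lo := 9706) (len := 613) lv0_g15 lv0_c16

theorem lv0_g17 : allBelow lvl0 10945 = true :=
  allBelow_extend (f := lvl0) (lo := 10319) (len := 626) lv0_g16 lv0_c17

theorem lv0_g18 : allBelow lvl0 11555 = true :=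
  allBelow_extend (f := lvl0) (lo := 10945) (len := 610) lv0_g17 lv0_c18

theorem lv0_g19 : allBelow lvl0 12176 = true :=
  allBelow_extend (f := lvl0) (lo := 11555) (len := 621) lv0_g18 lv0_c19

theorem lv0_g20 : allBelow lvl0 12792 = true :=
  allBelow_extend (f := lvl0) (lo := 12176) (len := 616) lv0_g19 lv0_c20

theorem lv0_g21 : allBelow lvl0 13416 = true :=
  allBelow_extend (f := lvl0) (lo := 12792) (len := 624) lv0_g20 lv0_c21

theorem lv0_g22 : allBelow lvl0 14037 = true :=
  allBelow_extend (f := lvl0) (lo := 13416) (len := 621) lv0_g21 lv0_c22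

theorem lv0_g23 : allBelow lvl0 14668 = true :=
  allBelow_extend (f := lvl0) (lo := 14037) (len := 631) lv0_g22 lv0_c23

theorem lv0_g24 : allBelow lvl0 15291 = true :=
  allBelow_extend (f := lvl0) (lo := 14668) (len := 623) lv0_g23 lv0_c24

theorem lv0_g25 : allBelow lvl0 15935 = true :=
  allBelow_extend (f := lvl0) (lo := 15291) (len := 644) lv0_g24 lv0_c25

theorem lv0_g26 : allBelow lvl0 16576 = true :=
  allBelow_extend (f := lvl0) (lo := 15935) (len := 641) lv0_g25 lv0_c26

theorem lv0_g27 : allBelow lvl0 17205 = true :=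
  allBelow_extend (f := lvl0) (lo := 16576) (len := 629) lv0_g26 lv0_c27

theorem lv0_g28 : allBelow lvl0 17841 = true :=
  allBelow_extend (f := lvl0) (lo := 17205) (len := 636) lv0_g27 lv0_c28

theorem lv0_g29 : allBelow lvl0 18485 = true :=
  allBelow_extend (f := lvl0) (lo := 17841) (len := 644) lv0_g28 lv0_c29

theorem lv0_g30 : allBelow lvl0 19137 = true :=
  allBelow_extend (f := lvl0) (lo := 18485) (len := 652) lv0_g29 lv0_c30

theorem lv0_g31 : allBelow lvl0 19786 = true :=
  allBelow_extend (f := lvl0) (lo := 19137) (len := 649) lv0_g30 lv0_c31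

theorem lv0_g32 : allBelow lvl0 20432 = true :=
  allBelow_extend (f := lvl0) (lo := 19786) (len := 646) lv0_g31 lv0_c32

theorem lv0_g33 : allBelow lvl0 21085 = true :=
  allBelow_extend (f := lvl0) (lo := 20432) (len := 653) lv0_g32 lv0_c33

theorem lv0_g34 : allBelow lvl0 21743 = true :=
  allBelow_extend (f := lvl0) (lo := 21085) (len := 658) lv0_g33 lv0_c34

theorem lv0_g35 : allBelow lvl0 22391 = true :=
  allBelow_extend (f := lvl0) (lo := 21743) (len := 648) lv0_g34 lv0_c35

theorem lv0_g36 : allBelow lvl0 23039 = true :=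
  allBelow_extend (f := lvl0) (lo := 22391) (len := 648) lv0_g35 lv0_c36

theorem lv0_g37 : allBelow lvl0 23700 = true :=
  allBelow_extend (f := lvl0) (lo := 23039) (len := 661) lv0_g36 lv0_c37

theorem lv0_g38 : allBelow lvl0 24355 = true :=
  allBelow_extend (f := lvl0) (lo := 23700) (len := 655) lv0_g37 lv0_c38

theorem lv0_g39 : allBelow lvl0 25011 = true :=
  allBelow_extend (f := lvl0) (lo := 24355) (len := 656) lv0_g38 lv0_c39

theorem lv0_g40 : allBelow lvl0 25670 = true :=
  allBelow_extend (f := lvl0) (lo := 25011) (len := 659) lv0_g39 lv0_c40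

theorem lv0_g41 : allBelow lvl0 26340 = true :=
  allBelow_extend (f := lvl0) (lo := 25670) (len := 670) lv0_g40 lv0_c41

theorem lv0_g42 : allBelow lvl0 27005 = true :=
  allBelow_extend (f := lvl0) (lo := 26340) (len := 665) lv0_g41 lv0_c42

theorem lv0_g43 : allBelow lvl0 27693 = true :=
  allBelow_extend (f := lvl0) (lo := 27005) (len := 688) lv0_g42 lv0_c43

theorem lv0_g44 : allBelow lvl0 28367 = true :=
  allBelow_extend (f := lvl0) (lo := 27693) (len := 674) lv0_g43 lv0_c44

theorem lv0_g45 : allBelow lvl0 29036 = true :=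
  allBelow_extend (f := lvl0) (lo := 28367) (len := 669) lv0_g44 lv0_c45

theorem lv0_g46 : allBelow lvl0 29724 = true :=
  allBelow_extend (f := lvl0) (lo := 29036) (len := 688) lv0_g45 lv0_c46

theorem lv0_g47 : allBelow lvl0 30417 = true :=
  allBelow_extend (f := lvl0) (lo := 29724) (len := 693) lv0_g46 lv0_c47

theorem lv0_g48 : allBelow lvl0 31109 = true :=
  allBelow_extend (f := lvl0) (lo := 30417) (len := 692) lv0_g47 lv0_c48

theorem lv0_g49 : allBelow lvl0 31809 = true :=
  allBelow_extend (f := lvl0) (lo := 31109) (len := 700) lv0_g48 lv0_c49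

theorem lv0_g50 : allBelow lvl0 32504 = true :=
  allBelow_extend (f := lvl0) (lo := 31809) (len := 695) lv0_g49 lv0_c50

theorem lv0_g51 : allBelow lvl0 33195 = true :=
  allBelow_extend (f := lvl0) (lo := 32504) (len := 691) lv0_g50 lv0_c51

theorem lv0_g52 : allBelow lvl0 33868 = true :=
  allBelow_extend (f := lvl0) (lo := 33195) (len := 673) lv0_g51 lv0_c52

theorem lv0_g53 : allBelow lvl0 34551 = true :=
  allBelow_extend (f := lvl0) (lo := 33868) (len := 683) lv0_g52 lv0_c53

theorem lv0_g54 : allBelow lvl0 35234 = true :=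
  allBelow_extend (f := lvl0) (lo := 34551) (len := 683) lv0_g53 lv0_c54

theorem lv0_g55 : allBelow lvl0 35921 = true :=
  allBelow_extend (f := lvl0) (lo := 35234) (len := 687) lv0_g54 lv0_c55

theorem lv0_g56 : allBelow lvl0 36615 = true :=
  allBelow_extend (f := lvl0) (lo := 35921) (len := 694) lv0_g55 lv0_c56

theorem lv0_g57 : allBelow lvl0 37313 = true :=
  allBelow_extend (f := lvl0) (lo := 36615) (len := 698) lv0_g56 lv0_c57

theorem lv0_g58 : allBelow lvl0 38004 = true :=
  allBelow_extend (f := lvl0) (lo := 37313) (len := 691) lv0_g57 lv0_c58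

theorem lv0_g59 : allBelow lvl0 38701 = true :=
  allBelow_extend (f := lvl0) (lo := 38004) (len := 697) lv0_g58 lv0_c59

theorem lv0_g60 : allBelow lvl0 39405 = true :=
  allBelow_extend (f := lvl0) (lo := 38701) (len := 704) lv0_g59 lv0_c60

theorem lv0_g61 : allBelow lvl0 40112 = true :=
  allBelow_extend (f := lvl0) (lo := 39405) (len := 707) lv0_g60 lv0_c61

theorem lv0_g62 : allBelow lvl0 40826 = true :=
  allBelow_extend (f := lvl0) (lo := 40112) (len := 714) lv0_g61 lv0_c62

theorem lv0_g63 : allBelow lvl0 41539 = true :=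
  allBelow_extend (f := lvl0) (lo := 40826) (len := 713) lv0_g62 lv0_c63

theorem lv0_g64 : allBelow lvl0 42258 = true :=
  allBelow_extend (f := lvl0) (lo := 41539) (len := 719) lv0_g63 lv0_c64

theorem lv0_g65 : allBelow lvl0 42974 = true :=
  allBelow_extend (f := lvl0) (lo := 42258) (len := 716) lv0_g64 lv0_c65

theorem lv0_g66 : allBelow lvl0 43690 = true :=
  allBelow_extend (f := lvl0) (lo := 42974) (len := 716) lv0_g65 lv0_c66

theorem lv0_g67 : allBelow lvl0 44407 = true :=
  allBelow_extend (f := lvl0) (lo := 43690) (len := 717) lv0_g66 lv0_c67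

theorem lv0_g68 : allBelow lvl0 45140 = true :=
  allBelow_extend (f := lvl0) (lo := 44407) (len := 733) lv0_g67 lv0_c68

theorem lv0_g69 : allBelow lvl0 45873 = true :=
  allBelow_extend (f := lvl0) (lo := 45140) (len := 733) lv0_g68 lv0_c69

theorem lv0_g70 : allBelow lvl0 46595 = true :=
  allBelow_extend (f := lvl0) (lo := 45873) (len := 722) lv0_g69 lv0_c70

theorem lv0_g71 : allBelow lvl0 47329 = true :=
  allBelow_extend (f := lvl0) (lo := 46595) (len := 734) lv0_g70 lv0_c71

theorem lv0_g72 : allBelow lvl0 48074 = true :=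
  allBelow_extend (f := lvl0) (lo := 47329) (len := 745) lv0_g71 lv0_c72

theorem lv0_g73 : allBelow lvl0 48810 = true :=
  allBelow_extend (f := lvl0) (lo := 48074) (len := 736) lv0_g72 lv0_c73

theorem lv0_g74 : allBelow lvl0 49557 = true :=
  allBelow_extend (f := lvl0) (lo := 48810) (len := 747) lv0_g73 lv0_c74

theorem lv0_g75 : allBelow lvl0 50302 = true :=
  allBelow_extend (f := lvl0) (lo := 49557) (len := 745) lv0_g74 lv0_c75

theorem lv0_g76 : allBelow lvl0 51065 = true :=
  allBelow_extend (f := lvl0) (lo := 50302) (len := 763) lv0_g75 lv0_c76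

theorem lv0_g77 : allBelow lvl0 51813 = true :=
  allBelow_extend (f := lvl0) (lo := 51065) (len := 748) lv0_g76 lv0_c77

theorem lv0_g78 : allBelow lvl0 52566 = true :=
  allBelow_extend (f := lvl0) (lo := 51813) (len := 753) lv0_g77 lv0_c78

theorem lv0_g79 : allBelow lvl0 53329 = true :=
  allBelow_extend (f := lvl0) (lo := 52566) (len := 763) lv0_g78 lv0_c79

theorem lv0_g80 : allBelow lvl0 54099 = true :=
  allBelow_extend (f := lvl0) (lo := 53329) (len := 770) lv0_g79 lv0_c80

theorem lv0_g81 : allBelow lvl0 54880 = true :=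
  allBelow_extend (f := lvl0) (lo := 54099) (len := 781) lv0_g80 lv0_c81

theorem lv0_g82 : allBelow lvl0 55661 = true :=
  allBelow_extend (f := lvl0) (lo := 54880) (len := 781) lv0_g81 lv0_c82

theorem lv0_g83 : allBelow lvl0 56437 = true :=
  allBelow_extend (f := lvl0) (lo := 55661) (len := 776) lv0_g82 lv0_c83

theorem lv0_g84 : allBelow lvl0 57215 = true :=
  allBelow_extend (f := lvl0) (lo := 56437) (len := 778) lv0_g83 lv0_c84

theorem lv0_g85 : allBelow lvl0 58004 = true :=
  allBelow_extend (f := lvl0) (lo := 57215) (len := 789) lv0_g84 lv0_c85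

theorem lv0_g86 : allBelow lvl0 58792 = true :=
  allBelow_extend (f := lvl0) (lo := 58004) (len := 788) lv0_g85 lv0_c86

theorem lv0_g87 : allBelow lvl0 59591 = true :=
  allBelow_extend (f := lvl0) (lo := 58792) (len := 799) lv0_g86 lv0_c87

theorem lv0_g88 : allBelow lvl0 60369 = true :=
  allBelow_extend (f := lvl0) (lo := 59591) (len := 778) lv0_g87 lv0_c88

theorem lv0_g89 : allBelow lvl0 61170 = true :=
  allBelow_extend (f := lvl0) (lo := 60369) (len := 801) lv0_g88 lv0_c89

theorem lv0_g90 : allBelow lvl0 61982 = true :=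
  allBelow_extend (f := lvl0) (lo := 61170) (len := 812) lv0_g89 lv0_c90

theorem lv0_g91 : allBelow lvl0 62776 = true :=
  allBelow_extend (f := lvl0) (lo := 61982) (len := 794) lv0_g90 lv0_c91

theorem lv0_g92 : allBelow lvl0 63589 = true :=
  allBelow_extend (f := lvl0) (lo := 62776) (len := 813) lv0_g91 lv0_c92

theorem lv0_g93 : allBelow lvl0 64397 = true :=
  allBelow_extend (f := lvl0) (lo := 63589) (len := 808) lv0_g92 lv0_c93

theorem lv0_g94 : allBelow lvl0 65220 = true :=
  allBelow_extend (f := lvl0) (lo := 64397) (len := 823) lv0_g93 lv0_c94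

theorem lv0_g95 : allBelow lvl0 66027 = true :=
  allBelow_extend (f := lvl0) (lo := 65220) (len := 807) lv0_g94 lv0_c95

theorem lv0_g96 : allBelow lvl0 66839 = true :=
  allBelow_extend (f := lvl0) (lo := 66027) (len := 812) lv0_g95 lv0_c96

theorem lv0_g97 : allBelow lvl0 67648 = true :=
  allBelow_extend (f := lvl0) (lo := 66839) (len := 809) lv0_g96 lv0_c97

theorem lv0_g98 : allBelow lvl0 68456 = true :=
  allBelow_extend (f := lvl0) (lo := 67648) (len := 808) lv0_g97 lv0_c98

theorem lv0_g99 : allBelow lvl0 69282 = true :=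
  allBelow_extend (f := lvl0) (lo := 68456) (len := 826) lv0_g98 lv0_c99

theorem lv0_g100 : allBelow lvl0 70099 = true :=
  allBelow_extend (f := lvl0) (lo := 69282) (len := 817) lv0_g99 lv0_c100

theorem lv0_g101 : allBelow lvl0 70921 = true :=
  allBelow_extend (f := lvl0) (lo := 70099) (len := 822) lv0_g100 lv0_c101

theorem lv0_g102 : allBelow lvl0 71754 = true :=
  allBelow_extend (f := lvl0) (lo := 70921) (len := 833) lv0_g101 lv0_c102

theorem lv0_g103 : allBelow lvl0 72596 = true :=
  allBelow_extend (f := lvl0) (lo := 71754) (len := 842) lv0_g102 lv0_c103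

theorem lv0_g104 : allBelow lvl0 73420 = true :=
  allBelow_extend (f := lvl0) (lo := 72596) (len := 824) lv0_g103 lv0_c104

theorem lv0_g105 : allBelow lvl0 74259 = true :=
  allBelow_extend (f := lvl0) (lo := 73420) (len := 839) lv0_g104 lv0_c105

theorem lv0_g106 : allBelow lvl0 75111 = true :=
  allBelow_extend (f := lvl0) (lo := 74259) (len := 852) lv0_g105 lv0_c106

theorem lv0_g107 : allBelow lvl0 75962 = true :=
  allBelow_extend (f := lvl0) (lo := 75111) (len := 851) lv0_g106 lv0_c107

theorem lv0_g108 : allBelow lvl0 76829 = true :=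
  allBelow_extend (f := lvl0) (lo := 75962) (len := 867) lv0_g107 lv0_c108

theorem lv0_g109 : allBelow lvl0 77701 = true :=
  allBelow_extend (f := lvl0) (lo := 76829) (len := 872) lv0_g108 lv0_c109

theorem lv0_g110 : allBelow lvl0 78572 = true :=
  allBelow_extend (f := lvl0) (lo := 77701) (len := 871) lv0_g109 lv0_c110

theorem lv0_g111 : allBelow lvl0 79438 = true :=
  allBelow_extend (f := lvl0) (lo := 78572) (len := 866) lv0_g110 lv0_c111

theorem lv0_g112 : allBelow lvl0 80316 = true :=
  allBelow_extend (f := lvl0) (lo := 79438) (len := 878) lv0_g111 lv0_c112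

theorem lv0_g113 : allBelow lvl0 81184 = true :=
  allBelow_extend (f := lvl0) (lo := 80316) (len := 868) lv0_g112 lv0_c113

theorem lv0_g114 : allBelow lvl0 82079 = true :=
  allBelow_extend (f := lvl0) (lo := 81184) (len := 895) lv0_g113 lv0_c114

theorem lv0_g115 : allBelow lvl0 82997 = true :=
  allBelow_extend (f := lvl0) (lo := 82079) (len := 918) lv0_g114 lv0_c115

theorem lv0_g116 : allBelow lvl0 83894 = true :=
  allBelow_extend (f := lvl0) (lo := 82997) (len := 897) lv0_g115 lv0_c116

theorem lv0_g117 : allBelow lvl0 84795 = true :=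
  allBelow_extend (f := lvl0) (lo := 83894) (len := 901) lv0_g116 lv0_c117

theorem lv0_g118 : allBelow lvl0 85702 = true :=
  allBelow_extend (f := lvl0) (lo := 84795) (len := 907) lv0_g117 lv0_c118

theorem lv0_g119 : allBelow lvl0 86632 = true :=
  allBelow_extend (f := lvl0) (lo := 85702) (len := 930) lv0_g118 lv0_c119

theorem lv0_g120 : allBelow lvl0 87572 = true :=
  allBelow_extend (f := lvl0) (lo := 86632) (len := 940) lv0_g119 lv0_c120

theorem lv0_g121 : allBelow lvl0 88520 = true :=
  allBelow_extend (f := lvl0) (lo := 87572) (len := 948) lv0_g120 lv0_c121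

theorem lv0_g122 : allBelow lvl0 89435 = true :=
  allBelow_extend (f := lvl0) (lo := 88520) (len := 915) lv0_g121 lv0_c122

theorem lv0_g123 : allBelow lvl0 90341 = true :=
  allBelow_extend (f := lvl0) (lo := 89435) (len := 906) lv0_g122 lv0_c123

theorem lv0_g124 : allBelow lvl0 91278 = true :=
  allBelow_extend (f := lvl0) (lo := 90341) (len := 937) lv0_g123 lv0_c124

theorem lv0_g125 : allBelow lvl0 92204 = true :=
  allBelow_extend (f := lvl0) (lo := 91278) (len := 926) lv0_g124 lv0_c125

theorem lv0_g126 : allBelow lvl0 93143 = true :=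
  allBelow_extend (f := lvl0) (lo := 92204) (len := 939) lv0_g125 lv0_c126

theorem lv0_g127 : allBelow lvl0 94091 = true :=
  allBelow_extend (f := lvl0) (lo := 93143) (len := 948) lv0_g126 lv0_c127

theorem lv0_g128 : allBelow lvl0 95071 = true :=
  allBelow_extend (f := lvl0) (lo := 94091) (len := 980) lv0_g127 lv0_c128

theorem lv0_g129 : allBelow lvl0 96040 = true :=
  allBelow_extend (f := lvl0) (lo := 95071) (len := 969) lv0_g128 lv0_c129

theorem lv0_g130 : allBelow lvl0 97023 = true :=
  allBelow_extend (f := lvl0) (lo := 96040) (len := 983) lv0_g129 lv0_c130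

theorem lv0_g131 : allBelow lvl0 97996 = true :=
  allBelow_extend (f := lvl0) (lo := 97023) (len := 973) lv0_g130 lv0_c131

theorem lv0_g132 : allBelow lvl0 98280 = true :=
  allBelow_extend (f := lvl0) (lo := 97996) (len := 284) lv0_g131 lv0_c132

theorem lv0_all : allBelow lvl0 98280 = true := lv0_g132

theorem ct0_g0 : countBelow orb0 4608 = 4608 :=
  countBelow_extend (f := orb0) (lo := 0) (len := 4608) (c := 0) (c' := 4608) (countBelow_zero orb0) ct0_c0

theorem ct0_g1 : countBelow orb0 9454 = 9454 :=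
  countBelow_extend (f := orb0) (lo := 4608) (len := 4846) (c := 4608) (c' := 4846) ct0_g0 ct0_c1

theorem ct0_g2 : countBelow orb0 14580 = 14580 :=
  countBelow_extend (f := orb0) (lo := 9454) (len := 5126) (c := 9454) (c' := 5126) ct0_g1 ct0_c2

theorem ct0_g3 : countBelow orb0 20042 = 20042 :=
  countBelow_extend (f := orb0) (lo := 14580) (len := 5462) (c := 14580) (c' := 5462) ct0_g2 ct0_c3

theorem ct0_g4 : countBelow orb0 25915 = 25915 :=
  countBelow_extend (f := orb0) (lo := 20042) (len := 5873) (c := 20042) (c' := 5873) ct0_g3 ct0_c4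

theorem ct0_g5 : countBelow orb0 32308 = 32308 :=
  countBelow_extend (f := orb0) (lo := 25915) (len := 6393) (c := 25915) (c' := 6393) ct0_g4 ct0_c5

theorem ct0_g6 : countBelow orb0 39392 = 39392 :=
  countBelow_extend (f := orb0) (lo := 32308) (len := 7084) (c := 32308) (c' := 7084) ct0_g5 ct0_c6

theorem ct0_g7 : countBelow orb0 47453 = 47453 :=
  countBelow_extend (f := orb0) (lo := 39392) (len := 8061) (c := 39392) (c' := 8061) ct0_g6 ct0_c7

theorem ct0_g8 : countBelow orb0 57062 = 57062 :=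
  countBelow_extend (f := orb0) (lo := 47453) (len := 9609) (c := 47453) (c' := 9609) ct0_g7 ct0_c8

theorem ct0_g9 : countBelow orb0 69742 = 69742 :=
  countBelow_extend (f := orb0) (lo := 57062) (len := 12680) (c := 57062) (c' := 12680) ct0_g8 ct0_c9

theorem ct0_g10 : countBelow orb0 98280 = 98280 :=
  countBelow_extend (f := orb0) (lo := 69742) (len := 28538) (c := 69742) (c' := 28538) ct0_g9 ct0_c10

theorem ct0_all : countBelow orb0 98280 = 98280 := ct0_g10

theorem lv1_g0 : allBelow lvl1 702 = true :=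
  allBelow_extend (f := lvl1) (lo := 0) (len := 702) (allBelow_zero lvl1) lv1_c0

theorem lv1_g1 : allBelow lvl1 1430 = true :=
  allBelow_extend (f := lvl1) (lo := 702) (len := 728) lv1_g0 lv1_c1

theorem lv1_g2 : allBelow lvl1 2255 = true :=
  allBelow_extend (f := lvl1) (lo := 1430) (len := 825) lv1_g1 lv1_c2

theorem lv1_g3 : allBelow lvl1 3094 = true :=
  allBelow_extend (f := lvl1) (lo := 2255) (len := 839) lv1_g2 lv1_c3

theorem lv1_g4 : allBelow lvl1 3896 = true :=
  allBelow_extend (f := lvl1) (lo := 3094) (len := 802) lv1_g3 lv1_c4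

theorem lv1_g5 : allBelow lvl1 4595 = true :=
  allBelow_extend (f := lvl1) (lo := 3896) (len := 699) lv1_g4 lv1_c5

theorem lv1_g6 : allBelow lvl1 5346 = true :=
  allBelow_extend (f := lvl1) (lo := 4595) (len := 751) lv1_g5 lv1_c6

theorem lv1_g7 : allBelow lvl1 6119 = true :=
  allBelow_extend (f := lvl1) (lo := 5346) (len := 773) lv1_g6 lv1_c7

theorem lv1_g8 : allBelow lvl1 6853 = true :=
  allBelow_extend (f := lvl1) (lo := 6119) (len := 734) lv1_g7 lv1_c8

theorem lv1_g9 : allBelow lvl1 7554 = true :=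
  allBelow_extend (f := lvl1) (lo := 6853) (len := 701) lv1_g8 lv1_c9

theorem lv1_g10 : allBelow lvl1 8276 = true :=
  allBelow_extend (f := lvl1) (lo := 7554) (len := 722) lv1_g9 lv1_c10

theorem lv1_g11 : allBelow lvl1 8961 = true :=
  allBelow_extend (f := lvl1) (lo := 8276) (len := 685) lv1_g10 lv1_c11

theorem lv1_g12 : allBelow lvl1 9920 = true :=
  allBelow_extend (f := lvl1) (lo := 8961) (len := 959) lv1_g11 lv1_c12

theorem lv1_g13 : allBelow lvl1 10805 = true :=
  allBelow_extend (f := lvl1) (lo := 9920) (len := 885) lv1_g12 lv1_c13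

theorem lv1_g14 : allBelow lvl1 11725 = true :=
  allBelow_extend (f := lvl1) (lo := 10805) (len := 920) lv1_g13 lv1_c14

theorem lv1_g15 : allBelow lvl1 12626 = true :=
  allBelow_extend (f := lvl1) (lo := 11725) (len := 901) lv1_g14 lv1_c15

theorem lv1_g16 : allBelow lvl1 13403 = true :=
  allBelow_extend (f := lvl1) (lo := 12626) (len := 777) lv1_g15 lv1_c16

theorem lv1_g17 : allBelow lvl1 14244 = true :=
  allBelow_extend (f := lvl1) (lo := 13403) (len := 841) lv1_g16 lv1_c17

theorem lv1_g18 : allBelow lvl1 15152 = true :=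
  allBelow_extend (f := lvl1) (lo := 14244) (len := 908) lv1_g17 lv1_c18

theorem lv1_g19 : allBelow lvl1 15940 = true :=
  allBelow_extend (f := lvl1) (lo := 15152) (len := 788) lv1_g18 lv1_c19

theorem lv1_g20 : allBelow lvl1 16757 = true :=
  allBelow_extend (f := lvl1) (lo := 15940) (len := 817) lv1_g19 lv1_c20

theorem lv1_g21 : allBelow lvl1 17638 = true :=
  allBelow_extend (f := lvl1) (lo := 16757) (len := 881) lv1_g20 lv1_c21

theorem lv1_g22 : allBelow lvl1 18414 = true :=
  allBelow_extend (f := lvl1) (lo := 17638) (len := 776) lv1_g21 lv1_c22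

theorem lv1_g23 : allBelow lvl1 19147 = true :=
  allBelow_extend (f := lvl1) (lo := 18414) (len := 733) lv1_g22 lv1_c23

theorem lv1_g24 : allBelow lvl1 19927 = true :=
  allBelow_extend (f := lvl1) (lo := 19147) (len := 780) lv1_g23 lv1_c24

theorem lv1_g25 : allBelow lvl1 20724 = true :=
  allBelow_extend (f := lvl1) (lo := 19927) (len := 797) lv1_g24 lv1_c25

theorem lv1_g26 : allBelow lvl1 21573 = true :=
  allBelow_extend (f := lvl1) (lo := 20724) (len := 849) lv1_g25 lv1_c26

theorem lv1_g27 : allBelow lvl1 22374 = true :=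
  allBelow_extend (f := lvl1) (lo := 21573) (len := 801) lv1_g26 lv1_c27

theorem lv1_g28 : allBelow lvl1 23211 = true :=
  allBelow_extend (f := lvl1) (lo := 22374) (len := 837) lv1_g27 lv1_c28

theorem lv1_g29 : allBelow lvl1 24093 = true :=
  allBelow_extend (f := lvl1) (lo := 23211) (len := 882) lv1_g28 lv1_c29

theorem lv1_g30 : allBelow lvl1 24843 = true :=
  allBelow_extend (f := lvl1) (lo := 24093) (len := 750) lv1_g29 lv1_c30

theorem lv1_g31 : allBelow lvl1 25609 = true :=
  allBelow_extend (f := lvl1) (lo := 24843) (len := 766) lv1_g30 lv1_c31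

theorem lv1_g32 : allBelow lvl1 26451 = true :=
  allBelow_extend (f := lvl1) (lo := 25609) (len := 842) lv1_g31 lv1_c32

theorem lv1_g33 : allBelow lvl1 27162 = true :=
  allBelow_extend (f := lvl1) (lo := 26451) (len := 711) lv1_g32 lv1_c33

theorem lv1_g34 : allBelow lvl1 27911 = true :=
  allBelow_extend (f := lvl1) (lo := 27162) (len := 749) lv1_g33 lv1_c34

theorem lv1_g35 : allBelow lvl1 28721 = true :=
  allBelow_extend (f := lvl1) (lo := 27911) (len := 810) lv1_g34 lv1_c35

theorem lv1_g36 : allBelow lvl1 29528 = true :=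
  allBelow_extend (f := lvl1) (lo := 28721) (len := 807) lv1_g35 lv1_c36

theorem lv1_g37 : allBelow lvl1 30260 = true :=
  allBelow_extend (f := lvl1) (lo := 29528) (len := 732) lv1_g36 lv1_c37

theorem lv1_g38 : allBelow lvl1 30992 = true :=
  allBelow_extend (f := lvl1) (lo := 30260) (len := 732) lv1_g37 lv1_c38

theorem lv1_g39 : allBelow lvl1 31776 = true :=
  allBelow_extend (f := lvl1) (lo := 30992) (len := 784) lv1_g38 lv1_c39

theorem lv1_g40 : allBelow lvl1 32440 = true :=
  allBelow_extend (f := lvl1) (lo := 31776) (len := 664) lv1_g39 lv1_c40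

theorem lv1_g41 : allBelow lvl1 33278 = true :=
  allBelow_extend (f := lvl1) (lo := 32440) (len := 838) lv1_g40 lv1_c41

theorem lv1_g42 : allBelow lvl1 34230 = true :=
  allBelow_extend (f := lvl1) (lo := 33278) (len := 952) lv1_g41 lv1_c42

theorem lv1_g43 : allBelow lvl1 35164 = true :=
  allBelow_extend (f := lvl1) (lo := 34230) (len := 934) lv1_g42 lv1_c43

theorem lv1_g44 : allBelow lvl1 36101 = true :=
  allBelow_extend (f := lvl1) (lo := 35164) (len := 937) lv1_g43 lv1_c44

theorem lv1_g45 : allBelow lvl1 37062 = true :=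
  allBelow_extend (f := lvl1) (lo := 36101) (len := 961) lv1_g44 lv1_c45

theorem lv1_g46 : allBelow lvl1 38027 = true :=
  allBelow_extend (f := lvl1) (lo := 37062) (len := 965) lv1_g45 lv1_c46

theorem lv1_g47 : allBelow lvl1 39003 = true :=
  allBelow_extend (f := lvl1) (lo := 38027) (len := 976) lv1_g46 lv1_c47

theorem lv1_g48 : allBelow lvl1 39963 = true :=
  allBelow_extend (f := lvl1) (lo := 39003) (len := 960) lv1_g47 lv1_c48

theorem lv1_g49 : allBelow lvl1 40910 = true :=
  allBelow_extend (f := lvl1) (lo := 39963) (len := 947) lv1_g48 lv1_c49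

theorem lv1_g50 : allBelow lvl1 41876 = true :=
  allBelow_extend (f := lvl1) (lo := 40910) (len := 966) lv1_g49 lv1_c50

theorem lv1_g51 : allBelow lvl1 42842 = true :=
  allBelow_extend (f := lvl1) (lo := 41876) (len := 966) lv1_g50 lv1_c51

theorem lv1_g52 : allBelow lvl1 43810 = true :=
  allBelow_extend (f := lvl1) (lo := 42842) (len := 968) lv1_g51 lv1_c52

theorem lv1_g53 : allBelow lvl1 44802 = true :=
  allBelow_extend (f := lvl1) (lo := 43810) (len := 992) lv1_g52 lv1_c53

theorem lv1_g54 : allBelow lvl1 45656 = true :=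
  allBelow_extend (f := lvl1) (lo := 44802) (len := 854) lv1_g53 lv1_c54

theorem lv1_g55 : allBelow lvl1 46493 = true :=
  allBelow_extend (f := lvl1) (lo := 45656) (len := 837) lv1_g54 lv1_c55

theorem lv1_g56 : allBelow lvl1 47374 = true :=
  allBelow_extend (f := lvl1) (lo := 46493) (len := 881) lv1_g55 lv1_c56

theorem lv1_g57 : allBelow lvl1 48296 = true :=
  allBelow_extend (f := lvl1) (lo := 47374) (len := 922) lv1_g56 lv1_c57

theorem lv1_g58 : allBelow lvl1 49208 = true :=
  allBelow_extend (f := lvl1) (lo := 48296) (len := 912) lv1_g57 lv1_c58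

theorem lv1_g59 : allBelow lvl1 50110 = true :=
  allBelow_extend (f := lvl1) (lo := 49208) (len := 902) lv1_g58 lv1_c59

theorem lv1_g60 : allBelow lvl1 51046 = true :=
  allBelow_extend (f := lvl1) (lo := 50110) (len := 936) lv1_g59 lv1_c60

theorem lv1_g61 : allBelow lvl1 52036 = true :=
  allBelow_extend (f := lvl1) (lo := 51046) (len := 990) lv1_g60 lv1_c61

theorem lv1_g62 : allBelow lvl1 53052 = true :=
  allBelow_extend (f := lvl1) (lo := 52036) (len := 1016) lv1_g61 lv1_c62

theorem lv1_g63 : allBelow lvl1 53959 = true :=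
  allBelow_extend (f := lvl1) (lo := 53052) (len := 907) lv1_g62 lv1_c63

theorem lv1_g64 : allBelow lvl1 54847 = true :=
  allBelow_extend (f := lvl1) (lo := 53959) (len := 888) lv1_g63 lv1_c64

theorem lv1_g65 : allBelow lvl1 55779 = true :=
  allBelow_extend (f := lvl1) (lo := 54847) (len := 932) lv1_g64 lv1_c65

theorem lv1_g66 : allBelow lvl1 56776 = true :=
  allBelow_extend (f := lvl1) (lo := 55779) (len := 997) lv1_g65 lv1_c66

theorem lv1_g67 : allBelow lvl1 57653 = true :=
  allBelow_extend (f := lvl1) (lo := 56776) (len := 877) lv1_g66 lv1_c67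

theorem lv1_g68 : allBelow lvl1 58540 = true :=
  allBelow_extend (f := lvl1) (lo := 57653) (len := 887) lv1_g67 lv1_c68

theorem lv1_g69 : allBelow lvl1 59486 = true :=
  allBelow_extend (f := lvl1) (lo := 58540) (len := 946) lv1_g68 lv1_c69

theorem lv1_g70 : allBelow lvl1 60422 = true :=
  allBelow_extend (f := lvl1) (lo := 59486) (len := 936) lv1_g69 lv1_c70

theorem lv1_g71 : allBelow lvl1 61469 = true :=
  allBelow_extend (f := lvl1) (lo := 60422) (len := 1047) lv1_g70 lv1_c71

theorem lv1_g72 : allBelow lvl1 62316 = true :=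
  allBelow_extend (f := lvl1) (lo := 61469) (len := 847) lv1_g71 lv1_c72

theorem lv1_g73 : allBelow lvl1 63234 = true :=
  allBelow_extend (f := lvl1) (lo := 62316) (len := 918) lv1_g72 lv1_c73

theorem lv1_g74 : allBelow lvl1 64192 = true :=
  allBelow_extend (f := lvl1) (lo := 63234) (len := 958) lv1_g73 lv1_c74

theorem lv1_g75 : allBelow lvl1 65065 = true :=
  allBelow_extend (f := lvl1) (lo := 64192) (len := 873) lv1_g74 lv1_c75

theorem lv1_g76 : allBelow lvl1 66110 = true :=
  allBelow_extend (f := lvl1) (lo := 65065) (len := 1045) lv1_g75 lv1_c76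

theorem lv1_g77 : allBelow lvl1 67268 = true :=
  allBelow_extend (f := lvl1) (lo := 66110) (len := 1158) lv1_g76 lv1_c77

theorem lv1_g78 : allBelow lvl1 68465 = true :=
  allBelow_extend (f := lvl1) (lo := 67268) (len := 1197) lv1_g77 lv1_c78

theorem lv1_g79 : allBelow lvl1 69552 = true :=
  allBelow_extend (f := lvl1) (lo := 68465) (len := 1087) lv1_g78 lv1_c79

theorem lv1_g80 : allBelow lvl1 70682 = true :=
  allBelow_extend (f := lvl1) (lo := 69552) (len := 1130) lv1_g79 lv1_c80

theorem lv1_g81 : allBelow lvl1 71893 = true :=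
  allBelow_extend (f := lvl1) (lo := 70682) (len := 1211) lv1_g80 lv1_c81

theorem lv1_g82 : allBelow lvl1 72991 = true :=
  allBelow_extend (f := lvl1) (lo := 71893) (len := 1098) lv1_g81 lv1_c82

theorem lv1_g83 : allBelow lvl1 74158 = true :=
  allBelow_extend (f := lvl1) (lo := 72991) (len := 1167) lv1_g82 lv1_c83

theorem lv1_g84 : allBelow lvl1 75151 = true :=
  allBelow_extend (f := lvl1) (lo := 74158) (len := 993) lv1_g83 lv1_c84

theorem lv1_g85 : allBelow lvl1 76257 = true :=
  allBelow_extend (f := lvl1) (lo := 75151) (len := 1106) lv1_g84 lv1_c85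

theorem lv1_g86 : allBelow lvl1 77414 = true :=
  allBelow_extend (f := lvl1) (lo := 76257) (len := 1157) lv1_g85 lv1_c86

theorem lv1_g87 : allBelow lvl1 78609 = true :=
  allBelow_extend (f := lvl1) (lo := 77414) (len := 1195) lv1_g86 lv1_c87

theorem lv1_g88 : allBelow lvl1 79831 = true :=
  allBelow_extend (f := lvl1) (lo := 78609) (len := 1222) lv1_g87 lv1_c88

theorem lv1_g89 : allBelow lvl1 80891 = true :=
  allBelow_extend (f := lvl1) (lo := 79831) (len := 1060) lv1_g88 lv1_c89

theorem lv1_g90 : allBelow lvl1 81962 = true :=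
  allBelow_extend (f := lvl1) (lo := 80891) (len := 1071) lv1_g89 lv1_c90

theorem lv1_g91 : allBelow lvl1 83171 = true :=
  allBelow_extend (f := lvl1) (lo := 81962) (len := 1209) lv1_g90 lv1_c91

theorem lv1_g92 : allBelow lvl1 84181 = true :=
  allBelow_extend (f := lvl1) (lo := 83171) (len := 1010) lv1_g91 lv1_c92

theorem lv1_g93 : allBelow lvl1 85310 = true :=
  allBelow_extend (f := lvl1) (lo := 84181) (len := 1129) lv1_g92 lv1_c93

theorem lv1_g94 : allBelow lvl1 86312 = true :=
  allBelow_extend (f := lvl1) (lo := 85310) (len := 1002) lv1_g93 lv1_c94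

theorem lv1_g95 : allBelow lvl1 87293 = true :=
  allBelow_extend (f := lvl1) (lo := 86312) (len := 981) lv1_g94 lv1_c95

theorem lv1_g96 : allBelow lvl1 88347 = true :=
  allBelow_extend (f := lvl1) (lo := 87293) (len := 1054) lv1_g95 lv1_c96

theorem lv1_g97 : allBelow lvl1 89295 = true :=
  allBelow_extend (f := lvl1) (lo := 88347) (len := 948) lv1_g96 lv1_c97

theorem lv1_g98 : allBelow lvl1 90532 = true :=
  allBelow_extend (f := lvl1) (lo := 89295) (len := 1237) lv1_g97 lv1_c98

theorem lv1_g99 : allBelow lvl1 91793 = true :=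
  allBelow_extend (f := lvl1) (lo := 90532) (len := 1261) lv1_g98 lv1_c99

theorem lv1_g100 : allBelow lvl1 93032 = true :=
  allBelow_extend (f := lvl1) (lo := 91793) (len := 1239) lv1_g99 lv1_c100

theorem lv1_g101 : allBelow lvl1 94274 = true :=
  allBelow_extend (f := lvl1) (lo := 93032) (len := 1242) lv1_g100 lv1_c101

theorem lv1_g102 : allBelow lvl1 95528 = true :=
  allBelow_extend (f := lvl1) (lo := 94274) (len := 1254) lv1_g101 lv1_c102

theorem lv1_g103 : allBelow lvl1 96783 = true :=
  allBelow_extend (f := lvl1) (lo := 95528) (len := 1255) lv1_g102 lv1_c103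

theorem lv1_g104 : allBelow lvl1 98219 = true :=
  allBelow_extend (f := lvl1) (lo := 96783) (len := 1436) lv1_g103 lv1_c104

theorem lv1_g105 : allBelow lvl1 98280 = true :=
  allBelow_extend (f := lvl1) (lo := 98219) (len := 61) lv1_g104 lv1_c105

theorem lv1_all : allBelow lvl1 98280 = true := lv1_g105

theorem ct1_g0 : countBelow orb1 4608 = 2307 :=
  countBelow_extend (f := orb1) (lo := 0) (len := 4608) (c := 0) (c' := 2307) (countBelow_zero orb1) ct1_c0

theorem ct1_g1 : countBelow orb1 9454 = 4855 :=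
  countBelow_extend (f := orb1) (lo := 4608) (len := 4846) (c := 2307) (c' := 2548) ct1_g0 ct1_c1

theorem ct1_g2 : countBelow orb1 14580 = 7125 :=
  countBelow_extend (f := orb1) (lo := 9454) (len := 5126) (c := 4855) (c' := 2270) ct1_g1 ct1_c2

theorem ct1_g3 : countBelow orb1 20042 = 9829 :=
  countBelow_extend (f := orb1) (lo := 14580) (len := 5462) (c := 7125) (c' := 2704) ct1_g2 ct1_c3

theorem ct1_g4 : countBelow orb1 25915 = 12798 :=
  countBelow_extend (f := orb1) (lo := 20042) (len := 5873) (c := 9829) (c' := 2969) ct1_g3 ct1_c4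

theorem ct1_g5 : countBelow orb1 32308 = 16371 :=
  countBelow_extend (f := orb1) (lo := 25915) (len := 6393) (c := 12798) (c' := 3573) ct1_g4 ct1_c5

theorem ct1_g6 : countBelow orb1 39392 = 19596 :=
  countBelow_extend (f := orb1) (lo := 32308) (len := 7084) (c := 16371) (c' := 3225) ct1_g5 ct1_c6

theorem ct1_g7 : countBelow orb1 47453 = 23386 :=
  countBelow_extend (f := orb1) (lo := 39392) (len := 8061) (c := 19596) (c' := 3790) ct1_g6 ct1_c7

theorem ct1_g8 : countBelow orb1 57062 = 28064 :=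
  countBelow_extend (f := orb1) (lo := 47453) (len := 9609) (c := 23386) (c' := 4678) ct1_g7 ct1_c8

theorem ct1_g9 : countBelow orb1 69742 = 34169 :=
  countBelow_extend (f := orb1) (lo := 57062) (len := 12680) (c := 28064) (c' := 6105) ct1_g8 ct1_c9

theorem ct1_g10 : countBelow orb1 98280 = 47104 :=
  countBelow_extend (f := orb1) (lo := 69742) (len := 28538) (c := 34169) (c' := 12935) ct1_g9 ct1_c10

theorem ct1_all : countBelow orb1 98280 = 47104 := ct1_g10

theorem lv2_g0 : allBelow lvl2 747 = true :=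
  allBelow_extend (f := lvl2) (lo := 0) (len := 747) (allBelow_zero lvl2) lv2_c0

theorem lv2_g1 : allBelow lvl2 1959 = true :=
  allBelow_extend (f := lvl2) (lo := 747) (len := 1212) lv2_g0 lv2_c1

theorem lv2_g2 : allBelow lvl2 3132 = true :=
  allBelow_extend (f := lvl2) (lo := 1959) (len := 1173) lv2_g1 lv2_c2

theorem lv2_g3 : allBelow lvl2 4474 = true :=
  allBelow_extend (f := lvl2) (lo := 3132) (len := 1342) lv2_g2 lv2_c3

theorem lv2_g4 : allBelow lvl2 5579 = true :=
  allBelow_extend (f := lvl2) (lo := 4474) (len := 1105) lv2_g3 lv2_c4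

theorem lv2_g5 : allBelow lvl2 6801 = true :=
  allBelow_extend (f := lvl2) (lo := 5579) (len := 1222) lv2_g4 lv2_c5

theorem lv2_g6 : allBelow lvl2 8014 = true :=
  allBelow_extend (f := lvl2) (lo := 6801) (len := 1213) lv2_g5 lv2_c6

theorem lv2_g7 : allBelow lvl2 9487 = true :=
  allBelow_extend (f := lvl2) (lo := 8014) (len := 1473) lv2_g6 lv2_c7

theorem lv2_g8 : allBelow lvl2 10964 = true :=
  allBelow_extend (f := lvl2) (lo := 9487) (len := 1477) lv2_g7 lv2_c8

theorem lv2_g9 : allBelow lvl2 12652 = true :=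
  allBelow_extend (f := lvl2) (lo := 10964) (len := 1688) lv2_g8 lv2_c9

theorem lv2_g10 : allBelow lvl2 13715 = true :=
  allBelow_extend (f := lvl2) (lo := 12652) (len := 1063) lv2_g9 lv2_c10

theorem lv2_g11 : allBelow lvl2 14946 = true :=
  allBelow_extend (f := lvl2) (lo := 13715) (len := 1231) lv2_g10 lv2_c11

theorem lv2_g12 : allBelow lvl2 16361 = true :=
  allBelow_extend (f := lvl2) (lo := 14946) (len := 1415) lv2_g11 lv2_c12

theorem lv2_g13 : allBelow lvl2 17850 = true :=
  allBelow_extend (f := lvl2) (lo := 16361) (len := 1489) lv2_g12 lv2_c13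

theorem lv2_g14 : allBelow lvl2 18945 = true :=
  allBelow_extend (f := lvl2) (lo := 17850) (len := 1095) lv2_g13 lv2_c14

theorem lv2_g15 : allBelow lvl2 19982 = true :=
  allBelow_extend (f := lvl2) (lo := 18945) (len := 1037) lv2_g14 lv2_c15

theorem lv2_g16 : allBelow lvl2 21085 = true :=
  allBelow_extend (f := lvl2) (lo := 19982) (len := 1103) lv2_g15 lv2_c16

theorem lv2_g17 : allBelow lvl2 22617 = true :=
  allBelow_extend (f := lvl2) (lo := 21085) (len := 1532) lv2_g16 lv2_c17

theorem lv2_g18 : allBelow lvl2 24055 = true :=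
  allBelow_extend (f := lvl2) (lo := 22617) (len := 1438) lv2_g17 lv2_c18

theorem lv2_g19 : allBelow lvl2 25200 = true :=
  allBelow_extend (f := lvl2) (lo := 24055) (len := 1145) lv2_g18 lv2_c19

theorem lv2_g20 : allBelow lvl2 26270 = true :=
  allBelow_extend (f := lvl2) (lo := 25200) (len := 1070) lv2_g19 lv2_c20

theorem lv2_g21 : allBelow lvl2 27917 = true :=
  allBelow_extend (f := lvl2) (lo := 26270) (len := 1647) lv2_g20 lv2_c21

theorem lv2_g22 : allBelow lvl2 29447 = true :=
  allBelow_extend (f := lvl2) (lo := 27917) (len := 1530) lv2_g21 lv2_c22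

theorem lv2_g23 : allBelow lvl2 30738 = true :=
  allBelow_extend (f := lvl2) (lo := 29447) (len := 1291) lv2_g22 lv2_c23

theorem lv2_g24 : allBelow lvl2 31870 = true :=
  allBelow_extend (f := lvl2) (lo := 30738) (len := 1132) lv2_g23 lv2_c24

theorem lv2_g25 : allBelow lvl2 33904 = true :=
  allBelow_extend (f := lvl2) (lo := 31870) (len := 2034) lv2_g24 lv2_c25

theorem lv2_g26 : allBelow lvl2 35642 = true :=
  allBelow_extend (f := lvl2) (lo := 33904) (len := 1738) lv2_g25 lv2_c26

theorem lv2_g27 : allBelow lvl2 37402 = true :=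
  allBelow_extend (f := lvl2) (lo := 35642) (len := 1760) lv2_g26 lv2_c27

theorem lv2_g28 : allBelow lvl2 39330 = true :=
  allBelow_extend (f := lvl2) (lo := 37402) (len := 1928) lv2_g27 lv2_c28

theorem lv2_g29 : allBelow lvl2 41068 = true :=
  allBelow_extend (f := lvl2) (lo := 39330) (len := 1738) lv2_g28 lv2_c29

theorem lv2_g30 : allBelow lvl2 42948 = true :=
  allBelow_extend (f := lvl2) (lo := 41068) (len := 1880) lv2_g29 lv2_c30

theorem lv2_g31 : allBelow lvl2 44865 = true :=
  allBelow_extend (f := lvl2) (lo := 42948) (len := 1917) lv2_g30 lv2_c31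

theorem lv2_g32 : allBelow lvl2 46678 = true :=
  allBelow_extend (f := lvl2) (lo := 44865) (len := 1813) lv2_g31 lv2_c32

theorem lv2_g33 : allBelow lvl2 48114 = true :=
  allBelow_extend (f := lvl2) (lo := 46678) (len := 1436) lv2_g32 lv2_c33

theorem lv2_g34 : allBelow lvl2 49871 = true :=
  allBelow_extend (f := lvl2) (lo := 48114) (len := 1757) lv2_g33 lv2_c34

theorem lv2_g35 : allBelow lvl2 51603 = true :=
  allBelow_extend (f := lvl2) (lo := 49871) (len := 1732) lv2_g34 lv2_c35

theorem lv2_g36 : allBelow lvl2 53421 = true :=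
  allBelow_extend (f := lvl2) (lo := 51603) (len := 1818) lv2_g35 lv2_c36

theorem lv2_g37 : allBelow lvl2 54893 = true :=
  allBelow_extend (f := lvl2) (lo := 53421) (len := 1472) lv2_g36 lv2_c37

theorem lv2_g38 : allBelow lvl2 56721 = true :=
  allBelow_extend (f := lvl2) (lo := 54893) (len := 1828) lv2_g37 lv2_c38

theorem lv2_g39 : allBelow lvl2 58858 = true :=
  allBelow_extend (f := lvl2) (lo := 56721) (len := 2137) lv2_g38 lv2_c39

theorem lv2_g40 : allBelow lvl2 60721 = true :=
  allBelow_extend (f := lvl2) (lo := 58858) (len := 1863) lv2_g39 lv2_c40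

theorem lv2_g41 : allBelow lvl2 63074 = true :=
  allBelow_extend (f := lvl2) (lo := 60721) (len := 2353) lv2_g40 lv2_c41

theorem lv2_g42 : allBelow lvl2 65216 = true :=
  allBelow_extend (f := lvl2) (lo := 63074) (len := 2142) lv2_g41 lv2_c42

theorem lv2_g43 : allBelow lvl2 68839 = true :=
  allBelow_extend (f := lvl2) (lo := 65216) (len := 3623) lv2_g42 lv2_c43

theorem lv2_g44 : allBelow lvl2 70845 = true :=
  allBelow_extend (f := lvl2) (lo := 68839) (len := 2006) lv2_g43 lv2_c44

theorem lv2_g45 : allBelow lvl2 73787 = true :=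
  allBelow_extend (f := lvl2) (lo := 70845) (len := 2942) lv2_g44 lv2_c45

theorem lv2_g46 : allBelow lvl2 76120 = true :=
  allBelow_extend (f := lvl2) (lo := 73787) (len := 2333) lv2_g45 lv2_c46

theorem lv2_g47 : allBelow lvl2 78776 = true :=
  allBelow_extend (f := lvl2) (lo := 76120) (len := 2656) lv2_g46 lv2_c47

theorem lv2_g48 : allBelow lvl2 81409 = true :=
  allBelow_extend (f := lvl2) (lo := 78776) (len := 2633) lv2_g47 lv2_c48

theorem lv2_g49 : allBelow lvl2 83920 = true :=
  allBelow_extend (f := lvl2) (lo := 81409) (len := 2511) lv2_g48 lv2_c49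

theorem lv2_g50 : allBelow lvl2 87198 = true :=
  allBelow_extend (f := lvl2) (lo := 83920) (len := 3278) lv2_g49 lv2_c50

theorem lv2_g51 : allBelow lvl2 90075 = true :=
  allBelow_extend (f := lvl2) (lo := 87198) (len := 2877) lv2_g50 lv2_c51

theorem lv2_g52 : allBelow lvl2 92836 = true :=
  allBelow_extend (f := lvl2) (lo := 90075) (len := 2761) lv2_g51 lv2_c52

theorem lv2_g53 : allBelow lvl2 95449 = true :=
  allBelow_extend (f := lvl2) (lo := 92836) (len := 2613) lv2_g52 lv2_c53

theorem lv2_g54 : allBelow lvl2 98280 = true :=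
  allBelow_extend (f := lvl2) (lo := 95449) (len := 2831) lv2_g53 lv2_c54

theorem lv2_all : allBelow lvl2 98280 = true := lv2_g54

theorem ct2_g0 : countBelow orb2 4608 = 1035 :=
  countBelow_extend (f := orb2) (lo := 0) (len := 4608) (c := 0) (c' := 1035) (countBelow_zero orb2) ct2_c0

theorem ct2_g1 : countBelow orb2 9454 = 1984 :=
  countBelow_extend (f := orb2) (lo := 4608) (len := 4846) (c := 1035) (c' := 949) ct2_g0 ct2_c1

theorem ct2_g2 : countBelow orb2 14580 = 2923 :=
  countBelow_extend (f := orb2) (lo := 9454) (len := 5126) (c := 1984) (c' := 939) ct2_g1 ct2_c2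

theorem ct2_g3 : countBelow orb2 20042 = 4032 :=
  countBelow_extend (f := orb2) (lo := 14580) (len := 5462) (c := 2923) (c' := 1109) ct2_g2 ct2_c3

theorem ct2_g4 : countBelow orb2 25915 = 5286 :=
  countBelow_extend (f := orb2) (lo := 20042) (len := 5873) (c := 4032) (c' := 1254) ct2_g3 ct2_c4

theorem ct2_g5 : countBelow orb2 32308 = 6520 :=
  countBelow_extend (f := orb2) (lo := 25915) (len := 6393) (c := 5286) (c' := 1234) ct2_g4 ct2_c5

theorem ct2_g6 : countBelow orb2 39392 = 7493 :=
  countBelow_extend (f := orb2) (lo := 32308) (len := 7084) (c := 6520) (c' := 973) ct2_g5 ct2_c6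

theorem ct2_g7 : countBelow orb2 47453 = 8740 :=
  countBelow_extend (f := orb2) (lo := 39392) (len := 8061) (c := 7493) (c' := 1247) ct2_g6 ct2_c7

theorem ct2_g8 : countBelow orb2 57062 = 10349 :=
  countBelow_extend (f := orb2) (lo := 47453) (len := 9609) (c := 8740) (c' := 1609) ct2_g7 ct2_c8

theorem ct2_g9 : countBelow orb2 69742 = 11940 :=
  countBelow_extend (f := orb2) (lo := 57062) (len := 12680) (c := 10349) (c' := 1591) ct2_g8 ct2_c9

theorem ct2_g10 : countBelow orb2 98280 = 15400 :=
  countBelow_extend (f := orb2) (lo := 69742) (len := 28538) (c := 11940) (c' := 3460) ct2_g9 ct2_c10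

theorem ct2_all : countBelow orb2 98280 = 15400 := ct2_g10

theorem lv3_g0 : allBelow lvl3 1007 = true :=
  allBelow_extend (f := lvl3) (lo := 0) (len := 1007) (allBelow_zero lvl3) lv3_c0

theorem lv3_g1 : allBelow lvl3 2761 = true :=
  allBelow_extend (f := lvl3) (lo := 1007) (len := 1754) lv3_g0 lv3_c1

theorem lv3_g2 : allBelow lvl3 4622 = true :=
  allBelow_extend (f := lvl3) (lo := 2761) (len := 1861) lv3_g1 lv3_c2

theorem lv3_g3 : allBelow lvl3 6306 = true :=
  allBelow_extend (f := lvl3) (lo := 4622) (len := 1684) lv3_g2 lv3_c3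

theorem lv3_g4 : allBelow lvl3 8174 = true :=
  allBelow_extend (f := lvl3) (lo := 6306) (len := 1868) lv3_g3 lv3_c4

theorem lv3_g5 : allBelow lvl3 10328 = true :=
  allBelow_extend (f := lvl3) (lo := 8174) (len := 2154) lv3_g4 lv3_c5

theorem lv3_g6 : allBelow lvl3 12442 = true :=
  allBelow_extend (f := lvl3) (lo := 10328) (len := 2114) lv3_g5 lv3_c6

theorem lv3_g7 : allBelow lvl3 14347 = true :=
  allBelow_extend (f := lvl3) (lo := 12442) (len := 1905) lv3_g6 lv3_c7

theorem lv3_g8 : allBelow lvl3 16209 = true :=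
  allBelow_extend (f := lvl3) (lo := 14347) (len := 1862) lv3_g7 lv3_c8

theorem lv3_g9 : allBelow lvl3 18192 = true :=
  allBelow_extend (f := lvl3) (lo := 16209) (len := 1983) lv3_g8 lv3_c9

theorem lv3_g10 : allBelow lvl3 19651 = true :=
  allBelow_extend (f := lvl3) (lo := 18192) (len := 1459) lv3_g9 lv3_c10

theorem lv3_g11 : allBelow lvl3 21428 = true :=
  allBelow_extend (f := lvl3) (lo := 19651) (len := 1777) lv3_g10 lv3_c11

theorem lv3_g12 : allBelow lvl3 23766 = true :=
  allBelow_extend (f := lvl3) (lo := 21428) (len := 2338) lv3_g11 lv3_c12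

theorem lv3_g13 : allBelow lvl3 26092 = true :=
  allBelow_extend (f := lvl3) (lo := 23766) (len := 2326) lv3_g12 lv3_c13

theorem lv3_g14 : allBelow lvl3 28519 = true :=
  allBelow_extend (f := lvl3) (lo := 26092) (len := 2427) lv3_g13 lv3_c14

theorem lv3_g15 : allBelow lvl3 30858 = true :=
  allBelow_extend (f := lvl3) (lo := 28519) (len := 2339) lv3_g14 lv3_c15

theorem lv3_g16 : allBelow lvl3 33278 = true :=
  allBelow_extend (f := lvl3) (lo := 30858) (len := 2420) lv3_g15 lv3_c16

theorem lv3_g17 : allBelow lvl3 35913 = true :=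
  allBelow_extend (f := lvl3) (lo := 33278) (len := 2635) lv3_g16 lv3_c17

theorem lv3_g18 : allBelow lvl3 38523 = true :=
  allBelow_extend (f := lvl3) (lo := 35913) (len := 2610) lv3_g17 lv3_c18

theorem lv3_g19 : allBelow lvl3 41693 = true :=
  allBelow_extend (f := lvl3) (lo := 38523) (len := 3170) lv3_g18 lv3_c19

theorem lv3_g20 : allBelow lvl3 44827 = true :=
  allBelow_extend (f := lvl3) (lo := 41693) (len := 3134) lv3_g19 lv3_c20

theorem lv3_g21 : allBelow lvl3 47486 = true :=
  allBelow_extend (f := lvl3) (lo := 44827) (len := 2659) lv3_g20 lv3_c21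

theorem lv3_g22 : allBelow lvl3 50388 = true :=
  allBelow_extend (f := lvl3) (lo := 47486) (len := 2902) lv3_g21 lv3_c22

theorem lv3_g23 : allBelow lvl3 53095 = true :=
  allBelow_extend (f := lvl3) (lo := 50388) (len := 2707) lv3_g22 lv3_c23

theorem lv3_g24 : allBelow lvl3 56175 = true :=
  allBelow_extend (f := lvl3) (lo := 53095) (len := 3080) lv3_g23 lv3_c24

theorem lv3_g25 : allBelow lvl3 59353 = true :=
  allBelow_extend (f := lvl3) (lo := 56175) (len := 3178) lv3_g24 lv3_c25

theorem lv3_g26 : allBelow lvl3 63190 = true :=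
  allBelow_extend (f := lvl3) (lo := 59353) (len := 3837) lv3_g25 lv3_c26

theorem lv3_g27 : allBelow lvl3 68097 = true :=
  allBelow_extend (f := lvl3) (lo := 63190) (len := 4907) lv3_g26 lv3_c27

theorem lv3_g28 : allBelow lvl3 73063 = true :=
  allBelow_extend (f := lvl3) (lo := 68097) (len := 4966) lv3_g27 lv3_c28

theorem lv3_g29 : allBelow lvl3 76876 = true :=
  allBelow_extend (f := lvl3) (lo := 73063) (len := 3813) lv3_g28 lv3_c29

theorem lv3_g30 : allBelow lvl3 84364 = true :=
  allBelow_extend (f := lvl3) (lo := 76876) (len := 7488) lv3_g29 lv3_c30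

theorem lv3_g31 : allBelow lvl3 90970 = true :=
  allBelow_extend (f := lvl3) (lo := 84364) (len := 6606) lv3_g30 lv3_c31

theorem lv3_g32 : allBelow lvl3 97209 = true :=
  allBelow_extend (f := lvl3) (lo := 90970) (len := 6239) lv3_g31 lv3_c32

theorem lv3_g33 : allBelow lvl3 98280 = true :=
  allBelow_extend (f := lvl3) (lo := 97209) (len := 1071) lv3_g32 lv3_c33

theorem lv3_all : allBelow lvl3 98280 = true := lv3_g33

theorem ct3_g0 : countBelow orb3 4608 = 510 :=
  countBelow_extend (f := orb3) (lo := 0) (len := 4608) (c := 0) (c' := 510) (countBelow_zero orb3) ct3_c0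

theorem ct3_g1 : countBelow orb3 9454 = 923 :=
  countBelow_extend (f := orb3) (lo := 4608) (len := 4846) (c := 510) (c' := 413) ct3_g0 ct3_c1

theorem ct3_g2 : countBelow orb3 14580 = 1327 :=
  countBelow_extend (f := orb3) (lo := 9454) (len := 5126) (c := 923) (c' := 404) ct3_g1 ct3_c2

theorem ct3_g3 : countBelow orb3 20042 = 1861 :=
  countBelow_extend (f := orb3) (lo := 14580) (len := 5462) (c := 1327) (c' := 534) ct3_g2 ct3_c3

theorem ct3_g4 : countBelow orb3 25915 = 2298 :=
  countBelow_extend (f := orb3) (lo := 20042) (len := 5873) (c := 1861) (c' := 437) ct3_g3 ct3_c4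

theorem ct3_g5 : countBelow orb3 32308 = 2777 :=
  countBelow_extend (f := orb3) (lo := 25915) (len := 6393) (c := 2298) (c' := 479) ct3_g4 ct3_c5

theorem ct3_g6 : countBelow orb3 39392 = 3167 :=
  countBelow_extend (f := orb3) (lo := 32308) (len := 7084) (c := 2777) (c' := 390) ct3_g5 ct3_c6

theorem ct3_g7 : countBelow orb3 47453 = 3626 :=
  countBelow_extend (f := orb3) (lo := 39392) (len := 8061) (c := 3167) (c' := 459) ct3_g6 ct3_c7

theorem ct3_g8 : countBelow orb3 57062 = 4219 :=
  countBelow_extend (f := orb3) (lo := 47453) (len := 9609) (c := 3626) (c' := 593) ct3_g7 ct3_c8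

theorem ct3_g9 : countBelow orb3 69742 = 4797 :=
  countBelow_extend (f := orb3) (lo := 57062) (len := 12680) (c := 4219) (c' := 578) ct3_g8 ct3_c9

theorem ct3_g10 : countBelow orb3 98280 = 5832 :=
  countBelow_extend (f := orb3) (lo := 69742) (len := 28538) (c := 4797) (c' := 1035) ct3_g9 ct3_c10

theorem ct3_all : countBelow orb3 98280 = 5832 := ct3_g10

theorem lv4_g0 : allBelow lvl4 4608 = true :=
  allBelow_extend (f := lvl4) (lo := 0) (len := 4608) (allBelow_zero lvl4) lv4_c0

theorem lv4_g1 : allBelow lvl4 9433 = true :=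
  allBelow_extend (f := lvl4) (lo := 4608) (len := 4825) lv4_g0 lv4_c1

theorem lv4_g2 : allBelow lvl4 14542 = true :=
  allBelow_extend (f := lvl4) (lo := 9433) (len := 5109) lv4_g1 lv4_c2

theorem lv4_g3 : allBelow lvl4 20001 = true :=
  allBelow_extend (f := lvl4) (lo := 14542) (len := 5459) lv4_g2 lv4_c3

theorem lv4_g4 : allBelow lvl4 25870 = true :=
  allBelow_extend (f := lvl4) (lo := 20001) (len := 5869) lv4_g3 lv4_c4

theorem lv4_g5 : allBelow lvl4 32252 = true :=
  allBelow_extend (f := lvl4) (lo := 25870) (len := 6382) lv4_g4 lv4_c5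

theorem lv4_g6 : allBelow lvl4 39314 = true :=
  allBelow_extend (f := lvl4) (lo := 32252) (len := 7062) lv4_g5 lv4_c6

theorem lv4_g7 : allBelow lvl4 47328 = true :=
  allBelow_extend (f := lvl4) (lo := 39314) (len := 8014) lv4_g6 lv4_c7

theorem lv4_g8 : allBelow lvl4 56908 = true :=
  allBelow_extend (f := lvl4) (lo := 47328) (len := 9580) lv4_g7 lv4_c8

theorem lv4_g9 : allBelow lvl4 69506 = true :=
  allBelow_extend (f := lvl4) (lo := 56908) (len := 12598) lv4_g8 lv4_c9

theorem lv4_g10 : allBelow lvl4 98280 = true :=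
  allBelow_extend (f := lvl4) (lo := 69506) (len := 28774) lv4_g9 lv4_c10

theorem lv4_all : allBelow lvl4 98280 = true := lv4_g10

theorem ct4_g0 : countBelow orb4 4608 = 0 :=
  countBelow_extend (f := orb4) (lo := 0) (len := 4608) (c := 0) (c' := 0) (countBelow_zero orb4) ct4_c0

theorem ct4_g1 : countBelow orb4 9454 = 2 :=
  countBelow_extend (f := orb4) (lo := 4608) (len := 4846) (c := 0) (c' := 2) ct4_g0 ct4_c1

theorem ct4_g2 : countBelow orb4 14580 = 3 :=
  countBelow_extend (f := orb4) (lo := 9454) (len := 5126) (c := 2) (c' := 1) ct4_g1 ct4_c2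

theorem ct4_g3 : countBelow orb4 20042 = 3 :=
  countBelow_extend (f := orb4) (lo := 14580) (len := 5462) (c := 3) (c' := 0) ct4_g2 ct4_c3

theorem ct4_g4 : countBelow orb4 25915 = 3 :=
  countBelow_extend (f := orb4) (lo := 20042) (len := 5873) (c := 3) (c' := 0) ct4_g3 ct4_c4

theorem ct4_g5 : countBelow orb4 32308 = 4 :=
  countBelow_extend (f := orb4) (lo := 25915) (len := 6393) (c := 3) (c' := 1) ct4_g4 ct4_c5

theorem ct4_g6 : countBelow orb4 39392 = 5 :=
  countBelow_extend (f := orb4) (lo := 32308) (len := 7084) (c := 4) (c' := 1) ct4_g5 ct4_c6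

theorem ct4_g7 : countBelow orb4 47453 = 7 :=
  countBelow_extend (f := orb4) (lo := 39392) (len := 8061) (c := 5) (c' := 2) ct4_g6 ct4_c7

theorem ct4_g8 : countBelow orb4 57062 = 7 :=
  countBelow_extend (f := orb4) (lo := 47453) (len := 9609) (c := 7) (c' := 0) ct4_g7 ct4_c8

theorem ct4_g9 : countBelow orb4 69742 = 8 :=
  countBelow_extend (f := orb4) (lo := 57062) (len := 12680) (c := 7) (c' := 1) ct4_g8 ct4_c9

theorem ct4_g10 : countBelow orb4 98280 = 10 :=
  countBelow_extend (f := orb4) (lo := 69742) (len := 28538) (c := 8) (c' := 2) ct4_g9 ct4_c10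

theorem ct4_all : countBelow orb4 98280 = 10 := ct4_g10

end Cfsg.Agent.Lib.Helper27.Co1O
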