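import Cfsg.Agent.Lib.Helper27.Co1O.Defs

/-! # S2069: sliced kernel computations (path certificate of the strong generator 10) -/

set_option autoImplicit false
set_option maxRecDepth 100000
set_option Elab.async false

namespace Cfsg.Agent.Lib.Helper27.Co1O

open Cfsg.Agent.Lib.Helper28.BSGS Cfsg.Agent.Lib.Helper22.SuzOut Cfsg.Agent.Lib.Helper27.TreeSift Cfsg.Agent.Lib.Helper27.Big

theorem pS10_c0 : rangeAll chk10 0 705 = true := by decide +kernel

theorem pS10_c1 : rangeAll chk10 705 735 = true := by decide +kernel

theorem pS10_c2 : rangeAll chk10 1440 729 = true := by decide +kernel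

theorem pS10_c3 : rangeAll chk10 2169 765 = true := by decide +kernel

theorem pS10_c4 : rangeAll chk10 2934 750 = true := by decide +kernel

theorem pS10_c5 : rangeAll chk10 3684 760 = true := by decide +kernel

theorem pS10_c6 : rangeAll chk10 4444 732 = true := by decide +kernel

theorem pS10_c7 : rangeAll chk10 5176 739 = true := by decide +kernel

theorem pS10_c8 : rangeAll chk10 5915 727 = true := by decide +kernel

theorem pS10_c9 : rangeAll chk10 6642 760 = true := by decide +kernel

theorem pS10_c10 : rangeAll chk10 7402 760 = true := by decide +kernel

theorem pS10_c11 : rangeAll chk10 8162 759 = true := by decide +kernel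

theorem pS10_c12 : rangeAll chk10 8921 753 = true := by decide +kernel

theorem pS10_c13 : rangeAll chk10 9674 792 = true := by decide +kernel

theorem pS10_c14 : rangeAll chk10 10466 781 = true := by decide +kernel

theorem pS10_c15 : rangeAll chk10 11247 727 = true := by decide +kernel

theorem pS10_c16 : rangeAll chk10 11974 748 = true := by decide +kernel

theorem pS10_c17 : rangeAll chk10 12722 775 = true := by decide +kernel

theorem pS10_c18 : rangeAll chk10 13497 757 = true := by decide +kernel

theorem pS10_c19 : rangeAll chk10 14254 733 = true := by decide +kernel

theorem pS10_c20 : rangeAll chk10 14987 759 = true := by decide +kernel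

theorem pS10_c21 : rangeAll chk10 15746 780 = true := by decide +kernel

theorem pS10_c22 : rangeAll chk10 16526 721 = true := by decide +kernel

theorem pS10_c23 : rangeAll chk10 17247 739 = true := by decide +kernel

theorem pS10_c24 : rangeAll chk10 17986 785 = true := by decide +kernel

theorem pS10_c25 : rangeAll chk10 18771 771 = true := by decide +kernel

theorem pS10_c26 : rangeAll chk10 19542 746 = true := by decide +kernel

theorem pS10_c27 : rangeAll chk10 20288 775 = true := by decide +kernel

theorem pS10_c28 : rangeAll chk10 21063 818 = true := by decide +kernel

theorem pS10_c29 : rangeAll chk10 21881 805 = true := by decide +kernel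

theorem pS10_c30 : rangeAll chk10 22686 771 = true := by decide +kernel

theorem pS10_c31 : rangeAll chk10 23457 793 = true := by decide +kernel

theorem pS10_c32 : rangeAll chk10 24250 815 = true := by decide +kernel

theorem pS10_c33 : rangeAll chk10 25065 789 = true := by decide +kernel

theorem pS10_c34 : rangeAll chk10 25854 785 = true := by decide +kernel

theorem pS10_c35 : rangeAll chk10 26639 818 = true := by decide +kernel

theorem pS10_c36 : rangeAll chk10 27457 802 = true := by decide +kernel

theorem pS10_c37 : rangeAll chk10 28259 777 = true := by decide +kernel

theorem pS10_c38 : rangeAll chk10 29036 819 = true := by decide +kernel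

theorem pS10_c39 : rangeAll chk10 29855 829 = true := by decide +kernel

end Cfsg.Agent.Lib.Helper27.Co1O
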