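import Cfsg.Agent.Lib.Helper27.Co1O.Defs

/-! # S2069: sliced kernel computations (path certificate of the strong generator 10) -/

set_option autoImplicit false
set_option maxRecDepth 100000
set_option Elab.async false

namespace Cfsg.Agent.Lib.Helper27.Co1O

open Cfsg.Agent.Lib.Helper28.BSGS Cfsg.Agent.Lib.Helper22.SuzOut Cfsg.Agent.Lib.Helper27.TreeSift Cfsg.Agent.Lib.Helper27.Big

theorem pS10_c40 : rangeAll chk10 30684 787 = true := by decide +kernel

theorem pS10_c41 : rangeAll chk10 31471 818 = true := by decide +kernel

theorem pS10_c42 : rangeAll chk10 32289 869 = true := by decide +kernel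

theorem pS10_c43 : rangeAll chk10 33158 859 = true := by decide +kernel

theorem pS10_c44 : rangeAll chk10 34017 857 = true := by decide +kernel

theorem pS10_c45 : rangeAll chk10 34874 829 = true := by decide +kernel

theorem pS10_c46 : rangeAll chk10 35703 837 = true := by decide +kernel

theorem pS10_c47 : rangeAll chk10 36540 851 = true := by decide +kernel

theorem pS10_c48 : rangeAll chk10 37391 859 = true := by decide +kernel

theorem pS10_c49 : rangeAll chk10 38250 904 = true := by decide +kernel

theorem pS10_c50 : rangeAll chk10 39154 901 = true := by decide +kernel

theorem pS10_c51 : rangeAll chk10 40055 873 = true := by decide +kernel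

theorem pS10_c52 : rangeAll chk10 40928 887 = true := by decide +kernel

theorem pS10_c53 : rangeAll chk10 41815 898 = true := by decide +kernel

theorem pS10_c54 : rangeAll chk10 42713 854 = true := by decide +kernel

theorem pS10_c55 : rangeAll chk10 43567 855 = true := by decide +kernel

theorem pS10_c56 : rangeAll chk10 44422 884 = true := by decide +kernel

theorem pS10_c57 : rangeAll chk10 45306 899 = true := by decide +kernel

theorem pS10_c58 : rangeAll chk10 46205 888 = true := by decide +kernel

theorem pS10_c59 : rangeAll chk10 47093 877 = true := by decide +kernel

theorem pS10_c60 : rangeAll chk10 47970 881 = true := by decide +kernel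

theorem pS10_c61 : rangeAll chk10 48851 872 = true := by decide +kernel

theorem pS10_c62 : rangeAll chk10 49723 881 = true := by decide +kernel

theorem pS10_c63 : rangeAll chk10 50604 894 = true := by decide +kernel

theorem pS10_c64 : rangeAll chk10 51498 879 = true := by decide +kernel

theorem pS10_c65 : rangeAll chk10 52377 858 = true := by decide +kernel

theorem pS10_c66 : rangeAll chk10 53235 949 = true := by decide +kernel

theorem pS10_c67 : rangeAll chk10 54184 930 = true := by decide +kernel

theorem pS10_c68 : rangeAll chk10 55114 936 = true := by decide +kernel

theorem pS10_c69 : rangeAll chk10 56050 934 = true := by decide +kernel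

theorem pS10_c70 : rangeAll chk10 56984 938 = true := by decide +kernel

theorem pS10_c71 : rangeAll chk10 57922 949 = true := by decide +kernel

theorem pS10_c72 : rangeAll chk10 58871 964 = true := by decide +kernel

theorem pS10_c73 : rangeAll chk10 59835 985 = true := by decide +kernel

theorem pS10_c74 : rangeAll chk10 60820 944 = true := by decide +kernel

theorem pS10_c75 : rangeAll chk10 61764 964 = true := by decide +kernel

theorem pS10_c76 : rangeAll chk10 62728 945 = true := by decide +kernel

theorem pS10_c77 : rangeAll chk10 63673 982 = true := by decide +kernel

theorem pS10_c78 : rangeAll chk10 64655 1010 = true := by decide +kernel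

theorem pS10_c79 : rangeAll chk10 65665 1031 = true := by decide +kernel

end Cfsg.Agent.Lib.Helper27.Co1O
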