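import Cfsg.Agent.Lib.Helper27.Co1O.Defs

/-! # S2069: sliced kernel computations (path certificate of the strong generator 10) -/

set_option autoImplicit false
set_option maxRecDepth 100000
set_option Elab.async false

namespace Cfsg.Agent.Lib.Helper27.Co1O

open Cfsg.Agent.Lib.Helper28.BSGS Cfsg.Agent.Lib.Helper22.SuzOut Cfsg.Agent.Lib.Helper27.TreeSift Cfsg.Agent.Lib.Helper27.Big

theorem pS10_c80 : rangeAll chk10 66696 1017 = true := by decide +kernel

theorem pS10_c81 : rangeAll chk10 67713 991 = true := by decide +kernel

theorem pS10_c82 : rangeAll chk10 68704 1015 = true := by decide +kernel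

theorem pS10_c83 : rangeAll chk10 69719 1020 = true := by decide +kernel

theorem pS10_c84 : rangeAll chk10 70739 1020 = true := by decide +kernel

theorem pS10_c85 : rangeAll chk10 71759 1028 = true := by decide +kernel

theorem pS10_c86 : rangeAll chk10 72787 1003 = true := by decide +kernel

theorem pS10_c87 : rangeAll chk10 73790 1047 = true := by decide +kernel

theorem pS10_c88 : rangeAll chk10 74837 1069 = true := by decide +kernel

theorem pS10_c89 : rangeAll chk10 75906 1056 = true := by decide +kernel

theorem pS10_c90 : rangeAll chk10 76962 1101 = true := by decide +kernel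

theorem pS10_c91 : rangeAll chk10 78063 1037 = true := by decide +kernel

theorem pS10_c92 : rangeAll chk10 79100 1032 = true := by decide +kernel

theorem pS10_c93 : rangeAll chk10 80132 1087 = true := by decide +kernel

theorem pS10_c94 : rangeAll chk10 81219 1077 = true := by decide +kernel

theorem pS10_c95 : rangeAll chk10 82296 1095 = true := by decide +kernel

theorem pS10_c96 : rangeAll chk10 83391 1079 = true := by decide +kernel

theorem pS10_c97 : rangeAll chk10 84470 1064 = true := by decide +kernel

theorem pS10_c98 : rangeAll chk10 85534 1132 = true := by decide +kernel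

theorem pS10_c99 : rangeAll chk10 86666 1129 = true := by decide +kernel

theorem pS10_c100 : rangeAll chk10 87795 1168 = true := by decide +kernel

theorem pS10_c101 : rangeAll chk10 88963 1112 = true := by decide +kernel

theorem pS10_c102 : rangeAll chk10 90075 1116 = true := by decide +kernel

theorem pS10_c103 : rangeAll chk10 91191 1063 = true := by decide +kernel

theorem pS10_c104 : rangeAll chk10 92254 1105 = true := by decide +kernel

theorem pS10_c105 : rangeAll chk10 93359 1112 = true := by decide +kernel

theorem pS10_c106 : rangeAll chk10 94471 1174 = true := by decide +kernel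

theorem pS10_c107 : rangeAll chk10 95645 1126 = true := by decide +kernel

theorem pS10_c108 : rangeAll chk10 96771 1190 = true := by decide +kernel

theorem pS10_c109 : rangeAll chk10 97961 319 = true := by decide +kernel

end Cfsg.Agent.Lib.Helper27.Co1O
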