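import Cfsg.Agent.Lib.Helper27.Co1O.Defs

/-! # S2069: sliced kernel computations (path certificate of the strong generator 11) -/

set_option autoImplicit false
set_option maxRecDepth 100000
set_option Elab.async false

namespace Cfsg.Agent.Lib.Helper27.Co1O

open Cfsg.Agent.Lib.Helper28.BSGS Cfsg.Agent.Lib.Helper22.SuzOut Cfsg.Agent.Lib.Helper27.TreeSift Cfsg.Agent.Lib.Helper27.Big

theorem pS11_c0 : rangeAll chk11 0 741 = true := by decide +kernel

theorem pS11_c1 : rangeAll chk11 741 777 = true := by decide +kernel

theorem pS11_c2 : rangeAll chk11 1518 791 = true := by decide +kernel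

theorem pS11_c3 : rangeAll chk11 2309 822 = true := by decide +kernel

theorem pS11_c4 : rangeAll chk11 3131 776 = true := by decide +kernel

theorem pS11_c5 : rangeAll chk11 3907 794 = true := by decide +kernel

theorem pS11_c6 : rangeAll chk11 4701 782 = true := by decide +kernel

theorem pS11_c7 : rangeAll chk11 5483 784 = true := by decide +kernel

theorem pS11_c8 : rangeAll chk11 6267 812 = true := by decide +kernel

theorem pS11_c9 : rangeAll chk11 7079 825 = true := by decide +kernel

theorem pS11_c10 : rangeAll chk11 7904 806 = true := by decide +kernel

theorem pS11_c11 : rangeAll chk11 8710 816 = true := by decide +kernel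

theorem pS11_c12 : rangeAll chk11 9526 845 = true := by decide +kernel

theorem pS11_c13 : rangeAll chk11 10371 831 = true := by decide +kernel

theorem pS11_c14 : rangeAll chk11 11202 823 = true := by decide +kernel

theorem pS11_c15 : rangeAll chk11 12025 815 = true := by decide +kernel

theorem pS11_c16 : rangeAll chk11 12840 822 = true := by decide +kernel

theorem pS11_c17 : rangeAll chk11 13662 834 = true := by decide +kernel

theorem pS11_c18 : rangeAll chk11 14496 837 = true := by decide +kernel

theorem pS11_c19 : rangeAll chk11 15333 819 = true := by decide +kernel

theorem pS11_c20 : rangeAll chk11 16152 839 = true := by decide +kernel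

theorem pS11_c21 : rangeAll chk11 16991 813 = true := by decide +kernel

theorem pS11_c22 : rangeAll chk11 17804 833 = true := by decide +kernel

theorem pS11_c23 : rangeAll chk11 18637 845 = true := by decide +kernel

theorem pS11_c24 : rangeAll chk11 19482 844 = true := by decide +kernel

theorem pS11_c25 : rangeAll chk11 20326 891 = true := by decide +kernel

theorem pS11_c26 : rangeAll chk11 21217 866 = true := by decide +kernel

theorem pS11_c27 : rangeAll chk11 22083 870 = true := by decide +kernel

theorem pS11_c28 : rangeAll chk11 22953 847 = true := by decide +kernel

theorem pS11_c29 : rangeAll chk11 23800 871 = true := by decide +kernel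

theorem pS11_c30 : rangeAll chk11 24671 882 = true := by decide +kernel

theorem pS11_c31 : rangeAll chk11 25553 873 = true := by decide +kernel

theorem pS11_c32 : rangeAll chk11 26426 881 = true := by decide +kernel

theorem pS11_c33 : rangeAll chk11 27307 890 = true := by decide +kernel

theorem pS11_c34 : rangeAll chk11 28197 864 = true := by decide +kernel

theorem pS11_c35 : rangeAll chk11 29061 885 = true := by decide +kernel

theorem pS11_c36 : rangeAll chk11 29946 906 = true := by decide +kernel

theorem pS11_c37 : rangeAll chk11 30852 893 = true := by decide +kernel

theorem pS11_c38 : rangeAll chk11 31745 926 = true := by decide +kernel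

theorem pS11_c39 : rangeAll chk11 32671 987 = true := by decide +kernel

end Cfsg.Agent.Lib.Helper27.Co1O
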