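import Cfsg.Agent.Lib.Helper27.Co1O.Defs

/-! # S2069: sliced kernel computations (path certificate of the strong generator 11) -/

set_option autoImplicit false
set_option maxRecDepth 100000
set_option Elab.async false

namespace Cfsg.Agent.Lib.Helper27.Co1O

open Cfsg.Agent.Lib.Helper28.BSGS Cfsg.Agent.Lib.Helper22.SuzOut Cfsg.Agent.Lib.Helper27.TreeSift Cfsg.Agent.Lib.Helper27.Big

theorem pS11_c40 : rangeAll chk11 33658 930 = true := by decide +kernel

theorem pS11_c41 : rangeAll chk11 34588 938 = true := by decide +kernel

theorem pS11_c42 : rangeAll chk11 35526 935 = true := by decide +kernel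

theorem pS11_c43 : rangeAll chk11 36461 945 = true := by decide +kernel

theorem pS11_c44 : rangeAll chk11 37406 999 = true := by decide +kernel

theorem pS11_c45 : rangeAll chk11 38405 1001 = true := by decide +kernel

theorem pS11_c46 : rangeAll chk11 39406 992 = true := by decide +kernel

theorem pS11_c47 : rangeAll chk11 40398 1006 = true := by decide +kernel

theorem pS11_c48 : rangeAll chk11 41404 1004 = true := by decide +kernel

theorem pS11_c49 : rangeAll chk11 42408 978 = true := by decide +kernel

theorem pS11_c50 : rangeAll chk11 43386 955 = true := by decide +kernel

theorem pS11_c51 : rangeAll chk11 44341 962 = true := by decide +kernel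

theorem pS11_c52 : rangeAll chk11 45303 986 = true := by decide +kernel

theorem pS11_c53 : rangeAll chk11 46289 990 = true := by decide +kernel

theorem pS11_c54 : rangeAll chk11 47279 989 = true := by decide +kernel

theorem pS11_c55 : rangeAll chk11 48268 976 = true := by decide +kernel

theorem pS11_c56 : rangeAll chk11 49244 1001 = true := by decide +kernel

theorem pS11_c57 : rangeAll chk11 50245 984 = true := by decide +kernel

theorem pS11_c58 : rangeAll chk11 51229 1014 = true := by decide +kernel

theorem pS11_c59 : rangeAll chk11 52243 1002 = true := by decide +kernel

theorem pS11_c60 : rangeAll chk11 53245 1013 = true := by decide +kernel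

theorem pS11_c61 : rangeAll chk11 54258 1027 = true := by decide +kernel

theorem pS11_c62 : rangeAll chk11 55285 1072 = true := by decide +kernel

theorem pS11_c63 : rangeAll chk11 56357 1083 = true := by decide +kernel

theorem pS11_c64 : rangeAll chk11 57440 1085 = true := by decide +kernel

theorem pS11_c65 : rangeAll chk11 58525 1109 = true := by decide +kernel

theorem pS11_c66 : rangeAll chk11 59634 1108 = true := by decide +kernel

theorem pS11_c67 : rangeAll chk11 60742 1054 = true := by decide +kernel

theorem pS11_c68 : rangeAll chk11 61796 1056 = true := by decide +kernel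

theorem pS11_c69 : rangeAll chk11 62852 1067 = true := by decide +kernel

theorem pS11_c70 : rangeAll chk11 63919 1120 = true := by decide +kernel

theorem pS11_c71 : rangeAll chk11 65039 1145 = true := by decide +kernel

theorem pS11_c72 : rangeAll chk11 66184 1161 = true := by decide +kernel

theorem pS11_c73 : rangeAll chk11 67345 1142 = true := by decide +kernel

theorem pS11_c74 : rangeAll chk11 68487 1120 = true := by decide +kernel

theorem pS11_c75 : rangeAll chk11 69607 1138 = true := by decide +kernel

theorem pS11_c76 : rangeAll chk11 70745 1154 = true := by decide +kernel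

theorem pS11_c77 : rangeAll chk11 71899 1167 = true := by decide +kernel

theorem pS11_c78 : rangeAll chk11 73066 1150 = true := by decide +kernel

theorem pS11_c79 : rangeAll chk11 74216 1163 = true := by decide +kernel

end Cfsg.Agent.Lib.Helper27.Co1O
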