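import Cfsg.Agent.Lib.Helper27.Co1O.Defs

/-! # S2069: sliced kernel computations (path certificate of the strong generator 11) -/

set_option autoImplicit false
set_option maxRecDepth 100000
set_option Elab.async false

namespace Cfsg.Agent.Lib.Helper27.Co1O

open Cfsg.Agent.Lib.Helper28.BSGS Cfsg.Agent.Lib.Helper22.SuzOut Cfsg.Agent.Lib.Helper27.TreeSift Cfsg.Agent.Lib.Helper27.Big

theorem pS11_c80 : rangeAll chk11 75379 1186 = true := by decide +kernel

theorem pS11_c81 : rangeAll chk11 76565 1247 = true := by decide +kernel

theorem pS11_c82 : rangeAll chk11 77812 1224 = true := by decide +kernel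

theorem pS11_c83 : rangeAll chk11 79036 1181 = true := by decide +kernel

theorem pS11_c84 : rangeAll chk11 80217 1215 = true := by decide +kernel

theorem pS11_c85 : rangeAll chk11 81432 1233 = true := by decide +kernel

theorem pS11_c86 : rangeAll chk11 82665 1255 = true := by decide +kernel

theorem pS11_c87 : rangeAll chk11 83920 1249 = true := by decide +kernel

theorem pS11_c88 : rangeAll chk11 85169 1258 = true := by decide +kernel

theorem pS11_c89 : rangeAll chk11 86427 1289 = true := by decide +kernel

theorem pS11_c90 : rangeAll chk11 87716 1345 = true := by decide +kernel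

theorem pS11_c91 : rangeAll chk11 89061 1239 = true := by decide +kernel

theorem pS11_c92 : rangeAll chk11 90300 1244 = true := by decide +kernel

theorem pS11_c93 : rangeAll chk11 91544 1224 = true := by decide +kernel

theorem pS11_c94 : rangeAll chk11 92768 1230 = true := by decide +kernel

theorem pS11_c95 : rangeAll chk11 93998 1257 = true := by decide +kernel

theorem pS11_c96 : rangeAll chk11 95255 1307 = true := by decide +kernel

theorem pS11_c97 : rangeAll chk11 96562 1286 = true := by decide +kernel

theorem pS11_c98 : rangeAll chk11 97848 432 = true := by decide +kernel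

end Cfsg.Agent.Lib.Helper27.Co1O
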