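import Cfsg.Agent.Lib.Helper27.Co1O.Defs

/-! # S2069: sliced kernel computations (path certificate of the strong generator 3) -/

set_option autoImplicit false
set_option maxRecDepth 100000
set_option Elab.async false

namespace Cfsg.Agent.Lib.Helper27.Co1O

open Cfsg.Agent.Lib.Helper28.BSGS Cfsg.Agent.Lib.Helper22.SuzOut Cfsg.Agent.Lib.Helper27.TreeSift Cfsg.Agent.Lib.Helper27.Big

theorem pS3_c40 : rangeAll chk3 83517 3660 = true := by decide +kernel

theorem pS3_c41 : rangeAll chk3 87177 3898 = true := by decide +kernel

theorem pS3_c42 : rangeAll chk3 91075 4103 = true := by decide +kernel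

theorem pS3_c43 : rangeAll chk3 95178 3102 = true := by decide +kernel

end Cfsg.Agent.Lib.Helper27.Co1O
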