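import Cfsg.Agent.Lib.Helper27.Co1O.Defs

/-! # S2069: sliced kernel computations (path certificate of the strong generator 4) -/

set_option autoImplicit false
set_option maxRecDepth 100000
set_option Elab.async false

namespace Cfsg.Agent.Lib.Helper27.Co1O

open Cfsg.Agent.Lib.Helper28.BSGS Cfsg.Agent.Lib.Helper22.SuzOut Cfsg.Agent.Lib.Helper27.TreeSift Cfsg.Agent.Lib.Helper27.Big

theorem pS4_c0 : rangeAll chk4 0 590 = true := by decide +kernel

theorem pS4_c1 : rangeAll chk4 590 597 = true := by decide +kernel

theorem pS4_c2 : rangeAll chk4 1187 625 = true := by decide +kernel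

theorem pS4_c3 : rangeAll chk4 1812 625 = true := by decide +kernel

theorem pS4_c4 : rangeAll chk4 2437 614 = true := by decide +kernel

theorem pS4_c5 : rangeAll chk4 3051 626 = true := by decide +kernel

theorem pS4_c6 : rangeAll chk4 3677 635 = true := by decide +kernel

theorem pS4_c7 : rangeAll chk4 4312 620 = true := by decide +kernel

theorem pS4_c8 : rangeAll chk4 4932 612 = true := by decide +kernel

theorem pS4_c9 : rangeAll chk4 5544 630 = true := by decide +kernel

theorem pS4_c10 : rangeAll chk4 6174 632 = true := by decide +kernel

theorem pS4_c11 : rangeAll chk4 6806 651 = true := by decide +kernel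

theorem pS4_c12 : rangeAll chk4 7457 633 = true := by decide +kernel

theorem pS4_c13 : rangeAll chk4 8090 611 = true := by decide +kernel

theorem pS4_c14 : rangeAll chk4 8701 651 = true := by decide +kernel

theorem pS4_c15 : rangeAll chk4 9352 654 = true := by decide +kernel

theorem pS4_c16 : rangeAll chk4 10006 677 = true := by decide +kernel

theorem pS4_c17 : rangeAll chk4 10683 692 = true := by decide +kernel

theorem pS4_c18 : rangeAll chk4 11375 646 = true := by decide +kernel

theorem pS4_c19 : rangeAll chk4 12021 658 = true := by decide +kernel

theorem pS4_c20 : rangeAll chk4 12679 665 = true := by decide +kernel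

theorem pS4_c21 : rangeAll chk4 13344 657 = true := by decide +kernel

theorem pS4_c22 : rangeAll chk4 14001 645 = true := by decide +kernel

theorem pS4_c23 : rangeAll chk4 14646 651 = true := by decide +kernel

theorem pS4_c24 : rangeAll chk4 15297 694 = true := by decide +kernel

theorem pS4_c25 : rangeAll chk4 15991 692 = true := by decide +kernel

theorem pS4_c26 : rangeAll chk4 16683 636 = true := by decide +kernel

theorem pS4_c27 : rangeAll chk4 17319 642 = true := by decide +kernel

theorem pS4_c28 : rangeAll chk4 17961 686 = true := by decide +kernel

theorem pS4_c29 : rangeAll chk4 18647 661 = true := by decide +kernel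

theorem pS4_c30 : rangeAll chk4 19308 653 = true := by decide +kernel

theorem pS4_c31 : rangeAll chk4 19961 648 = true := by decide +kernel

theorem pS4_c32 : rangeAll chk4 20609 666 = true := by decide +kernel

theorem pS4_c33 : rangeAll chk4 21275 666 = true := by decide +kernel

theorem pS4_c34 : rangeAll chk4 21941 696 = true := by decide +kernel

theorem pS4_c35 : rangeAll chk4 22637 656 = true := by decide +kernel

theorem pS4_c36 : rangeAll chk4 23293 672 = true := by decide +kernel

theorem pS4_c37 : rangeAll chk4 23965 675 = true := by decide +kernel

theorem pS4_c38 : rangeAll chk4 24640 678 = true := by decide +kernel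

theorem pS4_c39 : rangeAll chk4 25318 677 = true := by decide +kernel

end Cfsg.Agent.Lib.Helper27.Co1O
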