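import Cfsg.Agent.Lib.Helper27.Co1O.Defs

/-! # S2069: sliced kernel computations (path certificate of the strong generator 4) -/

set_option autoImplicit false
set_option maxRecDepth 100000
set_option Elab.async false

namespace Cfsg.Agent.Lib.Helper27.Co1O

open Cfsg.Agent.Lib.Helper28.BSGS Cfsg.Agent.Lib.Helper22.SuzOut Cfsg.Agent.Lib.Helper27.TreeSift Cfsg.Agent.Lib.Helper27.Big

theorem pS4_c40 : rangeAll chk4 25995 688 = true := by decide +kernel

theorem pS4_c41 : rangeAll chk4 26683 702 = true := by decide +kernel

theorem pS4_c42 : rangeAll chk4 27385 699 = true := by decide +kernel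

theorem pS4_c43 : rangeAll chk4 28084 665 = true := by decide +kernel

theorem pS4_c44 : rangeAll chk4 28749 676 = true := by decide +kernel

theorem pS4_c45 : rangeAll chk4 29425 702 = true := by decide +kernel

theorem pS4_c46 : rangeAll chk4 30127 698 = true := by decide +kernel

theorem pS4_c47 : rangeAll chk4 30825 685 = true := by decide +kernel

theorem pS4_c48 : rangeAll chk4 31510 705 = true := by decide +kernel

theorem pS4_c49 : rangeAll chk4 32215 708 = true := by decide +kernel

theorem pS4_c50 : rangeAll chk4 32923 739 = true := by decide +kernel

theorem pS4_c51 : rangeAll chk4 33662 759 = true := by decide +kernel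

theorem pS4_c52 : rangeAll chk4 34421 748 = true := by decide +kernel

theorem pS4_c53 : rangeAll chk4 35169 711 = true := by decide +kernel

theorem pS4_c54 : rangeAll chk4 35880 704 = true := by decide +kernel

theorem pS4_c55 : rangeAll chk4 36584 701 = true := by decide +kernel

theorem pS4_c56 : rangeAll chk4 37285 712 = true := by decide +kernel

theorem pS4_c57 : rangeAll chk4 37997 719 = true := by decide +kernel

theorem pS4_c58 : rangeAll chk4 38716 750 = true := by decide +kernel

theorem pS4_c59 : rangeAll chk4 39466 730 = true := by decide +kernel

theorem pS4_c60 : rangeAll chk4 40196 741 = true := by decide +kernel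

theorem pS4_c61 : rangeAll chk4 40937 748 = true := by decide +kernel

theorem pS4_c62 : rangeAll chk4 41685 758 = true := by decide +kernel

theorem pS4_c63 : rangeAll chk4 42443 779 = true := by decide +kernel

theorem pS4_c64 : rangeAll chk4 43222 745 = true := by decide +kernel

theorem pS4_c65 : rangeAll chk4 43967 762 = true := by decide +kernel

theorem pS4_c66 : rangeAll chk4 44729 777 = true := by decide +kernel

theorem pS4_c67 : rangeAll chk4 45506 782 = true := by decide +kernel

theorem pS4_c68 : rangeAll chk4 46288 743 = true := by decide +kernel

theorem pS4_c69 : rangeAll chk4 47031 752 = true := by decide +kernel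

theorem pS4_c70 : rangeAll chk4 47783 749 = true := by decide +kernel

theorem pS4_c71 : rangeAll chk4 48532 744 = true := by decide +kernel

theorem pS4_c72 : rangeAll chk4 49276 754 = true := by decide +kernel

theorem pS4_c73 : rangeAll chk4 50030 757 = true := by decide +kernel

theorem pS4_c74 : rangeAll chk4 50787 757 = true := by decide +kernel

theorem pS4_c75 : rangeAll chk4 51544 755 = true := by decide +kernel

theorem pS4_c76 : rangeAll chk4 52299 748 = true := by decide +kernel

theorem pS4_c77 : rangeAll chk4 53047 763 = true := by decide +kernel

theorem pS4_c78 : rangeAll chk4 53810 766 = true := by decide +kernel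

theorem pS4_c79 : rangeAll chk4 54576 768 = true := by decide +kernel

end Cfsg.Agent.Lib.Helper27.Co1O
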