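import Cfsg.Agent.Lib.Helper27.Co1O.Defs

/-! # S2069: sliced kernel computations (path certificate of the strong generator 4) -/

set_option autoImplicit false
set_option maxRecDepth 100000
set_option Elab.async false

namespace Cfsg.Agent.Lib.Helper27.Co1O

open Cfsg.Agent.Lib.Helper28.BSGS Cfsg.Agent.Lib.Helper22.SuzOut Cfsg.Agent.Lib.Helper27.TreeSift Cfsg.Agent.Lib.Helper27.Big

theorem pS4_c80 : rangeAll chk4 55344 777 = true := by decide +kernel

theorem pS4_c81 : rangeAll chk4 56121 789 = true := by decide +kernel

theorem pS4_c82 : rangeAll chk4 56910 790 = true := by decide +kernel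

theorem pS4_c83 : rangeAll chk4 57700 754 = true := by decide +kernel

theorem pS4_c84 : rangeAll chk4 58454 744 = true := by decide +kernel

theorem pS4_c85 : rangeAll chk4 59198 779 = true := by decide +kernel

theorem pS4_c86 : rangeAll chk4 59977 770 = true := by decide +kernel

theorem pS4_c87 : rangeAll chk4 60747 778 = true := by decide +kernel

theorem pS4_c88 : rangeAll chk4 61525 773 = true := by decide +kernel

theorem pS4_c89 : rangeAll chk4 62298 777 = true := by decide +kernel

theorem pS4_c90 : rangeAll chk4 63075 799 = true := by decide +kernel

theorem pS4_c91 : rangeAll chk4 63874 814 = true := by decide +kernel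

theorem pS4_c92 : rangeAll chk4 64688 801 = true := by decide +kernel

theorem pS4_c93 : rangeAll chk4 65489 811 = true := by decide +kernel

theorem pS4_c94 : rangeAll chk4 66300 900 = true := by decide +kernel

theorem pS4_c95 : rangeAll chk4 67200 878 = true := by decide +kernel

theorem pS4_c96 : rangeAll chk4 68078 833 = true := by decide +kernel

theorem pS4_c97 : rangeAll chk4 68911 843 = true := by decide +kernel

theorem pS4_c98 : rangeAll chk4 69754 826 = true := by decide +kernel

theorem pS4_c99 : rangeAll chk4 70580 808 = true := by decide +kernel

theorem pS4_c100 : rangeAll chk4 71388 857 = true := by decide +kernel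

theorem pS4_c101 : rangeAll chk4 72245 870 = true := by decide +kernel

theorem pS4_c102 : rangeAll chk4 73115 802 = true := by decide +kernel

theorem pS4_c103 : rangeAll chk4 73917 792 = true := by decide +kernel

theorem pS4_c104 : rangeAll chk4 74709 820 = true := by decide +kernel

theorem pS4_c105 : rangeAll chk4 75529 789 = true := by decide +kernel

theorem pS4_c106 : rangeAll chk4 76318 770 = true := by decide +kernel

theorem pS4_c107 : rangeAll chk4 77088 861 = true := by decide +kernel

theorem pS4_c108 : rangeAll chk4 77949 897 = true := by decide +kernel

theorem pS4_c109 : rangeAll chk4 78846 866 = true := by decide +kernel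

theorem pS4_c110 : rangeAll chk4 79712 878 = true := by decide +kernel

theorem pS4_c111 : rangeAll chk4 80590 872 = true := by decide +kernel

theorem pS4_c112 : rangeAll chk4 81462 877 = true := by decide +kernel

theorem pS4_c113 : rangeAll chk4 82339 889 = true := by decide +kernel

theorem pS4_c114 : rangeAll chk4 83228 906 = true := by decide +kernel

theorem pS4_c115 : rangeAll chk4 84134 850 = true := by decide +kernel

theorem pS4_c116 : rangeAll chk4 84984 848 = true := by decide +kernel

theorem pS4_c117 : rangeAll chk4 85832 873 = true := by decide +kernel

theorem pS4_c118 : rangeAll chk4 86705 859 = true := by decide +kernel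

theorem pS4_c119 : rangeAll chk4 87564 858 = true := by decide +kernel

end Cfsg.Agent.Lib.Helper27.Co1O
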