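import Cfsg.Agent.Lib.Helper27.Co1O.Defs

/-! # S2069: sliced kernel computations (path certificate of the strong generator 4) -/

set_option autoImplicit false
set_option maxRecDepth 100000
set_option Elab.async false

namespace Cfsg.Agent.Lib.Helper27.Co1O

open Cfsg.Agent.Lib.Helper28.BSGS Cfsg.Agent.Lib.Helper22.SuzOut Cfsg.Agent.Lib.Helper27.TreeSift Cfsg.Agent.Lib.Helper27.Big

theorem pS4_c120 : rangeAll chk4 88422 878 = true := by decide +kernel

theorem pS4_c121 : rangeAll chk4 89300 856 = true := by decide +kernel

theorem pS4_c122 : rangeAll chk4 90156 898 = true := by decide +kernel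

theorem pS4_c123 : rangeAll chk4 91054 936 = true := by decide +kernel

theorem pS4_c124 : rangeAll chk4 91990 893 = true := by decide +kernel

theorem pS4_c125 : rangeAll chk4 92883 889 = true := by decide +kernel

theorem pS4_c126 : rangeAll chk4 93772 869 = true := by decide +kernel

theorem pS4_c127 : rangeAll chk4 94641 869 = true := by decide +kernel

theorem pS4_c128 : rangeAll chk4 95510 869 = true := by decide +kernel

theorem pS4_c129 : rangeAll chk4 96379 900 = true := by decide +kernel

theorem pS4_c130 : rangeAll chk4 97279 889 = true := by decide +kernel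

theorem pS4_c131 : rangeAll chk4 98168 112 = true := by decide +kernel

end Cfsg.Agent.Lib.Helper27.Co1O
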