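import Cfsg.Agent.Lib.Helper27.Co1O.Defs

/-! # S2069: sliced kernel computations (path certificate of the strong generator 5) -/

set_option autoImplicit false
set_option maxRecDepth 100000
set_option Elab.async false

namespace Cfsg.Agent.Lib.Helper27.Co1O

open Cfsg.Agent.Lib.Helper28.BSGS Cfsg.Agent.Lib.Helper22.SuzOut Cfsg.Agent.Lib.Helper27.TreeSift Cfsg.Agent.Lib.Helper27.Big

theorem pS5_c0 : rangeAll chk5 0 696 = true := by decide +kernel

theorem pS5_c1 : rangeAll chk5 696 704 = true := by decide +kernel

theorem pS5_c2 : rangeAll chk5 1400 697 = true := by decide +kernel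

theorem pS5_c3 : rangeAll chk5 2097 685 = true := by decide +kernel

theorem pS5_c4 : rangeAll chk5 2782 708 = true := by decide +kernel

theorem pS5_c5 : rangeAll chk5 3490 689 = true := by decide +kernel

theorem pS5_c6 : rangeAll chk5 4179 684 = true := by decide +kernel

theorem pS5_c7 : rangeAll chk5 4863 695 = true := by decide +kernel

theorem pS5_c8 : rangeAll chk5 5558 723 = true := by decide +kernel

theorem pS5_c9 : rangeAll chk5 6281 696 = true := by decide +kernel

theorem pS5_c10 : rangeAll chk5 6977 704 = true := by decide +kernel

theorem pS5_c11 : rangeAll chk5 7681 702 = true := by decide +kernel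

theorem pS5_c12 : rangeAll chk5 8383 710 = true := by decide +kernel

theorem pS5_c13 : rangeAll chk5 9093 706 = true := by decide +kernel

theorem pS5_c14 : rangeAll chk5 9799 663 = true := by decide +kernel

theorem pS5_c15 : rangeAll chk5 10462 653 = true := by decide +kernel

theorem pS5_c16 : rangeAll chk5 11115 710 = true := by decide +kernel

theorem pS5_c17 : rangeAll chk5 11825 760 = true := by decide +kernel

theorem pS5_c18 : rangeAll chk5 12585 646 = true := by decide +kernel

theorem pS5_c19 : rangeAll chk5 13231 668 = true := by decide +kernel

theorem pS5_c20 : rangeAll chk5 13899 737 = true := by decide +kernel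

theorem pS5_c21 : rangeAll chk5 14636 753 = true := by decide +kernel

theorem pS5_c22 : rangeAll chk5 15389 687 = true := by decide +kernel

theorem pS5_c23 : rangeAll chk5 16076 706 = true := by decide +kernel

theorem pS5_c24 : rangeAll chk5 16782 776 = true := by decide +kernel

theorem pS5_c25 : rangeAll chk5 17558 743 = true := by decide +kernel

theorem pS5_c26 : rangeAll chk5 18301 692 = true := by decide +kernel

theorem pS5_c27 : rangeAll chk5 18993 746 = true := by decide +kernel

theorem pS5_c28 : rangeAll chk5 19739 803 = true := by decide +kernel

theorem pS5_c29 : rangeAll chk5 20542 721 = true := by decide +kernel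

theorem pS5_c30 : rangeAll chk5 21263 673 = true := by decide +kernel

theorem pS5_c31 : rangeAll chk5 21936 689 = true := by decide +kernel

theorem pS5_c32 : rangeAll chk5 22625 762 = true := by decide +kernel

theorem pS5_c33 : rangeAll chk5 23387 742 = true := by decide +kernel

theorem pS5_c34 : rangeAll chk5 24129 666 = true := by decide +kernel

theorem pS5_c35 : rangeAll chk5 24795 722 = true := by decide +kernel

theorem pS5_c36 : rangeAll chk5 25517 775 = true := by decide +kernel

theorem pS5_c37 : rangeAll chk5 26292 742 = true := by decide +kernel

theorem pS5_c38 : rangeAll chk5 27034 717 = true := by decide +kernel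

theorem pS5_c39 : rangeAll chk5 27751 779 = true := by decide +kernel

end Cfsg.Agent.Lib.Helper27.Co1O
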