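import Cfsg.Agent.Lib.Helper27.Co1O.Defs

/-! # S2069: sliced kernel computations (path certificate of the strong generator 5) -/

set_option autoImplicit false
set_option maxRecDepth 100000
set_option Elab.async false

namespace Cfsg.Agent.Lib.Helper27.Co1O

open Cfsg.Agent.Lib.Helper28.BSGS Cfsg.Agent.Lib.Helper22.SuzOut Cfsg.Agent.Lib.Helper27.TreeSift Cfsg.Agent.Lib.Helper27.Big

theorem pS5_c40 : rangeAll chk5 28530 807 = true := by decide +kernel

theorem pS5_c41 : rangeAll chk5 29337 711 = true := by decide +kernel

theorem pS5_c42 : rangeAll chk5 30048 753 = true := by decide +kernel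

theorem pS5_c43 : rangeAll chk5 30801 818 = true := by decide +kernel

theorem pS5_c44 : rangeAll chk5 31619 777 = true := by decide +kernel

theorem pS5_c45 : rangeAll chk5 32396 766 = true := by decide +kernel

theorem pS5_c46 : rangeAll chk5 33162 764 = true := by decide +kernel

theorem pS5_c47 : rangeAll chk5 33926 762 = true := by decide +kernel

theorem pS5_c48 : rangeAll chk5 34688 763 = true := by decide +kernel

theorem pS5_c49 : rangeAll chk5 35451 773 = true := by decide +kernel

theorem pS5_c50 : rangeAll chk5 36224 780 = true := by decide +kernel

theorem pS5_c51 : rangeAll chk5 37004 771 = true := by decide +kernel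

theorem pS5_c52 : rangeAll chk5 37775 768 = true := by decide +kernel

theorem pS5_c53 : rangeAll chk5 38543 767 = true := by decide +kernel

theorem pS5_c54 : rangeAll chk5 39310 752 = true := by decide +kernel

theorem pS5_c55 : rangeAll chk5 40062 749 = true := by decide +kernel

theorem pS5_c56 : rangeAll chk5 40811 809 = true := by decide +kernel

theorem pS5_c57 : rangeAll chk5 41620 773 = true := by decide +kernel

theorem pS5_c58 : rangeAll chk5 42393 799 = true := by decide +kernel

theorem pS5_c59 : rangeAll chk5 43192 799 = true := by decide +kernel

theorem pS5_c60 : rangeAll chk5 43991 836 = true := by decide +kernel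

theorem pS5_c61 : rangeAll chk5 44827 779 = true := by decide +kernel

theorem pS5_c62 : rangeAll chk5 45606 758 = true := by decide +kernel

theorem pS5_c63 : rangeAll chk5 46364 792 = true := by decide +kernel

theorem pS5_c64 : rangeAll chk5 47156 799 = true := by decide +kernel

theorem pS5_c65 : rangeAll chk5 47955 812 = true := by decide +kernel

theorem pS5_c66 : rangeAll chk5 48767 800 = true := by decide +kernel

theorem pS5_c67 : rangeAll chk5 49567 811 = true := by decide +kernel

theorem pS5_c68 : rangeAll chk5 50378 821 = true := by decide +kernel

theorem pS5_c69 : rangeAll chk5 51199 841 = true := by decide +kernel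

theorem pS5_c70 : rangeAll chk5 52040 864 = true := by decide +kernel

theorem pS5_c71 : rangeAll chk5 52904 853 = true := by decide +kernel

theorem pS5_c72 : rangeAll chk5 53757 800 = true := by decide +kernel

theorem pS5_c73 : rangeAll chk5 54557 823 = true := by decide +kernel

theorem pS5_c74 : rangeAll chk5 55380 869 = true := by decide +kernel

theorem pS5_c75 : rangeAll chk5 56249 841 = true := by decide +kernel

theorem pS5_c76 : rangeAll chk5 57090 843 = true := by decide +kernel

theorem pS5_c77 : rangeAll chk5 57933 860 = true := by decide +kernel

theorem pS5_c78 : rangeAll chk5 58793 862 = true := by decide +kernel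

theorem pS5_c79 : rangeAll chk5 59655 826 = true := by decide +kernel

end Cfsg.Agent.Lib.Helper27.Co1O
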