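import Cfsg.Agent.Lib.Helper27.Co1O.Defs

/-! # S2069: sliced kernel computations (path certificate of the strong generator 5) -/

set_option autoImplicit false
set_option maxRecDepth 100000
set_option Elab.async false

namespace Cfsg.Agent.Lib.Helper27.Co1O

open Cfsg.Agent.Lib.Helper28.BSGS Cfsg.Agent.Lib.Helper22.SuzOut Cfsg.Agent.Lib.Helper27.TreeSift Cfsg.Agent.Lib.Helper27.Big

theorem pS5_c80 : rangeAll chk5 60481 857 = true := by decide +kernel

theorem pS5_c81 : rangeAll chk5 61338 832 = true := by decide +kernel

theorem pS5_c82 : rangeAll chk5 62170 864 = true := by decide +kernel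

theorem pS5_c83 : rangeAll chk5 63034 885 = true := by decide +kernel

theorem pS5_c84 : rangeAll chk5 63919 869 = true := by decide +kernel

theorem pS5_c85 : rangeAll chk5 64788 883 = true := by decide +kernel

theorem pS5_c86 : rangeAll chk5 65671 847 = true := by decide +kernel

theorem pS5_c87 : rangeAll chk5 66518 808 = true := by decide +kernel

theorem pS5_c88 : rangeAll chk5 67326 853 = true := by decide +kernel

theorem pS5_c89 : rangeAll chk5 68179 915 = true := by decide +kernel

theorem pS5_c90 : rangeAll chk5 69094 816 = true := by decide +kernel

theorem pS5_c91 : rangeAll chk5 69910 867 = true := by decide +kernel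

theorem pS5_c92 : rangeAll chk5 70777 956 = true := by decide +kernel

theorem pS5_c93 : rangeAll chk5 71733 884 = true := by decide +kernel

theorem pS5_c94 : rangeAll chk5 72617 914 = true := by decide +kernel

theorem pS5_c95 : rangeAll chk5 73531 983 = true := by decide +kernel

theorem pS5_c96 : rangeAll chk5 74514 897 = true := by decide +kernel

theorem pS5_c97 : rangeAll chk5 75411 968 = true := by decide +kernel

theorem pS5_c98 : rangeAll chk5 76379 1011 = true := by decide +kernel

theorem pS5_c99 : rangeAll chk5 77390 851 = true := by decide +kernel

theorem pS5_c100 : rangeAll chk5 78241 855 = true := by decide +kernel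

theorem pS5_c101 : rangeAll chk5 79096 959 = true := by decide +kernel

theorem pS5_c102 : rangeAll chk5 80055 877 = true := by decide +kernel

theorem pS5_c103 : rangeAll chk5 80932 887 = true := by decide +kernel

theorem pS5_c104 : rangeAll chk5 81819 982 = true := by decide +kernel

theorem pS5_c105 : rangeAll chk5 82801 943 = true := by decide +kernel

theorem pS5_c106 : rangeAll chk5 83744 978 = true := by decide +kernel

theorem pS5_c107 : rangeAll chk5 84722 1046 = true := by decide +kernel

theorem pS5_c108 : rangeAll chk5 85768 938 = true := by decide +kernel

theorem pS5_c109 : rangeAll chk5 86706 1026 = true := by decide +kernel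

theorem pS5_c110 : rangeAll chk5 87732 1061 = true := by decide +kernel

theorem pS5_c111 : rangeAll chk5 88793 994 = true := by decide +kernel

theorem pS5_c112 : rangeAll chk5 89787 981 = true := by decide +kernel

theorem pS5_c113 : rangeAll chk5 90768 988 = true := by decide +kernel

theorem pS5_c114 : rangeAll chk5 91756 1016 = true := by decide +kernel

theorem pS5_c115 : rangeAll chk5 92772 1015 = true := by decide +kernel

theorem pS5_c116 : rangeAll chk5 93787 1047 = true := by decide +kernel

theorem pS5_c117 : rangeAll chk5 94834 1062 = true := by decide +kernel

theorem pS5_c118 : rangeAll chk5 95896 1054 = true := by decide +kernel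

theorem pS5_c119 : rangeAll chk5 96950 1102 = true := by decide +kernel

end Cfsg.Agent.Lib.Helper27.Co1O
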