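import Cfsg.Agent.Lib.Helper27.Co1O.Defs

/-! # S2069: sliced kernel computations (path certificate of the strong generator 6) -/

set_option autoImplicit false
set_option maxRecDepth 100000
set_option Elab.async false

namespace Cfsg.Agent.Lib.Helper27.Co1O

open Cfsg.Agent.Lib.Helper28.BSGS Cfsg.Agent.Lib.Helper22.SuzOut Cfsg.Agent.Lib.Helper27.TreeSift Cfsg.Agent.Lib.Helper27.Big

theorem pS6_c0 : rangeAll chk6 0 673 = true := by decide +kernel

theorem pS6_c1 : rangeAll chk6 673 676 = true := by decide +kernel

theorem pS6_c2 : rangeAll chk6 1349 676 = true := by decide +kernel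

theorem pS6_c3 : rangeAll chk6 2025 679 = true := by decide +kernel

theorem pS6_c4 : rangeAll chk6 2704 685 = true := by decide +kernel

theorem pS6_c5 : rangeAll chk6 3389 683 = true := by decide +kernel

theorem pS6_c6 : rangeAll chk6 4072 683 = true := by decide +kernel

theorem pS6_c7 : rangeAll chk6 4755 693 = true := by decide +kernel

theorem pS6_c8 : rangeAll chk6 5448 703 = true := by decide +kernel

theorem pS6_c9 : rangeAll chk6 6151 684 = true := by decide +kernel

theorem pS6_c10 : rangeAll chk6 6835 713 = true := by decide +kernel

theorem pS6_c11 : rangeAll chk6 7548 707 = true := by decide +kernel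

theorem pS6_c12 : rangeAll chk6 8255 697 = true := by decide +kernel

theorem pS6_c13 : rangeAll chk6 8952 711 = true := by decide +kernel

theorem pS6_c14 : rangeAll chk6 9663 700 = true := by decide +kernel

theorem pS6_c15 : rangeAll chk6 10363 706 = true := by decide +kernel

theorem pS6_c16 : rangeAll chk6 11069 720 = true := by decide +kernel

theorem pS6_c17 : rangeAll chk6 11789 729 = true := by decide +kernel

theorem pS6_c18 : rangeAll chk6 12518 681 = true := by decide +kernel

theorem pS6_c19 : rangeAll chk6 13199 700 = true := by decide +kernel

theorem pS6_c20 : rangeAll chk6 13899 710 = true := by decide +kernel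

theorem pS6_c21 : rangeAll chk6 14609 729 = true := by decide +kernel

theorem pS6_c22 : rangeAll chk6 15338 727 = true := by decide +kernel

theorem pS6_c23 : rangeAll chk6 16065 718 = true := by decide +kernel

theorem pS6_c24 : rangeAll chk6 16783 736 = true := by decide +kernel

theorem pS6_c25 : rangeAll chk6 17519 725 = true := by decide +kernel

theorem pS6_c26 : rangeAll chk6 18244 713 = true := by decide +kernel

theorem pS6_c27 : rangeAll chk6 18957 738 = true := by decide +kernel

theorem pS6_c28 : rangeAll chk6 19695 748 = true := by decide +kernel

theorem pS6_c29 : rangeAll chk6 20443 740 = true := by decide +kernel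

theorem pS6_c30 : rangeAll chk6 21183 732 = true := by decide +kernel

theorem pS6_c31 : rangeAll chk6 21915 745 = true := by decide +kernel

theorem pS6_c32 : rangeAll chk6 22660 757 = true := by decide +kernel

theorem pS6_c33 : rangeAll chk6 23417 732 = true := by decide +kernel

theorem pS6_c34 : rangeAll chk6 24149 702 = true := by decide +kernel

theorem pS6_c35 : rangeAll chk6 24851 723 = true := by decide +kernel

theorem pS6_c36 : rangeAll chk6 25574 751 = true := by decide +kernel

theorem pS6_c37 : rangeAll chk6 26325 761 = true := by decide +kernel

theorem pS6_c38 : rangeAll chk6 27086 745 = true := by decide +kernel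

theorem pS6_c39 : rangeAll chk6 27831 784 = true := by decide +kernel

end Cfsg.Agent.Lib.Helper27.Co1O
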