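import Cfsg.Agent.Lib.Helper27.Co1O.Defs

/-! # S2069: sliced kernel computations (path certificate of the strong generator 6) -/

set_option autoImplicit false
set_option maxRecDepth 100000
set_option Elab.async false

namespace Cfsg.Agent.Lib.Helper27.Co1O

open Cfsg.Agent.Lib.Helper28.BSGS Cfsg.Agent.Lib.Helper22.SuzOut Cfsg.Agent.Lib.Helper27.TreeSift Cfsg.Agent.Lib.Helper27.Big

theorem pS6_c80 : rangeAll chk6 60805 886 = true := by decide +kernel

theorem pS6_c81 : rangeAll chk6 61691 878 = true := by decide +kernel

theorem pS6_c82 : rangeAll chk6 62569 863 = true := by decide +kernel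

theorem pS6_c83 : rangeAll chk6 63432 858 = true := by decide +kernel

theorem pS6_c84 : rangeAll chk6 64290 891 = true := by decide +kernel

theorem pS6_c85 : rangeAll chk6 65181 870 = true := by decide +kernel

theorem pS6_c86 : rangeAll chk6 66051 901 = true := by decide +kernel

theorem pS6_c87 : rangeAll chk6 66952 901 = true := by decide +kernel

theorem pS6_c88 : rangeAll chk6 67853 894 = true := by decide +kernel

theorem pS6_c89 : rangeAll chk6 68747 885 = true := by decide +kernel

theorem pS6_c90 : rangeAll chk6 69632 894 = true := by decide +kernel

theorem pS6_c91 : rangeAll chk6 70526 894 = true := by decide +kernel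

theorem pS6_c92 : rangeAll chk6 71420 912 = true := by decide +kernel

theorem pS6_c93 : rangeAll chk6 72332 906 = true := by decide +kernel

theorem pS6_c94 : rangeAll chk6 73238 899 = true := by decide +kernel

theorem pS6_c95 : rangeAll chk6 74137 903 = true := by decide +kernel

theorem pS6_c96 : rangeAll chk6 75040 892 = true := by decide +kernel

theorem pS6_c97 : rangeAll chk6 75932 925 = true := by decide +kernel

theorem pS6_c98 : rangeAll chk6 76857 930 = true := by decide +kernel

theorem pS6_c99 : rangeAll chk6 77787 949 = true := by decide +kernel

theorem pS6_c100 : rangeAll chk6 78736 952 = true := by decide +kernel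

theorem pS6_c101 : rangeAll chk6 79688 932 = true := by decide +kernel

theorem pS6_c102 : rangeAll chk6 80620 893 = true := by decide +kernel

theorem pS6_c103 : rangeAll chk6 81513 944 = true := by decide +kernel

theorem pS6_c104 : rangeAll chk6 82457 956 = true := by decide +kernel

theorem pS6_c105 : rangeAll chk6 83413 953 = true := by decide +kernel

theorem pS6_c106 : rangeAll chk6 84366 991 = true := by decide +kernel

theorem pS6_c107 : rangeAll chk6 85357 935 = true := by decide +kernel

theorem pS6_c108 : rangeAll chk6 86292 943 = true := by decide +kernel

theorem pS6_c109 : rangeAll chk6 87235 961 = true := by decide +kernel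

theorem pS6_c110 : rangeAll chk6 88196 971 = true := by decide +kernel

theorem pS6_c111 : rangeAll chk6 89167 960 = true := by decide +kernel

theorem pS6_c112 : rangeAll chk6 90127 983 = true := by decide +kernel

theorem pS6_c113 : rangeAll chk6 91110 983 = true := by decide +kernel

theorem pS6_c114 : rangeAll chk6 92093 994 = true := by decide +kernel

theorem pS6_c115 : rangeAll chk6 93087 994 = true := by decide +kernel

theorem pS6_c116 : rangeAll chk6 94081 967 = true := by decide +kernel

theorem pS6_c117 : rangeAll chk6 95048 997 = true := by decide +kernel

theorem pS6_c118 : rangeAll chk6 96045 1011 = true := by decide +kernel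

theorem pS6_c119 : rangeAll chk6 97056 1025 = true := by decide +kernel

end Cfsg.Agent.Lib.Helper27.Co1O
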