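import Cfsg.Agent.Lib.Helper27.Co1O.Defs

/-! # S2069: sliced kernel computations (path certificate of the strong generator 7) -/

set_option autoImplicit false
set_option maxRecDepth 100000
set_option Elab.async false

namespace Cfsg.Agent.Lib.Helper27.Co1O

open Cfsg.Agent.Lib.Helper28.BSGS Cfsg.Agent.Lib.Helper22.SuzOut Cfsg.Agent.Lib.Helper27.TreeSift Cfsg.Agent.Lib.Helper27.Big

theorem pS7_c0 : rangeAll chk7 0 617 = true := by decide +kernel

theorem pS7_c1 : rangeAll chk7 617 624 = true := by decide +kernel

theorem pS7_c2 : rangeAll chk7 1241 645 = true := by decide +kernel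

theorem pS7_c3 : rangeAll chk7 1886 646 = true := by decide +kernel

theorem pS7_c4 : rangeAll chk7 2532 641 = true := by decide +kernel

theorem pS7_c5 : rangeAll chk7 3173 648 = true := by decide +kernel

theorem pS7_c6 : rangeAll chk7 3821 610 = true := by decide +kernel

theorem pS7_c7 : rangeAll chk7 4431 632 = true := by decide +kernel

theorem pS7_c8 : rangeAll chk7 5063 646 = true := by decide +kernel

theorem pS7_c9 : rangeAll chk7 5709 664 = true := by decide +kernel

theorem pS7_c10 : rangeAll chk7 6373 621 = true := by decide +kernel

theorem pS7_c11 : rangeAll chk7 6994 652 = true := by decide +kernel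

theorem pS7_c12 : rangeAll chk7 7646 657 = true := by decide +kernel

theorem pS7_c13 : rangeAll chk7 8303 653 = true := by decide +kernel

theorem pS7_c14 : rangeAll chk7 8956 675 = true := by decide +kernel

theorem pS7_c15 : rangeAll chk7 9631 643 = true := by decide +kernel

theorem pS7_c16 : rangeAll chk7 10274 659 = true := by decide +kernel

theorem pS7_c17 : rangeAll chk7 10933 655 = true := by decide +kernel

theorem pS7_c18 : rangeAll chk7 11588 675 = true := by decide +kernel

theorem pS7_c19 : rangeAll chk7 12263 650 = true := by decide +kernel

theorem pS7_c20 : rangeAll chk7 12913 637 = true := by decide +kernel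

theorem pS7_c21 : rangeAll chk7 13550 638 = true := by decide +kernel

theorem pS7_c22 : rangeAll chk7 14188 655 = true := by decide +kernel

theorem pS7_c23 : rangeAll chk7 14843 674 = true := by decide +kernel

theorem pS7_c24 : rangeAll chk7 15517 672 = true := by decide +kernel

theorem pS7_c25 : rangeAll chk7 16189 678 = true := by decide +kernel

theorem pS7_c26 : rangeAll chk7 16867 707 = true := by decide +kernel

theorem pS7_c27 : rangeAll chk7 17574 667 = true := by decide +kernel

theorem pS7_c28 : rangeAll chk7 18241 652 = true := by decide +kernel

theorem pS7_c29 : rangeAll chk7 18893 655 = true := by decide +kernel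

theorem pS7_c30 : rangeAll chk7 19548 679 = true := by decide +kernel

theorem pS7_c31 : rangeAll chk7 20227 693 = true := by decide +kernel

theorem pS7_c32 : rangeAll chk7 20920 664 = true := by decide +kernel

theorem pS7_c33 : rangeAll chk7 21584 687 = true := by decide +kernel

theorem pS7_c34 : rangeAll chk7 22271 674 = true := by decide +kernel

theorem pS7_c35 : rangeAll chk7 22945 694 = true := by decide +kernel

theorem pS7_c36 : rangeAll chk7 23639 660 = true := by decide +kernel

theorem pS7_c37 : rangeAll chk7 24299 676 = true := by decide +kernel

theorem pS7_c38 : rangeAll chk7 24975 658 = true := by decide +kernel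

theorem pS7_c39 : rangeAll chk7 25633 700 = true := by decide +kernel

end Cfsg.Agent.Lib.Helper27.Co1O
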