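import Cfsg.Agent.Lib.Helper27.Co1O.Defs

/-! # S2069: sliced kernel computations (path certificate of the strong generator 7) -/

set_option autoImplicit false
set_option maxRecDepth 100000
set_option Elab.async false

namespace Cfsg.Agent.Lib.Helper27.Co1O

open Cfsg.Agent.Lib.Helper28.BSGS Cfsg.Agent.Lib.Helper22.SuzOut Cfsg.Agent.Lib.Helper27.TreeSift Cfsg.Agent.Lib.Helper27.Big

theorem pS7_c40 : rangeAll chk7 26333 681 = true := by decide +kernel

theorem pS7_c41 : rangeAll chk7 27014 699 = true := by decide +kernel

theorem pS7_c42 : rangeAll chk7 27713 695 = true := by decide +kernel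

theorem pS7_c43 : rangeAll chk7 28408 723 = true := by decide +kernel

theorem pS7_c44 : rangeAll chk7 29131 656 = true := by decide +kernel

theorem pS7_c45 : rangeAll chk7 29787 680 = true := by decide +kernel

theorem pS7_c46 : rangeAll chk7 30467 675 = true := by decide +kernel

theorem pS7_c47 : rangeAll chk7 31142 704 = true := by decide +kernel

theorem pS7_c48 : rangeAll chk7 31846 719 = true := by decide +kernel

theorem pS7_c49 : rangeAll chk7 32565 713 = true := by decide +kernel

theorem pS7_c50 : rangeAll chk7 33278 733 = true := by decide +kernel

theorem pS7_c51 : rangeAll chk7 34011 718 = true := by decide +kernel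

theorem pS7_c52 : rangeAll chk7 34729 737 = true := by decide +kernel

theorem pS7_c53 : rangeAll chk7 35466 742 = true := by decide +kernel

theorem pS7_c54 : rangeAll chk7 36208 749 = true := by decide +kernel

theorem pS7_c55 : rangeAll chk7 36957 735 = true := by decide +kernel

theorem pS7_c56 : rangeAll chk7 37692 763 = true := by decide +kernel

theorem pS7_c57 : rangeAll chk7 38455 704 = true := by decide +kernel

theorem pS7_c58 : rangeAll chk7 39159 706 = true := by decide +kernel

theorem pS7_c59 : rangeAll chk7 39865 707 = true := by decide +kernel

theorem pS7_c60 : rangeAll chk7 40572 736 = true := by decide +kernel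

theorem pS7_c61 : rangeAll chk7 41308 716 = true := by decide +kernel

theorem pS7_c62 : rangeAll chk7 42024 732 = true := by decide +kernel

theorem pS7_c63 : rangeAll chk7 42756 730 = true := by decide +kernel

theorem pS7_c64 : rangeAll chk7 43486 740 = true := by decide +kernel

theorem pS7_c65 : rangeAll chk7 44226 723 = true := by decide +kernel

theorem pS7_c66 : rangeAll chk7 44949 721 = true := by decide +kernel

theorem pS7_c67 : rangeAll chk7 45670 725 = true := by decide +kernel

theorem pS7_c68 : rangeAll chk7 46395 706 = true := by decide +kernel

theorem pS7_c69 : rangeAll chk7 47101 750 = true := by decide +kernel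

theorem pS7_c70 : rangeAll chk7 47851 728 = true := by decide +kernel

theorem pS7_c71 : rangeAll chk7 48579 734 = true := by decide +kernel

theorem pS7_c72 : rangeAll chk7 49313 764 = true := by decide +kernel

theorem pS7_c73 : rangeAll chk7 50077 750 = true := by decide +kernel

theorem pS7_c74 : rangeAll chk7 50827 780 = true := by decide +kernel

theorem pS7_c75 : rangeAll chk7 51607 748 = true := by decide +kernel

theorem pS7_c76 : rangeAll chk7 52355 782 = true := by decide +kernel

theorem pS7_c77 : rangeAll chk7 53137 748 = true := by decide +kernel

theorem pS7_c78 : rangeAll chk7 53885 723 = true := by decide +kernel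

theorem pS7_c79 : rangeAll chk7 54608 748 = true := by decide +kernel

end Cfsg.Agent.Lib.Helper27.Co1O
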