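import Cfsg.Agent.Lib.Helper27.Co1O.Defs

/-! # S2069: sliced kernel computations (path certificate of the strong generator 7) -/

set_option autoImplicit false
set_option maxRecDepth 100000
set_option Elab.async false

namespace Cfsg.Agent.Lib.Helper27.Co1O

open Cfsg.Agent.Lib.Helper28.BSGS Cfsg.Agent.Lib.Helper22.SuzOut Cfsg.Agent.Lib.Helper27.TreeSift Cfsg.Agent.Lib.Helper27.Big

theorem pS7_c80 : rangeAll chk7 55356 774 = true := by decide +kernel

theorem pS7_c81 : rangeAll chk7 56130 789 = true := by decide +kernel

theorem pS7_c82 : rangeAll chk7 56919 782 = true := by decide +kernel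

theorem pS7_c83 : rangeAll chk7 57701 786 = true := by decide +kernel

theorem pS7_c84 : rangeAll chk7 58487 807 = true := by decide +kernel

theorem pS7_c85 : rangeAll chk7 59294 773 = true := by decide +kernel

theorem pS7_c86 : rangeAll chk7 60067 797 = true := by decide +kernel

theorem pS7_c87 : rangeAll chk7 60864 776 = true := by decide +kernel

theorem pS7_c88 : rangeAll chk7 61640 779 = true := by decide +kernel

theorem pS7_c89 : rangeAll chk7 62419 790 = true := by decide +kernel

theorem pS7_c90 : rangeAll chk7 63209 811 = true := by decide +kernel

theorem pS7_c91 : rangeAll chk7 64020 791 = true := by decide +kernel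

theorem pS7_c92 : rangeAll chk7 64811 807 = true := by decide +kernel

theorem pS7_c93 : rangeAll chk7 65618 834 = true := by decide +kernel

theorem pS7_c94 : rangeAll chk7 66452 787 = true := by decide +kernel

theorem pS7_c95 : rangeAll chk7 67239 814 = true := by decide +kernel

theorem pS7_c96 : rangeAll chk7 68053 819 = true := by decide +kernel

theorem pS7_c97 : rangeAll chk7 68872 773 = true := by decide +kernel

theorem pS7_c98 : rangeAll chk7 69645 819 = true := by decide +kernel

theorem pS7_c99 : rangeAll chk7 70464 809 = true := by decide +kernel

theorem pS7_c100 : rangeAll chk7 71273 838 = true := by decide +kernel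

theorem pS7_c101 : rangeAll chk7 72111 861 = true := by decide +kernel

theorem pS7_c102 : rangeAll chk7 72972 861 = true := by decide +kernel

theorem pS7_c103 : rangeAll chk7 73833 858 = true := by decide +kernel

theorem pS7_c104 : rangeAll chk7 74691 829 = true := by decide +kernel

theorem pS7_c105 : rangeAll chk7 75520 843 = true := by decide +kernel

theorem pS7_c106 : rangeAll chk7 76363 865 = true := by decide +kernel

theorem pS7_c107 : rangeAll chk7 77228 823 = true := by decide +kernel

theorem pS7_c108 : rangeAll chk7 78051 853 = true := by decide +kernel

theorem pS7_c109 : rangeAll chk7 78904 811 = true := by decide +kernel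

theorem pS7_c110 : rangeAll chk7 79715 831 = true := by decide +kernel

theorem pS7_c111 : rangeAll chk7 80546 846 = true := by decide +kernel

theorem pS7_c112 : rangeAll chk7 81392 826 = true := by decide +kernel

theorem pS7_c113 : rangeAll chk7 82218 862 = true := by decide +kernel

theorem pS7_c114 : rangeAll chk7 83080 871 = true := by decide +kernel

theorem pS7_c115 : rangeAll chk7 83951 861 = true := by decide +kernel

theorem pS7_c116 : rangeAll chk7 84812 886 = true := by decide +kernel

theorem pS7_c117 : rangeAll chk7 85698 853 = true := by decide +kernel

theorem pS7_c118 : rangeAll chk7 86551 850 = true := by decide +kernel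

theorem pS7_c119 : rangeAll chk7 87401 885 = true := by decide +kernel

end Cfsg.Agent.Lib.Helper27.Co1O
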