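import Cfsg.Agent.Lib.Helper27.Co1O.Defs

/-! # S2069: sliced kernel computations (path certificate of the strong generator 7) -/

set_option autoImplicit false
set_option maxRecDepth 100000
set_option Elab.async false

namespace Cfsg.Agent.Lib.Helper27.Co1O

open Cfsg.Agent.Lib.Helper28.BSGS Cfsg.Agent.Lib.Helper22.SuzOut Cfsg.Agent.Lib.Helper27.TreeSift Cfsg.Agent.Lib.Helper27.Big

theorem pS7_c120 : rangeAll chk7 88286 908 = true := by decide +kernel

theorem pS7_c121 : rangeAll chk7 89194 914 = true := by decide +kernel

theorem pS7_c122 : rangeAll chk7 90108 880 = true := by decide +kernel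

theorem pS7_c123 : rangeAll chk7 90988 858 = true := by decide +kernel

theorem pS7_c124 : rangeAll chk7 91846 876 = true := by decide +kernel

theorem pS7_c125 : rangeAll chk7 92722 881 = true := by decide +kernel

theorem pS7_c126 : rangeAll chk7 93603 897 = true := by decide +kernel

theorem pS7_c127 : rangeAll chk7 94500 901 = true := by decide +kernel

theorem pS7_c128 : rangeAll chk7 95401 920 = true := by decide +kernel

theorem pS7_c129 : rangeAll chk7 96321 912 = true := by decide +kernel

theorem pS7_c130 : rangeAll chk7 97233 922 = true := by decide +kernel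

theorem pS7_c131 : rangeAll chk7 98155 125 = true := by decide +kernel

end Cfsg.Agent.Lib.Helper27.Co1O
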