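import Cfsg.Agent.Lib.Helper27.Co1O.Defs

/-! # S2069: sliced kernel computations (path certificate of the strong generator 8) -/

set_option autoImplicit false
set_option maxRecDepth 100000
set_option Elab.async false

namespace Cfsg.Agent.Lib.Helper27.Co1O

open Cfsg.Agent.Lib.Helper28.BSGS Cfsg.Agent.Lib.Helper22.SuzOut Cfsg.Agent.Lib.Helper27.TreeSift Cfsg.Agent.Lib.Helper27.Big

theorem pS8_c0 : rangeAll chk8 0 682 = true := by decide +kernel

theorem pS8_c1 : rangeAll chk8 682 688 = true := by decide +kernel

theorem pS8_c2 : rangeAll chk8 1370 680 = true := by decide +kernel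

theorem pS8_c3 : rangeAll chk8 2050 687 = true := by decide +kernel

theorem pS8_c4 : rangeAll chk8 2737 712 = true := by decide +kernel

theorem pS8_c5 : rangeAll chk8 3449 699 = true := by decide +kernel

theorem pS8_c6 : rangeAll chk8 4148 687 = true := by decide +kernel

theorem pS8_c7 : rangeAll chk8 4835 690 = true := by decide +kernel

theorem pS8_c8 : rangeAll chk8 5525 720 = true := by decide +kernel

theorem pS8_c9 : rangeAll chk8 6245 680 = true := by decide +kernel

theorem pS8_c10 : rangeAll chk8 6925 682 = true := by decide +kernel

theorem pS8_c11 : rangeAll chk8 7607 707 = true := by decide +kernel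

theorem pS8_c12 : rangeAll chk8 8314 717 = true := by decide +kernel

theorem pS8_c13 : rangeAll chk8 9031 716 = true := by decide +kernel

theorem pS8_c14 : rangeAll chk8 9747 735 = true := by decide +kernel

theorem pS8_c15 : rangeAll chk8 10482 718 = true := by decide +kernel

theorem pS8_c16 : rangeAll chk8 11200 734 = true := by decide +kernel

theorem pS8_c17 : rangeAll chk8 11934 747 = true := by decide +kernel

theorem pS8_c18 : rangeAll chk8 12681 707 = true := by decide +kernel

theorem pS8_c19 : rangeAll chk8 13388 716 = true := by decide +kernel

theorem pS8_c20 : rangeAll chk8 14104 728 = true := by decide +kernel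

theorem pS8_c21 : rangeAll chk8 14832 725 = true := by decide +kernel

theorem pS8_c22 : rangeAll chk8 15557 718 = true := by decide +kernel

theorem pS8_c23 : rangeAll chk8 16275 724 = true := by decide +kernel

theorem pS8_c24 : rangeAll chk8 16999 726 = true := by decide +kernel

theorem pS8_c25 : rangeAll chk8 17725 720 = true := by decide +kernel

theorem pS8_c26 : rangeAll chk8 18445 694 = true := by decide +kernel

theorem pS8_c27 : rangeAll chk8 19139 707 = true := by decide +kernel

theorem pS8_c28 : rangeAll chk8 19846 721 = true := by decide +kernel

theorem pS8_c29 : rangeAll chk8 20567 725 = true := by decide +kernel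

theorem pS8_c30 : rangeAll chk8 21292 743 = true := by decide +kernel

theorem pS8_c31 : rangeAll chk8 22035 753 = true := by decide +kernel

theorem pS8_c32 : rangeAll chk8 22788 762 = true := by decide +kernel

theorem pS8_c33 : rangeAll chk8 23550 752 = true := by decide +kernel

theorem pS8_c34 : rangeAll chk8 24302 754 = true := by decide +kernel

theorem pS8_c35 : rangeAll chk8 25056 751 = true := by decide +kernel

theorem pS8_c36 : rangeAll chk8 25807 771 = true := by decide +kernel

theorem pS8_c37 : rangeAll chk8 26578 732 = true := by decide +kernel

theorem pS8_c38 : rangeAll chk8 27310 778 = true := by decide +kernel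

theorem pS8_c39 : rangeAll chk8 28088 750 = true := by decide +kernel

end Cfsg.Agent.Lib.Helper27.Co1O
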