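import Cfsg.Agent.Lib.Helper27.Co1O.Defs

/-! # S2069: sliced kernel computations (path certificate of the strong generator 8) -/

set_option autoImplicit false
set_option maxRecDepth 100000
set_option Elab.async false

namespace Cfsg.Agent.Lib.Helper27.Co1O

open Cfsg.Agent.Lib.Helper28.BSGS Cfsg.Agent.Lib.Helper22.SuzOut Cfsg.Agent.Lib.Helper27.TreeSift Cfsg.Agent.Lib.Helper27.Big

theorem pS8_c40 : rangeAll chk8 28838 758 = true := by decide +kernel

theorem pS8_c41 : rangeAll chk8 29596 734 = true := by decide +kernel

theorem pS8_c42 : rangeAll chk8 30330 724 = true := by decide +kernel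

theorem pS8_c43 : rangeAll chk8 31054 769 = true := by decide +kernel

theorem pS8_c44 : rangeAll chk8 31823 755 = true := by decide +kernel

theorem pS8_c45 : rangeAll chk8 32578 777 = true := by decide +kernel

theorem pS8_c46 : rangeAll chk8 33355 791 = true := by decide +kernel

theorem pS8_c47 : rangeAll chk8 34146 759 = true := by decide +kernel

theorem pS8_c48 : rangeAll chk8 34905 787 = true := by decide +kernel

theorem pS8_c49 : rangeAll chk8 35692 787 = true := by decide +kernel

theorem pS8_c50 : rangeAll chk8 36479 766 = true := by decide +kernel

theorem pS8_c51 : rangeAll chk8 37245 769 = true := by decide +kernel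

theorem pS8_c52 : rangeAll chk8 38014 770 = true := by decide +kernel

theorem pS8_c53 : rangeAll chk8 38784 788 = true := by decide +kernel

theorem pS8_c54 : rangeAll chk8 39572 799 = true := by decide +kernel

theorem pS8_c55 : rangeAll chk8 40371 827 = true := by decide +kernel

theorem pS8_c56 : rangeAll chk8 41198 809 = true := by decide +kernel

theorem pS8_c57 : rangeAll chk8 42007 794 = true := by decide +kernel

theorem pS8_c58 : rangeAll chk8 42801 797 = true := by decide +kernel

theorem pS8_c59 : rangeAll chk8 43598 822 = true := by decide +kernel

theorem pS8_c60 : rangeAll chk8 44420 810 = true := by decide +kernel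

theorem pS8_c61 : rangeAll chk8 45230 781 = true := by decide +kernel

theorem pS8_c62 : rangeAll chk8 46011 798 = true := by decide +kernel

theorem pS8_c63 : rangeAll chk8 46809 807 = true := by decide +kernel

theorem pS8_c64 : rangeAll chk8 47616 829 = true := by decide +kernel

theorem pS8_c65 : rangeAll chk8 48445 800 = true := by decide +kernel

theorem pS8_c66 : rangeAll chk8 49245 830 = true := by decide +kernel

theorem pS8_c67 : rangeAll chk8 50075 843 = true := by decide +kernel

theorem pS8_c68 : rangeAll chk8 50918 863 = true := by decide +kernel

theorem pS8_c69 : rangeAll chk8 51781 817 = true := by decide +kernel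

theorem pS8_c70 : rangeAll chk8 52598 860 = true := by decide +kernel

theorem pS8_c71 : rangeAll chk8 53458 793 = true := by decide +kernel

theorem pS8_c72 : rangeAll chk8 54251 800 = true := by decide +kernel

theorem pS8_c73 : rangeAll chk8 55051 819 = true := by decide +kernel

theorem pS8_c74 : rangeAll chk8 55870 848 = true := by decide +kernel

theorem pS8_c75 : rangeAll chk8 56718 829 = true := by decide +kernel

theorem pS8_c76 : rangeAll chk8 57547 822 = true := by decide +kernel

theorem pS8_c77 : rangeAll chk8 58369 847 = true := by decide +kernel

theorem pS8_c78 : rangeAll chk8 59216 802 = true := by decide +kernel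

theorem pS8_c79 : rangeAll chk8 60018 879 = true := by decide +kernel

end Cfsg.Agent.Lib.Helper27.Co1O
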