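import Cfsg.Agent.Lib.Helper27.Co1O.Defs

/-! # S2069: sliced kernel computations (path certificate of the strong generator 8) -/

set_option autoImplicit false
set_option maxRecDepth 100000
set_option Elab.async false

namespace Cfsg.Agent.Lib.Helper27.Co1O

open Cfsg.Agent.Lib.Helper28.BSGS Cfsg.Agent.Lib.Helper22.SuzOut Cfsg.Agent.Lib.Helper27.TreeSift Cfsg.Agent.Lib.Helper27.Big

theorem pS8_c80 : rangeAll chk8 60897 862 = true := by decide +kernel

theorem pS8_c81 : rangeAll chk8 61759 870 = true := by decide +kernel

theorem pS8_c82 : rangeAll chk8 62629 910 = true := by decide +kernel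

theorem pS8_c83 : rangeAll chk8 63539 867 = true := by decide +kernel

theorem pS8_c84 : rangeAll chk8 64406 878 = true := by decide +kernel

theorem pS8_c85 : rangeAll chk8 65284 884 = true := by decide +kernel

theorem pS8_c86 : rangeAll chk8 66168 881 = true := by decide +kernel

theorem pS8_c87 : rangeAll chk8 67049 884 = true := by decide +kernel

theorem pS8_c88 : rangeAll chk8 67933 911 = true := by decide +kernel

theorem pS8_c89 : rangeAll chk8 68844 907 = true := by decide +kernel

theorem pS8_c90 : rangeAll chk8 69751 884 = true := by decide +kernel

theorem pS8_c91 : rangeAll chk8 70635 909 = true := by decide +kernel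

theorem pS8_c92 : rangeAll chk8 71544 911 = true := by decide +kernel

theorem pS8_c93 : rangeAll chk8 72455 897 = true := by decide +kernel

theorem pS8_c94 : rangeAll chk8 73352 924 = true := by decide +kernel

theorem pS8_c95 : rangeAll chk8 74276 895 = true := by decide +kernel

theorem pS8_c96 : rangeAll chk8 75171 900 = true := by decide +kernel

theorem pS8_c97 : rangeAll chk8 76071 893 = true := by decide +kernel

theorem pS8_c98 : rangeAll chk8 76964 896 = true := by decide +kernel

theorem pS8_c99 : rangeAll chk8 77860 918 = true := by decide +kernel

theorem pS8_c100 : rangeAll chk8 78778 925 = true := by decide +kernel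

theorem pS8_c101 : rangeAll chk8 79703 946 = true := by decide +kernel

theorem pS8_c102 : rangeAll chk8 80649 929 = true := by decide +kernel

theorem pS8_c103 : rangeAll chk8 81578 948 = true := by decide +kernel

theorem pS8_c104 : rangeAll chk8 82526 943 = true := by decide +kernel

theorem pS8_c105 : rangeAll chk8 83469 956 = true := by decide +kernel

theorem pS8_c106 : rangeAll chk8 84425 941 = true := by decide +kernel

theorem pS8_c107 : rangeAll chk8 85366 941 = true := by decide +kernel

theorem pS8_c108 : rangeAll chk8 86307 963 = true := by decide +kernel

theorem pS8_c109 : rangeAll chk8 87270 953 = true := by decide +kernel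

theorem pS8_c110 : rangeAll chk8 88223 962 = true := by decide +kernel

theorem pS8_c111 : rangeAll chk8 89185 979 = true := by decide +kernel

theorem pS8_c112 : rangeAll chk8 90164 961 = true := by decide +kernel

theorem pS8_c113 : rangeAll chk8 91125 970 = true := by decide +kernel

theorem pS8_c114 : rangeAll chk8 92095 995 = true := by decide +kernel

theorem pS8_c115 : rangeAll chk8 93090 983 = true := by decide +kernel

theorem pS8_c116 : rangeAll chk8 94073 980 = true := by decide +kernel

theorem pS8_c117 : rangeAll chk8 95053 999 = true := by decide +kernel

theorem pS8_c118 : rangeAll chk8 96052 1006 = true := by decide +kernel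

theorem pS8_c119 : rangeAll chk8 97058 1023 = true := by decide +kernel

end Cfsg.Agent.Lib.Helper27.Co1O
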