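import Cfsg.Agent.Lib.Helper27.Co1O.Defs

/-! # S2069: sliced kernel computations (path certificate of the strong generator 9) -/

set_option autoImplicit false
set_option maxRecDepth 100000
set_option Elab.async false

namespace Cfsg.Agent.Lib.Helper27.Co1O

open Cfsg.Agent.Lib.Helper28.BSGS Cfsg.Agent.Lib.Helper22.SuzOut Cfsg.Agent.Lib.Helper27.TreeSift Cfsg.Agent.Lib.Helper27.Big

theorem pS9_c0 : rangeAll chk9 0 599 = true := by decide +kernel

theorem pS9_c1 : rangeAll chk9 599 612 = true := by decide +kernel

theorem pS9_c2 : rangeAll chk9 1211 620 = true := by decide +kernel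

theorem pS9_c3 : rangeAll chk9 1831 633 = true := by decide +kernel

theorem pS9_c4 : rangeAll chk9 2464 642 = true := by decide +kernel

theorem pS9_c5 : rangeAll chk9 3106 649 = true := by decide +kernel

theorem pS9_c6 : rangeAll chk9 3755 620 = true := by decide +kernel

theorem pS9_c7 : rangeAll chk9 4375 628 = true := by decide +kernel

theorem pS9_c8 : rangeAll chk9 5003 629 = true := by decide +kernel

theorem pS9_c9 : rangeAll chk9 5632 663 = true := by decide +kernel

theorem pS9_c10 : rangeAll chk9 6295 632 = true := by decide +kernel

theorem pS9_c11 : rangeAll chk9 6927 631 = true := by decide +kernel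

theorem pS9_c12 : rangeAll chk9 7558 657 = true := by decide +kernel

theorem pS9_c13 : rangeAll chk9 8215 657 = true := by decide +kernel

theorem pS9_c14 : rangeAll chk9 8872 640 = true := by decide +kernel

theorem pS9_c15 : rangeAll chk9 9512 651 = true := by decide +kernel

theorem pS9_c16 : rangeAll chk9 10163 647 = true := by decide +kernel

theorem pS9_c17 : rangeAll chk9 10810 655 = true := by decide +kernel

theorem pS9_c18 : rangeAll chk9 11465 650 = true := by decide +kernel

theorem pS9_c19 : rangeAll chk9 12115 668 = true := by decide +kernel

theorem pS9_c20 : rangeAll chk9 12783 636 = true := by decide +kernel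

theorem pS9_c21 : rangeAll chk9 13419 647 = true := by decide +kernel

theorem pS9_c22 : rangeAll chk9 14066 645 = true := by decide +kernel

theorem pS9_c23 : rangeAll chk9 14711 664 = true := by decide +kernel

theorem pS9_c24 : rangeAll chk9 15375 664 = true := by decide +kernel

theorem pS9_c25 : rangeAll chk9 16039 661 = true := by decide +kernel

theorem pS9_c26 : rangeAll chk9 16700 671 = true := by decide +kernel

theorem pS9_c27 : rangeAll chk9 17371 668 = true := by decide +kernel

theorem pS9_c28 : rangeAll chk9 18039 653 = true := by decide +kernel

theorem pS9_c29 : rangeAll chk9 18692 655 = true := by decide +kernel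

theorem pS9_c30 : rangeAll chk9 19347 666 = true := by decide +kernel

theorem pS9_c31 : rangeAll chk9 20013 663 = true := by decide +kernel

theorem pS9_c32 : rangeAll chk9 20676 699 = true := by decide +kernel

theorem pS9_c33 : rangeAll chk9 21375 675 = true := by decide +kernel

theorem pS9_c34 : rangeAll chk9 22050 709 = true := by decide +kernel

theorem pS9_c35 : rangeAll chk9 22759 698 = true := by decide +kernel

theorem pS9_c36 : rangeAll chk9 23457 717 = true := by decide +kernel

theorem pS9_c37 : rangeAll chk9 24174 677 = true := by decide +kernel

theorem pS9_c38 : rangeAll chk9 24851 687 = true := by decide +kernel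

theorem pS9_c39 : rangeAll chk9 25538 712 = true := by decide +kernel

end Cfsg.Agent.Lib.Helper27.Co1O
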