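import Cfsg.Agent.Lib.Helper27.Co1O.Defs

/-! # S2069: sliced kernel computations (path certificate of the strong generator 9) -/

set_option autoImplicit false
set_option maxRecDepth 100000
set_option Elab.async false

namespace Cfsg.Agent.Lib.Helper27.Co1O

open Cfsg.Agent.Lib.Helper28.BSGS Cfsg.Agent.Lib.Helper22.SuzOut Cfsg.Agent.Lib.Helper27.TreeSift Cfsg.Agent.Lib.Helper27.Big

theorem pS9_c80 : rangeAll chk9 55444 782 = true := by decide +kernel

theorem pS9_c81 : rangeAll chk9 56226 765 = true := by decide +kernel

theorem pS9_c82 : rangeAll chk9 56991 770 = true := by decide +kernel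

theorem pS9_c83 : rangeAll chk9 57761 756 = true := by decide +kernel

theorem pS9_c84 : rangeAll chk9 58517 781 = true := by decide +kernel

theorem pS9_c85 : rangeAll chk9 59298 782 = true := by decide +kernel

theorem pS9_c86 : rangeAll chk9 60080 825 = true := by decide +kernel

theorem pS9_c87 : rangeAll chk9 60905 804 = true := by decide +kernel

theorem pS9_c88 : rangeAll chk9 61709 777 = true := by decide +kernel

theorem pS9_c89 : rangeAll chk9 62486 806 = true := by decide +kernel

theorem pS9_c90 : rangeAll chk9 63292 850 = true := by decide +kernel

theorem pS9_c91 : rangeAll chk9 64142 797 = true := by decide +kernel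

theorem pS9_c92 : rangeAll chk9 64939 788 = true := by decide +kernel

theorem pS9_c93 : rangeAll chk9 65727 792 = true := by decide +kernel

theorem pS9_c94 : rangeAll chk9 66519 797 = true := by decide +kernel

theorem pS9_c95 : rangeAll chk9 67316 792 = true := by decide +kernel

theorem pS9_c96 : rangeAll chk9 68108 797 = true := by decide +kernel

theorem pS9_c97 : rangeAll chk9 68905 806 = true := by decide +kernel

theorem pS9_c98 : rangeAll chk9 69711 808 = true := by decide +kernel

theorem pS9_c99 : rangeAll chk9 70519 802 = true := by decide +kernel

theorem pS9_c100 : rangeAll chk9 71321 847 = true := by decide +kernel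

theorem pS9_c101 : rangeAll chk9 72168 816 = true := by decide +kernel

theorem pS9_c102 : rangeAll chk9 72984 830 = true := by decide +kernel

theorem pS9_c103 : rangeAll chk9 73814 827 = true := by decide +kernel

theorem pS9_c104 : rangeAll chk9 74641 825 = true := by decide +kernel

theorem pS9_c105 : rangeAll chk9 75466 832 = true := by decide +kernel

theorem pS9_c106 : rangeAll chk9 76298 829 = true := by decide +kernel

theorem pS9_c107 : rangeAll chk9 77127 860 = true := by decide +kernel

theorem pS9_c108 : rangeAll chk9 77987 857 = true := by decide +kernel

theorem pS9_c109 : rangeAll chk9 78844 853 = true := by decide +kernel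

theorem pS9_c110 : rangeAll chk9 79697 891 = true := by decide +kernel

theorem pS9_c111 : rangeAll chk9 80588 856 = true := by decide +kernel

theorem pS9_c112 : rangeAll chk9 81444 854 = true := by decide +kernel

theorem pS9_c113 : rangeAll chk9 82298 900 = true := by decide +kernel

theorem pS9_c114 : rangeAll chk9 83198 865 = true := by decide +kernel

theorem pS9_c115 : rangeAll chk9 84063 866 = true := by decide +kernel

theorem pS9_c116 : rangeAll chk9 84929 893 = true := by decide +kernel

theorem pS9_c117 : rangeAll chk9 85822 863 = true := by decide +kernel

theorem pS9_c118 : rangeAll chk9 86685 865 = true := by decide +kernel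

theorem pS9_c119 : rangeAll chk9 87550 898 = true := by decide +kernel

end Cfsg.Agent.Lib.Helper27.Co1O
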