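import Cfsg.Agent.Lib.Helper27.Co1O.Defs

/-! # S2069: sliced kernel computations (path certificate of the strong generator 9) -/

set_option autoImplicit false
set_option maxRecDepth 100000
set_option Elab.async false

namespace Cfsg.Agent.Lib.Helper27.Co1O

open Cfsg.Agent.Lib.Helper28.BSGS Cfsg.Agent.Lib.Helper22.SuzOut Cfsg.Agent.Lib.Helper27.TreeSift Cfsg.Agent.Lib.Helper27.Big

theorem pS9_c120 : rangeAll chk9 88448 902 = true := by decide +kernel

theorem pS9_c121 : rangeAll chk9 89350 869 = true := by decide +kernel

theorem pS9_c122 : rangeAll chk9 90219 868 = true := by decide +kernel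

theorem pS9_c123 : rangeAll chk9 91087 872 = true := by decide +kernel

theorem pS9_c124 : rangeAll chk9 91959 869 = true := by decide +kernel

theorem pS9_c125 : rangeAll chk9 92828 870 = true := by decide +kernel

theorem pS9_c126 : rangeAll chk9 93698 886 = true := by decide +kernel

theorem pS9_c127 : rangeAll chk9 94584 892 = true := by decide +kernel

theorem pS9_c128 : rangeAll chk9 95476 896 = true := by decide +kernel

theorem pS9_c129 : rangeAll chk9 96372 898 = true := by decide +kernel

theorem pS9_c130 : rangeAll chk9 97270 898 = true := by decide +kernel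

theorem pS9_c131 : rangeAll chk9 98168 112 = true := by decide +kernel

end Cfsg.Agent.Lib.Helper27.Co1O
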