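import Cfsg.Agent.Lib.Helper27.Co1O.PathS3_0
import Cfsg.Agent.Lib.Helper27.Co1O.PathS3_1
import Cfsg.Agent.Lib.Helper27.Co1O.PathS4_0
import Cfsg.Agent.Lib.Helper27.Co1O.PathS4_1
import Cfsg.Agent.Lib.Helper27.Co1O.PathS4_2
import Cfsg.Agent.Lib.Helper27.Co1O.PathS4_3
import Cfsg.Agent.Lib.Helper27.Co1O.PathS5_0
import Cfsg.Agent.Lib.Helper27.Co1O.PathS5_1
import Cfsg.Agent.Lib.Helper27.Co1O.PathS5_2
import Cfsg.Agent.Lib.Helper27.Co1O.PathS5_3
import Cfsg.Agent.Lib.Helper27.Co1O.PathS6_0
import Cfsg.Agent.Lib.Helper27.Co1O.PathS6_1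
import Cfsg.Agent.Lib.Helper27.Co1O.PathS6_2
import Cfsg.Agent.Lib.Helper27.Co1O.PathS6_3
import Cfsg.Agent.Lib.Helper27.Co1O.PathS7_0
import Cfsg.Agent.Lib.Helper27.Co1O.PathS7_1
import Cfsg.Agent.Lib.Helper27.Co1O.PathS7_2
import Cfsg.Agent.Lib.Helper27.Co1O.PathS7_3
import Cfsg.Agent.Lib.Helper27.Co1O.PathS8_0
import Cfsg.Agent.Lib.Helper27.Co1O.PathS8_1
import Cfsg.Agent.Lib.Helper27.Co1O.PathS8_2
import Cfsg.Agent.Lib.Helper27.Co1O.PathS8_3
import Cfsg.Agent.Lib.Helper27.Co1O.PathS9_0
import Cfsg.Agent.Lib.Helper27.Co1O.PathS9_1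
import Cfsg.Agent.Lib.Helper27.Co1O.PathS9_2
import Cfsg.Agent.Lib.Helper27.Co1O.PathS9_3
import Cfsg.Agent.Lib.Helper27.Co1O.PathS10_0
import Cfsg.Agent.Lib.Helper27.Co1O.PathS10_1
import Cfsg.Agent.Lib.Helper27.Co1O.PathS10_2
import Cfsg.Agent.Lib.Helper27.Co1O.PathS11_0
import Cfsg.Agent.Lib.Helper27.Co1O.PathS11_1
import Cfsg.Agent.Lib.Helper27.Co1O.PathS11_2

/-! # S2069: gluing the slices of the path certificates -/

set_option autoImplicit false

namespace Cfsg.Agent.Lib.Helper27.Co1O

open Cfsg.Agent.Lib.Helper28.BSGS Cfsg.Agent.Lib.Helper22.SuzOut Cfsg.Agent.Lib.Helper27.TreeSift Cfsg.Agent.Lib.Helper27.Big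

theorem pS3_g0 : allBelow chk3 1501 = true :=
  allBelow_extend (f := chk3) (lo := 0) (len := 1501) (allBelow_zero chk3) pS3_c0

theorem pS3_g1 : allBelow chk3 3010 = true :=
  allBelow_extend (f := chk3) (lo := 1501) (len := 1509) pS3_g0 pS3_c1

theorem pS3_g2 : allBelow chk3 4537 = true :=
  allBelow_extend (f := chk3) (lo := 3010) (len := 1527) pS3_g1 pS3_c2

theorem pS3_g3 : allBelow chk3 6089 = true :=
  allBelow_extend (f := chk3) (lo := 4537) (len := 1552) pS3_g2 pS3_c3

theorem pS3_g4 : allBelow chk3 7660 = true :=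
  allBelow_extend (f := chk3) (lo := 6089) (len := 1571) pS3_g3 pS3_c4

theorem pS3_g5 : allBelow chk3 9259 = true :=
  allBelow_extend (f := chk3) (lo := 7660) (len := 1599) pS3_g4 pS3_c5

theorem pS3_g6 : allBelow chk3 10782 = true :=
  allBelow_extend (f := chk3) (lo := 9259) (len := 1523) pS3_g5 pS3_c6

theorem pS3_g7 : allBelow chk3 12446 = true :=
  allBelow_extend (f := chk3) (lo := 10782) (len := 1664) pS3_g6 pS3_c7

theorem pS3_g8 : allBelow chk3 14057 = true :=
  allBelow_extend (f := chk3) (lo := 12446) (len := 1611) pS3_g7 pS3_c8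

theorem pS3_g9 : allBelow chk3 15707 = true :=
  allBelow_extend (f := chk3) (lo := 14057) (len := 1650) pS3_g8 pS3_c9

theorem pS3_g10 : allBelow chk3 17338 = true :=
  allBelow_extend (f := chk3) (lo := 15707) (len := 1631) pS3_g9 pS3_c10

theorem pS3_g11 : allBelow chk3 19067 = true :=
  allBelow_extend (f := chk3) (lo := 17338) (len := 1729) pS3_g10 pS3_c11

theorem pS3_g12 : allBelow chk3 20813 = true :=
  allBelow_extend (f := chk3) (lo := 19067) (len := 1746) pS3_g11 pS3_c12

theorem pS3_g13 : allBelow chk3 22570 = true :=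
  allBelow_extend (f := chk3) (lo := 20813) (len := 1757) pS3_g12 pS3_c13

theorem pS3_g14 : allBelow chk3 24328 = true :=
  allBelow_extend (f := chk3) (lo := 22570) (len := 1758) pS3_g13 pS3_c14

theorem pS3_g15 : allBelow chk3 26181 = true :=
  allBelow_extend (f := chk3) (lo := 24328) (len := 1853) pS3_g14 pS3_c15

theorem pS3_g16 : allBelow chk3 28034 = true :=
  allBelow_extend (f := chk3) (lo := 26181) (len := 1853) pS3_g15 pS3_c16

theorem pS3_g17 : allBelow chk3 29863 = true :=
  allBelow_extend (f := chk3) (lo := 28034) (len := 1829) pS3_g16 pS3_c17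

theorem pS3_g18 : allBelow chk3 31854 = true :=
  allBelow_extend (f := chk3) (lo := 29863) (len := 1991) pS3_g17 pS3_c18

theorem pS3_g19 : allBelow chk3 33802 = true :=
  allBelow_extend (f := chk3) (lo := 31854) (len := 1948) pS3_g18 pS3_c19

theorem pS3_g20 : allBelow chk3 35732 = true :=
  allBelow_extend (f := chk3) (lo := 33802) (len := 1930) pS3_g19 pS3_c20

theorem pS3_g21 : allBelow chk3 37718 = true :=
  allBelow_extend (f := chk3) (lo := 35732) (len := 1986) pS3_g20 pS3_c21

theorem pS3_g22 : allBelow chk3 39698 = true :=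
  allBelow_extend (f := chk3) (lo := 37718) (len := 1980) pS3_g21 pS3_c22

theorem pS3_g23 : allBelow chk3 41775 = true :=
  allBelow_extend (f := chk3) (lo := 39698) (len := 2077) pS3_g22 pS3_c23

theorem pS3_g24 : allBelow chk3 43858 = true :=
  allBelow_extend (f := chk3) (lo := 41775) (len := 2083) pS3_g23 pS3_c24

theorem pS3_g25 : allBelow chk3 46002 = true :=
  allBelow_extend (f := chk3) (lo := 43858) (len := 2144) pS3_g24 pS3_c25

theorem pS3_g26 : allBelow chk3 48086 = true :=
  allBelow_extend (f := chk3) (lo := 46002) (len := 2084) pS3_g25 pS3_c26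

theorem pS3_g27 : allBelow chk3 50336 = true :=
  allBelow_extend (f := chk3) (lo := 48086) (len := 2250) pS3_g26 pS3_c27

theorem pS3_g28 : allBelow chk3 52774 = true :=
  allBelow_extend (f := chk3) (lo := 50336) (len := 2438) pS3_g27 pS3_c28

theorem pS3_g29 : allBelow chk3 55147 = true :=
  allBelow_extend (f := chk3) (lo := 52774) (len := 2373) pS3_g28 pS3_c29

theorem pS3_g30 : allBelow chk3 57588 = true :=
  allBelow_extend (f := chk3) (lo := 55147) (len := 2441) pS3_g29 pS3_c30

theorem pS3_g31 : allBelow chk3 60139 = true :=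
  allBelow_extend (f := chk3) (lo := 57588) (len := 2551) pS3_g30 pS3_c31

theorem pS3_g32 : allBelow chk3 62647 = true :=
  allBelow_extend (f := chk3) (lo := 60139) (len := 2508) pS3_g31 pS3_c32

theorem pS3_g33 : allBelow chk3 65441 = true :=
  allBelow_extend (f := chk3) (lo := 62647) (len := 2794) pS3_g32 pS3_c33

theorem pS3_g34 : allBelow chk3 68073 = true :=
  allBelow_extend (f := chk3) (lo := 65441) (len := 2632) pS3_g33 pS3_c34

theorem pS3_g35 : allBelow chk3 70840 = true :=
  allBelow_extend (f := chk3) (lo := 68073) (len := 2767) pS3_g34 pS3_c35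

theorem pS3_g36 : allBelow chk3 73733 = true :=
  allBelow_extend (f := chk3) (lo := 70840) (len := 2893) pS3_g35 pS3_c36

theorem pS3_g37 : allBelow chk3 76877 = true :=
  allBelow_extend (f := chk3) (lo := 73733) (len := 3144) pS3_g36 pS3_c37

theorem pS3_g38 : allBelow chk3 80116 = true :=
  allBelow_extend (f := chk3) (lo := 76877) (len := 3239) pS3_g37 pS3_c38

theorem pS3_g39 : allBelow chk3 83517 = true :=
  allBelow_extend (f := chk3) (lo := 80116) (len := 3401) pS3_g38 pS3_c39

theorem pS3_g40 : allBelow chk3 87177 = true :=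
  allBelow_extend (f := chk3) (lo := 83517) (len := 3660) pS3_g39 pS3_c40

theorem pS3_g41 : allBelow chk3 91075 = true :=
  allBelow_extend (f := chk3) (lo := 87177) (len := 3898) pS3_g40 pS3_c41

theorem pS3_g42 : allBelow chk3 95178 = true :=
  allBelow_extend (f := chk3) (lo := 91075) (len := 4103) pS3_g41 pS3_c42

theorem pS3_g43 : allBelow chk3 98280 = true :=
  allBelow_extend (f := chk3) (lo := 95178) (len := 3102) pS3_g42 pS3_c43

theorem pS3_all : allBelow chk3 98280 = true := pS3_g43

theorem pS4_g0 : allBelow chk4 590 = true :=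
  allBelow_extend (f := chk4) (lo := 0) (len := 590) (allBelow_zero chk4) pS4_c0

theorem pS4_g1 : allBelow chk4 1187 = true :=
  allBelow_extend (f := chk4) (lo := 590) (len := 597) pS4_g0 pS4_c1

theorem pS4_g2 : allBelow chk4 1812 = true :=
  allBelow_extend (f := chk4) (lo := 1187) (len := 625) pS4_g1 pS4_c2

theorem pS4_g3 : allBelow chk4 2437 = true :=
  allBelow_extend (f := chk4) (lo := 1812) (len := 625) pS4_g2 pS4_c3

theorem pS4_g4 : allBelow chk4 3051 = true :=
  allBelow_extend (f := chk4) (lo := 2437) (len := 614) pS4_g3 pS4_c4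

theorem pS4_g5 : allBelow chk4 3677 = true :=
  allBelow_extend (f := chk4) (lo := 3051) (len := 626) pS4_g4 pS4_c5

theorem pS4_g6 : allBelow chk4 4312 = true :=
  allBelow_extend (f := chk4) (lo := 3677) (len := 635) pS4_g5 pS4_c6

theorem pS4_g7 : allBelow chk4 4932 = true :=
  allBelow_extend (f := chk4) (lo := 4312) (len := 620) pS4_g6 pS4_c7

theorem pS4_g8 : allBelow chk4 5544 = true :=
  allBelow_extend (f := chk4) (lo := 4932) (len := 612) pS4_g7 pS4_c8

theorem pS4_g9 : allBelow chk4 6174 = true :=
  allBelow_extend (f := chk4) (lo := 5544) (len := 630) pS4_g8 pS4_c9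

theorem pS4_g10 : allBelow chk4 6806 = true :=
  allBelow_extend (f := chk4) (lo := 6174) (len := 632) pS4_g9 pS4_c10

theorem pS4_g11 : allBelow chk4 7457 = true :=
  allBelow_extend (f := chk4) (lo := 6806) (len := 651) pS4_g10 pS4_c11

theorem pS4_g12 : allBelow chk4 8090 = true :=
  allBelow_extend (f := chk4) (lo := 7457) (len := 633) pS4_g11 pS4_c12

theorem pS4_g13 : allBelow chk4 8701 = true :=
  allBelow_extend (f := chk4) (lo := 8090) (len := 611) pS4_g12 pS4_c13

theorem pS4_g14 : allBelow chk4 9352 = true :=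
  allBelow_extend (f := chk4) (lo := 8701) (len := 651) pS4_g13 pS4_c14

theorem pS4_g15 : allBelow chk4 10006 = true :=
  allBelow_extend (f := chk4) (lo := 9352) (len := 654) pS4_g14 pS4_c15

theorem pS4_g16 : allBelow chk4 10683 = true :=
  allBelow_extend (f := chk4) (lo := 10006) (len := 677) pS4_g15 pS4_c16

theorem pS4_g17 : allBelow chk4 11375 = true :=
  allBelow_extend (f := chk4) (lo := 10683) (len := 692) pS4_g16 pS4_c17

theorem pS4_g18 : allBelow chk4 12021 = true :=
  allBelow_extend (f := chk4) (lo := 11375) (len := 646) pS4_g17 pS4_c18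

theorem pS4_g19 : allBelow chk4 12679 = true :=
  allBelow_extend (f := chk4) (lo := 12021) (len := 658) pS4_g18 pS4_c19

theorem pS4_g20 : allBelow chk4 13344 = true :=
  allBelow_extend (f := chk4) (lo := 12679) (len := 665) pS4_g19 pS4_c20

theorem pS4_g21 : allBelow chk4 14001 = true :=
  allBelow_extend (f := chk4) (lo := 13344) (len := 657) pS4_g20 pS4_c21

theorem pS4_g22 : allBelow chk4 14646 = true :=
  allBelow_extend (f := chk4) (lo := 14001) (len := 645) pS4_g21 pS4_c22

theorem pS4_g23 : allBelow chk4 15297 = true :=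
  allBelow_extend (f := chk4) (lo := 14646) (len := 651) pS4_g22 pS4_c23

theorem pS4_g24 : allBelow chk4 15991 = true :=
  allBelow_extend (f := chk4) (lo := 15297) (len := 694) pS4_g23 pS4_c24

theorem pS4_g25 : allBelow chk4 16683 = true :=
  allBelow_extend (f := chk4) (lo := 15991) (len := 692) pS4_g24 pS4_c25

theorem pS4_g26 : allBelow chk4 17319 = true :=
  allBelow_extend (f := chk4) (lo := 16683) (len := 636) pS4_g25 pS4_c26

theorem pS4_g27 : allBelow chk4 17961 = true :=
  allBelow_extend (f := chk4) (lo := 17319) (len := 642) pS4_g26 pS4_c27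

theorem pS4_g28 : allBelow chk4 18647 = true :=
  allBelow_extend (f := chk4) (lo := 17961) (len := 686) pS4_g27 pS4_c28

theorem pS4_g29 : allBelow chk4 19308 = true :=
  allBelow_extend (f := chk4) (lo := 18647) (len := 661) pS4_g28 pS4_c29

theorem pS4_g30 : allBelow chk4 19961 = true :=
  allBelow_extend (f := chk4) (lo := 19308) (len := 653) pS4_g29 pS4_c30

theorem pS4_g31 : allBelow chk4 20609 = true :=
  allBelow_extend (f := chk4) (lo := 19961) (len := 648) pS4_g30 pS4_c31

theorem pS4_g32 : allBelow chk4 21275 = true :=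
  allBelow_extend (f := chk4) (lo := 20609) (len := 666) pS4_g31 pS4_c32

theorem pS4_g33 : allBelow chk4 21941 = true :=
  allBelow_extend (f := chk4) (lo := 21275) (len := 666) pS4_g32 pS4_c33

theorem pS4_g34 : allBelow chk4 22637 = true :=
  allBelow_extend (f := chk4) (lo := 21941) (len := 696) pS4_g33 pS4_c34

theorem pS4_g35 : allBelow chk4 23293 = true :=
  allBelow_extend (f := chk4) (lo := 22637) (len := 656) pS4_g34 pS4_c35

theorem pS4_g36 : allBelow chk4 23965 = true :=
  allBelow_extend (f := chk4) (lo := 23293) (len := 672) pS4_g35 pS4_c36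

theorem pS4_g37 : allBelow chk4 24640 = true :=
  allBelow_extend (f := chk4) (lo := 23965) (len := 675) pS4_g36 pS4_c37

theorem pS4_g38 : allBelow chk4 25318 = true :=
  allBelow_extend (f := chk4) (lo := 24640) (len := 678) pS4_g37 pS4_c38

theorem pS4_g39 : allBelow chk4 25995 = true :=
  allBelow_extend (f := chk4) (lo := 25318) (len := 677) pS4_g38 pS4_c39

theorem pS4_g40 : allBelow chk4 26683 = true :=
  allBelow_extend (f := chk4) (lo := 25995) (len := 688) pS4_g39 pS4_c40

theorem pS4_g41 : allBelow chk4 27385 = true :=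
  allBelow_extend (f := chk4) (lo := 26683) (len := 702) pS4_g40 pS4_c41

theorem pS4_g42 : allBelow chk4 28084 = true :=
  allBelow_extend (f := chk4) (lo := 27385) (len := 699) pS4_g41 pS4_c42

theorem pS4_g43 : allBelow chk4 28749 = true :=
  allBelow_extend (f := chk4) (lo := 28084) (len := 665) pS4_g42 pS4_c43

theorem pS4_g44 : allBelow chk4 29425 = true :=
  allBelow_extend (f := chk4) (lo := 28749) (len := 676) pS4_g43 pS4_c44

theorem pS4_g45 : allBelow chk4 30127 = true :=
  allBelow_extend (f := chk4) (lo := 29425) (len := 702) pS4_g44 pS4_c45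

theorem pS4_g46 : allBelow chk4 30825 = true :=
  allBelow_extend (f := chk4) (lo := 30127) (len := 698) pS4_g45 pS4_c46

theorem pS4_g47 : allBelow chk4 31510 = true :=
  allBelow_extend (f := chk4) (lo := 30825) (len := 685) pS4_g46 pS4_c47

theorem pS4_g48 : allBelow chk4 32215 = true :=
  allBelow_extend (f := chk4) (lo := 31510) (len := 705) pS4_g47 pS4_c48

theorem pS4_g49 : allBelow chk4 32923 = true :=
  allBelow_extend (f := chk4) (lo := 32215) (len := 708) pS4_g48 pS4_c49

theorem pS4_g50 : allBelow chk4 33662 = true :=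
  allBelow_extend (f := chk4) (lo := 32923) (len := 739) pS4_g49 pS4_c50

theorem pS4_g51 : allBelow chk4 34421 = true :=
  allBelow_extend (f := chk4) (lo := 33662) (len := 759) pS4_g50 pS4_c51

theorem pS4_g52 : allBelow chk4 35169 = true :=
  allBelow_extend (f := chk4) (lo := 34421) (len := 748) pS4_g51 pS4_c52

theorem pS4_g53 : allBelow chk4 35880 = true :=
  allBelow_extend (f := chk4) (lo := 35169) (len := 711) pS4_g52 pS4_c53

theorem pS4_g54 : allBelow chk4 36584 = true :=
  allBelow_extend (f := chk4) (lo := 35880) (len := 704) pS4_g53 pS4_c54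

theorem pS4_g55 : allBelow chk4 37285 = true :=
  allBelow_extend (f := chk4) (lo := 36584) (len := 701) pS4_g54 pS4_c55

theorem pS4_g56 : allBelow chk4 37997 = true :=
  allBelow_extend (f := chk4) (lo := 37285) (len := 712) pS4_g55 pS4_c56

theorem pS4_g57 : allBelow chk4 38716 = true :=
  allBelow_extend (f := chk4) (lo := 37997) (len := 719) pS4_g56 pS4_c57

theorem pS4_g58 : allBelow chk4 39466 = true :=
  allBelow_extend (f := chk4) (lo := 38716) (len := 750) pS4_g57 pS4_c58

theorem pS4_g59 : allBelow chk4 40196 = true :=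
  allBelow_extend (f := chk4) (lo := 39466) (len := 730) pS4_g58 pS4_c59

theorem pS4_g60 : allBelow chk4 40937 = true :=
  allBelow_extend (f := chk4) (lo := 40196) (len := 741) pS4_g59 pS4_c60

theorem pS4_g61 : allBelow chk4 41685 = true :=
  allBelow_extend (f := chk4) (lo := 40937) (len := 748) pS4_g60 pS4_c61

theorem pS4_g62 : allBelow chk4 42443 = true :=
  allBelow_extend (f := chk4) (lo := 41685) (len := 758) pS4_g61 pS4_c62

theorem pS4_g63 : allBelow chk4 43222 = true :=
  allBelow_extend (f := chk4) (lo := 42443) (len := 779) pS4_g62 pS4_c63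

theorem pS4_g64 : allBelow chk4 43967 = true :=
  allBelow_extend (f := chk4) (lo := 43222) (len := 745) pS4_g63 pS4_c64

theorem pS4_g65 : allBelow chk4 44729 = true :=
  allBelow_extend (f := chk4) (lo := 43967) (len := 762) pS4_g64 pS4_c65

theorem pS4_g66 : allBelow chk4 45506 = true :=
  allBelow_extend (f := chk4) (lo := 44729) (len := 777) pS4_g65 pS4_c66

theorem pS4_g67 : allBelow chk4 46288 = true :=
  allBelow_extend (f := chk4) (lo := 45506) (len := 782) pS4_g66 pS4_c67

theorem pS4_g68 : allBelow chk4 47031 = true :=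
  allBelow_extend (f := chk4) (lo := 46288) (len := 743) pS4_g67 pS4_c68

theorem pS4_g69 : allBelow chk4 47783 = true :=
  allBelow_extend (f := chk4) (lo := 47031) (len := 752) pS4_g68 pS4_c69

theorem pS4_g70 : allBelow chk4 48532 = true :=
  allBelow_extend (f := chk4) (lo := 47783) (len := 749) pS4_g69 pS4_c70

theorem pS4_g71 : allBelow chk4 49276 = true :=
  allBelow_extend (f := chk4) (lo := 48532) (len := 744) pS4_g70 pS4_c71

theorem pS4_g72 : allBelow chk4 50030 = true :=
  allBelow_extend (f := chk4) (lo := 49276) (len := 754) pS4_g71 pS4_c72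

theorem pS4_g73 : allBelow chk4 50787 = true :=
  allBelow_extend (f := chk4) (lo := 50030) (len := 757) pS4_g72 pS4_c73

theorem pS4_g74 : allBelow chk4 51544 = true :=
  allBelow_extend (f := chk4) (lo := 50787) (len := 757) pS4_g73 pS4_c74

theorem pS4_g75 : allBelow chk4 52299 = true :=
  allBelow_extend (f := chk4) (lo := 51544) (len := 755) pS4_g74 pS4_c75

theorem pS4_g76 : allBelow chk4 53047 = true :=
  allBelow_extend (f := chk4) (lo := 52299) (len := 748) pS4_g75 pS4_c76

theorem pS4_g77 : allBelow chk4 53810 = true :=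
  allBelow_extend (f := chk4) (lo := 53047) (len := 763) pS4_g76 pS4_c77

theorem pS4_g78 : allBelow chk4 54576 = true :=
  allBelow_extend (f := chk4) (lo := 53810) (len := 766) pS4_g77 pS4_c78

theorem pS4_g79 : allBelow chk4 55344 = true :=
  allBelow_extend (f := chk4) (lo := 54576) (len := 768) pS4_g78 pS4_c79

theorem pS4_g80 : allBelow chk4 56121 = true :=
  allBelow_extend (f := chk4) (lo := 55344) (len := 777) pS4_g79 pS4_c80

theorem pS4_g81 : allBelow chk4 56910 = true :=
  allBelow_extend (f := chk4) (lo := 56121) (len := 789) pS4_g80 pS4_c81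

theorem pS4_g82 : allBelow chk4 57700 = true :=
  allBelow_extend (f := chk4) (lo := 56910) (len := 790) pS4_g81 pS4_c82

theorem pS4_g83 : allBelow chk4 58454 = true :=
  allBelow_extend (f := chk4) (lo := 57700) (len := 754) pS4_g82 pS4_c83

theorem pS4_g84 : allBelow chk4 59198 = true :=
  allBelow_extend (f := chk4) (lo := 58454) (len := 744) pS4_g83 pS4_c84

theorem pS4_g85 : allBelow chk4 59977 = true :=
  allBelow_extend (f := chk4) (lo := 59198) (len := 779) pS4_g84 pS4_c85

theorem pS4_g86 : allBelow chk4 60747 = true :=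
  allBelow_extend (f := chk4) (lo := 59977) (len := 770) pS4_g85 pS4_c86

theorem pS4_g87 : allBelow chk4 61525 = true :=
  allBelow_extend (f := chk4) (lo := 60747) (len := 778) pS4_g86 pS4_c87

theorem pS4_g88 : allBelow chk4 62298 = true :=
  allBelow_extend (f := chk4) (lo := 61525) (len := 773) pS4_g87 pS4_c88

theorem pS4_g89 : allBelow chk4 63075 = true :=
  allBelow_extend (f := chk4) (lo := 62298) (len := 777) pS4_g88 pS4_c89

theorem pS4_g90 : allBelow chk4 63874 = true :=
  allBelow_extend (f := chk4) (lo := 63075) (len := 799) pS4_g89 pS4_c90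

theorem pS4_g91 : allBelow chk4 64688 = true :=
  allBelow_extend (f := chk4) (lo := 63874) (len := 814) pS4_g90 pS4_c91

theorem pS4_g92 : allBelow chk4 65489 = true :=
  allBelow_extend (f := chk4) (lo := 64688) (len := 801) pS4_g91 pS4_c92

theorem pS4_g93 : allBelow chk4 66300 = true :=
  allBelow_extend (f := chk4) (lo := 65489) (len := 811) pS4_g92 pS4_c93

theorem pS4_g94 : allBelow chk4 67200 = true :=
  allBelow_extend (f := chk4) (lo := 66300) (len := 900) pS4_g93 pS4_c94

theorem pS4_g95 : allBelow chk4 68078 = true :=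
  allBelow_extend (f := chk4) (lo := 67200) (len := 878) pS4_g94 pS4_c95

theorem pS4_g96 : allBelow chk4 68911 = true :=
  allBelow_extend (f := chk4) (lo := 68078) (len := 833) pS4_g95 pS4_c96

theorem pS4_g97 : allBelow chk4 69754 = true :=
  allBelow_extend (f := chk4) (lo := 68911) (len := 843) pS4_g96 pS4_c97

theorem pS4_g98 : allBelow chk4 70580 = true :=
  allBelow_extend (f := chk4) (lo := 69754) (len := 826) pS4_g97 pS4_c98

theorem pS4_g99 : allBelow chk4 71388 = true :=
  allBelow_extend (f := chk4) (lo := 70580) (len := 808) pS4_g98 pS4_c99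

theorem pS4_g100 : allBelow chk4 72245 = true :=
  allBelow_extend (f := chk4) (lo := 71388) (len := 857) pS4_g99 pS4_c100

theorem pS4_g101 : allBelow chk4 73115 = true :=
  allBelow_extend (f := chk4) (lo := 72245) (len := 870) pS4_g100 pS4_c101

theorem pS4_g102 : allBelow chk4 73917 = true :=
  allBelow_extend (f := chk4) (lo := 73115) (len := 802) pS4_g101 pS4_c102

theorem pS4_g103 : allBelow chk4 74709 = true :=
  allBelow_extend (f := chk4) (lo := 73917) (len := 792) pS4_g102 pS4_c103

theorem pS4_g104 : allBelow chk4 75529 = true :=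
  allBelow_extend (f := chk4) (lo := 74709) (len := 820) pS4_g103 pS4_c104

theorem pS4_g105 : allBelow chk4 76318 = true :=
  allBelow_extend (f := chk4) (lo := 75529) (len := 789) pS4_g104 pS4_c105

theorem pS4_g106 : allBelow chk4 77088 = true :=
  allBelow_extend (f := chk4) (lo := 76318) (len := 770) pS4_g105 pS4_c106

theorem pS4_g107 : allBelow chk4 77949 = true :=
  allBelow_extend (f := chk4) (lo := 77088) (len := 861) pS4_g106 pS4_c107

theorem pS4_g108 : allBelow chk4 78846 = true :=
  allBelow_extend (f := chk4) (lo := 77949) (len := 897) pS4_g107 pS4_c108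

theorem pS4_g109 : allBelow chk4 79712 = true :=
  allBelow_extend (f := chk4) (lo := 78846) (len := 866) pS4_g108 pS4_c109

theorem pS4_g110 : allBelow chk4 80590 = true :=
  allBelow_extend (f := chk4) (lo := 79712) (len := 878) pS4_g109 pS4_c110

theorem pS4_g111 : allBelow chk4 81462 = true :=
  allBelow_extend (f := chk4) (lo := 80590) (len := 872) pS4_g110 pS4_c111

theorem pS4_g112 : allBelow chk4 82339 = true :=
  allBelow_extend (f := chk4) (lo := 81462) (len := 877) pS4_g111 pS4_c112

theorem pS4_g113 : allBelow chk4 83228 = true :=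
  allBelow_extend (f := chk4) (lo := 82339) (len := 889) pS4_g112 pS4_c113

theorem pS4_g114 : allBelow chk4 84134 = true :=
  allBelow_extend (f := chk4) (lo := 83228) (len := 906) pS4_g113 pS4_c114

theorem pS4_g115 : allBelow chk4 84984 = true :=
  allBelow_extend (f := chk4) (lo := 84134) (len := 850) pS4_g114 pS4_c115

theorem pS4_g116 : allBelow chk4 85832 = true :=
  allBelow_extend (f := chk4) (lo := 84984) (len := 848) pS4_g115 pS4_c116

theorem pS4_g117 : allBelow chk4 86705 = true :=
  allBelow_extend (f := chk4) (lo := 85832) (len := 873) pS4_g116 pS4_c117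

theorem pS4_g118 : allBelow chk4 87564 = true :=
  allBelow_extend (f := chk4) (lo := 86705) (len := 859) pS4_g117 pS4_c118

theorem pS4_g119 : allBelow chk4 88422 = true :=
  allBelow_extend (f := chk4) (lo := 87564) (len := 858) pS4_g118 pS4_c119

theorem pS4_g120 : allBelow chk4 89300 = true :=
  allBelow_extend (f := chk4) (lo := 88422) (len := 878) pS4_g119 pS4_c120

theorem pS4_g121 : allBelow chk4 90156 = true :=
  allBelow_extend (f := chk4) (lo := 89300) (len := 856) pS4_g120 pS4_c121

theorem pS4_g122 : allBelow chk4 91054 = true :=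
  allBelow_extend (f := chk4) (lo := 90156) (len := 898) pS4_g121 pS4_c122

theorem pS4_g123 : allBelow chk4 91990 = true :=
  allBelow_extend (f := chk4) (lo := 91054) (len := 936) pS4_g122 pS4_c123

theorem pS4_g124 : allBelow chk4 92883 = true :=
  allBelow_extend (f := chk4) (lo := 91990) (len := 893) pS4_g123 pS4_c124

theorem pS4_g125 : allBelow chk4 93772 = true :=
  allBelow_extend (f := chk4) (lo := 92883) (len := 889) pS4_g124 pS4_c125

theorem pS4_g126 : allBelow chk4 94641 = true :=
  allBelow_extend (f := chk4) (lo := 93772) (len := 869) pS4_g125 pS4_c126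

theorem pS4_g127 : allBelow chk4 95510 = true :=
  allBelow_extend (f := chk4) (lo := 94641) (len := 869) pS4_g126 pS4_c127

theorem pS4_g128 : allBelow chk4 96379 = true :=
  allBelow_extend (f := chk4) (lo := 95510) (len := 869) pS4_g127 pS4_c128

theorem pS4_g129 : allBelow chk4 97279 = true :=
  allBelow_extend (f := chk4) (lo := 96379) (len := 900) pS4_g128 pS4_c129

theorem pS4_g130 : allBelow chk4 98168 = true :=
  allBelow_extend (f := chk4) (lo := 97279) (len := 889) pS4_g129 pS4_c130

theorem pS4_g131 : allBelow chk4 98280 = true :=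
  allBelow_extend (f := chk4) (lo := 98168) (len := 112) pS4_g130 pS4_c131

theorem pS4_all : allBelow chk4 98280 = true := pS4_g131

theorem pS5_g0 : allBelow chk5 696 = true :=
  allBelow_extend (f := chk5) (lo := 0) (len := 696) (allBelow_zero chk5) pS5_c0

theorem pS5_g1 : allBelow chk5 1400 = true :=
  allBelow_extend (f := chk5) (lo := 696) (len := 704) pS5_g0 pS5_c1

theorem pS5_g2 : allBelow chk5 2097 = true :=
  allBelow_extend (f := chk5) (lo := 1400) (len := 697) pS5_g1 pS5_c2

theorem pS5_g3 : allBelow chk5 2782 = true :=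
  allBelow_extend (f := chk5) (lo := 2097) (len := 685) pS5_g2 pS5_c3

theorem pS5_g4 : allBelow chk5 3490 = true :=
  allBelow_extend (f := chk5) (lo := 2782) (len := 708) pS5_g3 pS5_c4

theorem pS5_g5 : allBelow chk5 4179 = true :=
  allBelow_extend (f := chk5) (lo := 3490) (len := 689) pS5_g4 pS5_c5

theorem pS5_g6 : allBelow chk5 4863 = true :=
  allBelow_extend (f := chk5) (lo := 4179) (len := 684) pS5_g5 pS5_c6

theorem pS5_g7 : allBelow chk5 5558 = true :=
  allBelow_extend (f := chk5) (lo := 4863) (len := 695) pS5_g6 pS5_c7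

theorem pS5_g8 : allBelow chk5 6281 = true :=
  allBelow_extend (f := chk5) (lo := 5558) (len := 723) pS5_g7 pS5_c8

theorem pS5_g9 : allBelow chk5 6977 = true :=
  allBelow_extend (f := chk5) (lo := 6281) (len := 696) pS5_g8 pS5_c9

theorem pS5_g10 : allBelow chk5 7681 = true :=
  allBelow_extend (f := chk5) (lo := 6977) (len := 704) pS5_g9 pS5_c10

theorem pS5_g11 : allBelow chk5 8383 = true :=
  allBelow_extend (f := chk5) (lo := 7681) (len := 702) pS5_g10 pS5_c11

theorem pS5_g12 : allBelow chk5 9093 = true :=
  allBelow_extend (f := chk5) (lo := 8383) (len := 710) pS5_g11 pS5_c12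

theorem pS5_g13 : allBelow chk5 9799 = true :=
  allBelow_extend (f := chk5) (lo := 9093) (len := 706) pS5_g12 pS5_c13

theorem pS5_g14 : allBelow chk5 10462 = true :=
  allBelow_extend (f := chk5) (lo := 9799) (len := 663) pS5_g13 pS5_c14

theorem pS5_g15 : allBelow chk5 11115 = true :=
  allBelow_extend (f := chk5) (lo := 10462) (len := 653) pS5_g14 pS5_c15

theorem pS5_g16 : allBelow chk5 11825 = true :=
  allBelow_extend (f := chk5) (lo := 11115) (len := 710) pS5_g15 pS5_c16

theorem pS5_g17 : allBelow chk5 12585 = true :=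
  allBelow_extend (f := chk5) (lo := 11825) (len := 760) pS5_g16 pS5_c17

theorem pS5_g18 : allBelow chk5 13231 = true :=
  allBelow_extend (f := chk5) (lo := 12585) (len := 646) pS5_g17 pS5_c18

theorem pS5_g19 : allBelow chk5 13899 = true :=
  allBelow_extend (f := chk5) (lo := 13231) (len := 668) pS5_g18 pS5_c19

theorem pS5_g20 : allBelow chk5 14636 = true :=
  allBelow_extend (f := chk5) (lo := 13899) (len := 737) pS5_g19 pS5_c20

theorem pS5_g21 : allBelow chk5 15389 = true :=
  allBelow_extend (f := chk5) (lo := 14636) (len := 753) pS5_g20 pS5_c21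

theorem pS5_g22 : allBelow chk5 16076 = true :=
  allBelow_extend (f := chk5) (lo := 15389) (len := 687) pS5_g21 pS5_c22

theorem pS5_g23 : allBelow chk5 16782 = true :=
  allBelow_extend (f := chk5) (lo := 16076) (len := 706) pS5_g22 pS5_c23

theorem pS5_g24 : allBelow chk5 17558 = true :=
  allBelow_extend (f := chk5) (lo := 16782) (len := 776) pS5_g23 pS5_c24

theorem pS5_g25 : allBelow chk5 18301 = true :=
  allBelow_extend (f := chk5) (lo := 17558) (len := 743) pS5_g24 pS5_c25

theorem pS5_g26 : allBelow chk5 18993 = true :=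
  allBelow_extend (f := chk5) (lo := 18301) (len := 692) pS5_g25 pS5_c26

theorem pS5_g27 : allBelow chk5 19739 = true :=
  allBelow_extend (f := chk5) (lo := 18993) (len := 746) pS5_g26 pS5_c27

theorem pS5_g28 : allBelow chk5 20542 = true :=
  allBelow_extend (f := chk5) (lo := 19739) (len := 803) pS5_g27 pS5_c28

theorem pS5_g29 : allBelow chk5 21263 = true :=
  allBelow_extend (f := chk5) (lo := 20542) (len := 721) pS5_g28 pS5_c29

theorem pS5_g30 : allBelow chk5 21936 = true :=
  allBelow_extend (f := chk5) (lo := 21263) (len := 673) pS5_g29 pS5_c30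

theorem pS5_g31 : allBelow chk5 22625 = true :=
  allBelow_extend (f := chk5) (lo := 21936) (len := 689) pS5_g30 pS5_c31

theorem pS5_g32 : allBelow chk5 23387 = true :=
  allBelow_extend (f := chk5) (lo := 22625) (len := 762) pS5_g31 pS5_c32

theorem pS5_g33 : allBelow chk5 24129 = true :=
  allBelow_extend (f := chk5) (lo := 23387) (len := 742) pS5_g32 pS5_c33

theorem pS5_g34 : allBelow chk5 24795 = true :=
  allBelow_extend (f := chk5) (lo := 24129) (len := 666) pS5_g33 pS5_c34

theorem pS5_g35 : allBelow chk5 25517 = true :=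
  allBelow_extend (f := chk5) (lo := 24795) (len := 722) pS5_g34 pS5_c35

theorem pS5_g36 : allBelow chk5 26292 = true :=
  allBelow_extend (f := chk5) (lo := 25517) (len := 775) pS5_g35 pS5_c36

theorem pS5_g37 : allBelow chk5 27034 = true :=
  allBelow_extend (f := chk5) (lo := 26292) (len := 742) pS5_g36 pS5_c37

theorem pS5_g38 : allBelow chk5 27751 = true :=
  allBelow_extend (f := chk5) (lo := 27034) (len := 717) pS5_g37 pS5_c38

theorem pS5_g39 : allBelow chk5 28530 = true :=
  allBelow_extend (f := chk5) (lo := 27751) (len := 779) pS5_g38 pS5_c39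

theorem pS5_g40 : allBelow chk5 29337 = true :=
  allBelow_extend (f := chk5) (lo := 28530) (len := 807) pS5_g39 pS5_c40

theorem pS5_g41 : allBelow chk5 30048 = true :=
  allBelow_extend (f := chk5) (lo := 29337) (len := 711) pS5_g40 pS5_c41

theorem pS5_g42 : allBelow chk5 30801 = true :=
  allBelow_extend (f := chk5) (lo := 30048) (len := 753) pS5_g41 pS5_c42

theorem pS5_g43 : allBelow chk5 31619 = true :=
  allBelow_extend (f := chk5) (lo := 30801) (len := 818) pS5_g42 pS5_c43

theorem pS5_g44 : allBelow chk5 32396 = true :=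
  allBelow_extend (f := chk5) (lo := 31619) (len := 777) pS5_g43 pS5_c44

theorem pS5_g45 : allBelow chk5 33162 = true :=
  allBelow_extend (f := chk5) (lo := 32396) (len := 766) pS5_g44 pS5_c45

theorem pS5_g46 : allBelow chk5 33926 = true :=
  allBelow_extend (f := chk5) (lo := 33162) (len := 764) pS5_g45 pS5_c46

theorem pS5_g47 : allBelow chk5 34688 = true :=
  allBelow_extend (f := chk5) (lo := 33926) (len := 762) pS5_g46 pS5_c47

theorem pS5_g48 : allBelow chk5 35451 = true :=
  allBelow_extend (f := chk5) (lo := 34688) (len := 763) pS5_g47 pS5_c48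

theorem pS5_g49 : allBelow chk5 36224 = true :=
  allBelow_extend (f := chk5) (lo := 35451) (len := 773) pS5_g48 pS5_c49

theorem pS5_g50 : allBelow chk5 37004 = true :=
  allBelow_extend (f := chk5) (lo := 36224) (len := 780) pS5_g49 pS5_c50

theorem pS5_g51 : allBelow chk5 37775 = true :=
  allBelow_extend (f := chk5) (lo := 37004) (len := 771) pS5_g50 pS5_c51

theorem pS5_g52 : allBelow chk5 38543 = true :=
  allBelow_extend (f := chk5) (lo := 37775) (len := 768) pS5_g51 pS5_c52

theorem pS5_g53 : allBelow chk5 39310 = true :=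
  allBelow_extend (f := chk5) (lo := 38543) (len := 767) pS5_g52 pS5_c53

theorem pS5_g54 : allBelow chk5 40062 = true :=
  allBelow_extend (f := chk5) (lo := 39310) (len := 752) pS5_g53 pS5_c54

theorem pS5_g55 : allBelow chk5 40811 = true :=
  allBelow_extend (f := chk5) (lo := 40062) (len := 749) pS5_g54 pS5_c55

theorem pS5_g56 : allBelow chk5 41620 = true :=
  allBelow_extend (f := chk5) (lo := 40811) (len := 809) pS5_g55 pS5_c56

theorem pS5_g57 : allBelow chk5 42393 = true :=
  allBelow_extend (f := chk5) (lo := 41620) (len := 773) pS5_g56 pS5_c57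

theorem pS5_g58 : allBelow chk5 43192 = true :=
  allBelow_extend (f := chk5) (lo := 42393) (len := 799) pS5_g57 pS5_c58

theorem pS5_g59 : allBelow chk5 43991 = true :=
  allBelow_extend (f := chk5) (lo := 43192) (len := 799) pS5_g58 pS5_c59

theorem pS5_g60 : allBelow chk5 44827 = true :=
  allBelow_extend (f := chk5) (lo := 43991) (len := 836) pS5_g59 pS5_c60

theorem pS5_g61 : allBelow chk5 45606 = true :=
  allBelow_extend (f := chk5) (lo := 44827) (len := 779) pS5_g60 pS5_c61

theorem pS5_g62 : allBelow chk5 46364 = true :=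
  allBelow_extend (f := chk5) (lo := 45606) (len := 758) pS5_g61 pS5_c62

theorem pS5_g63 : allBelow chk5 47156 = true :=
  allBelow_extend (f := chk5) (lo := 46364) (len := 792) pS5_g62 pS5_c63

theorem pS5_g64 : allBelow chk5 47955 = true :=
  allBelow_extend (f := chk5) (lo := 47156) (len := 799) pS5_g63 pS5_c64

theorem pS5_g65 : allBelow chk5 48767 = true :=
  allBelow_extend (f := chk5) (lo := 47955) (len := 812) pS5_g64 pS5_c65

theorem pS5_g66 : allBelow chk5 49567 = true :=
  allBelow_extend (f := chk5) (lo := 48767) (len := 800) pS5_g65 pS5_c66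

theorem pS5_g67 : allBelow chk5 50378 = true :=
  allBelow_extend (f := chk5) (lo := 49567) (len := 811) pS5_g66 pS5_c67

theorem pS5_g68 : allBelow chk5 51199 = true :=
  allBelow_extend (f := chk5) (lo := 50378) (len := 821) pS5_g67 pS5_c68

theorem pS5_g69 : allBelow chk5 52040 = true :=
  allBelow_extend (f := chk5) (lo := 51199) (len := 841) pS5_g68 pS5_c69

theorem pS5_g70 : allBelow chk5 52904 = true :=
  allBelow_extend (f := chk5) (lo := 52040) (len := 864) pS5_g69 pS5_c70

theorem pS5_g71 : allBelow chk5 53757 = true :=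
  allBelow_extend (f := chk5) (lo := 52904) (len := 853) pS5_g70 pS5_c71

theorem pS5_g72 : allBelow chk5 54557 = true :=
  allBelow_extend (f := chk5) (lo := 53757) (len := 800) pS5_g71 pS5_c72

theorem pS5_g73 : allBelow chk5 55380 = true :=
  allBelow_extend (f := chk5) (lo := 54557) (len := 823) pS5_g72 pS5_c73

theorem pS5_g74 : allBelow chk5 56249 = true :=
  allBelow_extend (f := chk5) (lo := 55380) (len := 869) pS5_g73 pS5_c74

theorem pS5_g75 : allBelow chk5 57090 = true :=
  allBelow_extend (f := chk5) (lo := 56249) (len := 841) pS5_g74 pS5_c75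

theorem pS5_g76 : allBelow chk5 57933 = true :=
  allBelow_extend (f := chk5) (lo := 57090) (len := 843) pS5_g75 pS5_c76

theorem pS5_g77 : allBelow chk5 58793 = true :=
  allBelow_extend (f := chk5) (lo := 57933) (len := 860) pS5_g76 pS5_c77

theorem pS5_g78 : allBelow chk5 59655 = true :=
  allBelow_extend (f := chk5) (lo := 58793) (len := 862) pS5_g77 pS5_c78

theorem pS5_g79 : allBelow chk5 60481 = true :=
  allBelow_extend (f := chk5) (lo := 59655) (len := 826) pS5_g78 pS5_c79

theorem pS5_g80 : allBelow chk5 61338 = true :=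
  allBelow_extend (f := chk5) (lo := 60481) (len := 857) pS5_g79 pS5_c80

theorem pS5_g81 : allBelow chk5 62170 = true :=
  allBelow_extend (f := chk5) (lo := 61338) (len := 832) pS5_g80 pS5_c81

theorem pS5_g82 : allBelow chk5 63034 = true :=
  allBelow_extend (f := chk5) (lo := 62170) (len := 864) pS5_g81 pS5_c82

theorem pS5_g83 : allBelow chk5 63919 = true :=
  allBelow_extend (f := chk5) (lo := 63034) (len := 885) pS5_g82 pS5_c83

theorem pS5_g84 : allBelow chk5 64788 = true :=
  allBelow_extend (f := chk5) (lo := 63919) (len := 869) pS5_g83 pS5_c84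

theorem pS5_g85 : allBelow chk5 65671 = true :=
  allBelow_extend (f := chk5) (lo := 64788) (len := 883) pS5_g84 pS5_c85

theorem pS5_g86 : allBelow chk5 66518 = true :=
  allBelow_extend (f := chk5) (lo := 65671) (len := 847) pS5_g85 pS5_c86

theorem pS5_g87 : allBelow chk5 67326 = true :=
  allBelow_extend (f := chk5) (lo := 66518) (len := 808) pS5_g86 pS5_c87

theorem pS5_g88 : allBelow chk5 68179 = true :=
  allBelow_extend (f := chk5) (lo := 67326) (len := 853) pS5_g87 pS5_c88

theorem pS5_g89 : allBelow chk5 69094 = true :=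
  allBelow_extend (f := chk5) (lo := 68179) (len := 915) pS5_g88 pS5_c89

theorem pS5_g90 : allBelow chk5 69910 = true :=
  allBelow_extend (f := chk5) (lo := 69094) (len := 816) pS5_g89 pS5_c90

theorem pS5_g91 : allBelow chk5 70777 = true :=
  allBelow_extend (f := chk5) (lo := 69910) (len := 867) pS5_g90 pS5_c91

theorem pS5_g92 : allBelow chk5 71733 = true :=
  allBelow_extend (f := chk5) (lo := 70777) (len := 956) pS5_g91 pS5_c92

theorem pS5_g93 : allBelow chk5 72617 = true :=
  allBelow_extend (f := chk5) (lo := 71733) (len := 884) pS5_g92 pS5_c93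

theorem pS5_g94 : allBelow chk5 73531 = true :=
  allBelow_extend (f := chk5) (lo := 72617) (len := 914) pS5_g93 pS5_c94

theorem pS5_g95 : allBelow chk5 74514 = true :=
  allBelow_extend (f := chk5) (lo := 73531) (len := 983) pS5_g94 pS5_c95

theorem pS5_g96 : allBelow chk5 75411 = true :=
  allBelow_extend (f := chk5) (lo := 74514) (len := 897) pS5_g95 pS5_c96

theorem pS5_g97 : allBelow chk5 76379 = true :=
  allBelow_extend (f := chk5) (lo := 75411) (len := 968) pS5_g96 pS5_c97

theorem pS5_g98 : allBelow chk5 77390 = true :=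
  allBelow_extend (f := chk5) (lo := 76379) (len := 1011) pS5_g97 pS5_c98

theorem pS5_g99 : allBelow chk5 78241 = true :=
  allBelow_extend (f := chk5) (lo := 77390) (len := 851) pS5_g98 pS5_c99

theorem pS5_g100 : allBelow chk5 79096 = true :=
  allBelow_extend (f := chk5) (lo := 78241) (len := 855) pS5_g99 pS5_c100

theorem pS5_g101 : allBelow chk5 80055 = true :=
  allBelow_extend (f := chk5) (lo := 79096) (len := 959) pS5_g100 pS5_c101

theorem pS5_g102 : allBelow chk5 80932 = true :=
  allBelow_extend (f := chk5) (lo := 80055) (len := 877) pS5_g101 pS5_c102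

theorem pS5_g103 : allBelow chk5 81819 = true :=
  allBelow_extend (f := chk5) (lo := 80932) (len := 887) pS5_g102 pS5_c103

theorem pS5_g104 : allBelow chk5 82801 = true :=
  allBelow_extend (f := chk5) (lo := 81819) (len := 982) pS5_g103 pS5_c104

theorem pS5_g105 : allBelow chk5 83744 = true :=
  allBelow_extend (f := chk5) (lo := 82801) (len := 943) pS5_g104 pS5_c105

theorem pS5_g106 : allBelow chk5 84722 = true :=
  allBelow_extend (f := chk5) (lo := 83744) (len := 978) pS5_g105 pS5_c106

theorem pS5_g107 : allBelow chk5 85768 = true :=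
  allBelow_extend (f := chk5) (lo := 84722) (len := 1046) pS5_g106 pS5_c107

theorem pS5_g108 : allBelow chk5 86706 = true :=
  allBelow_extend (f := chk5) (lo := 85768) (len := 938) pS5_g107 pS5_c108

theorem pS5_g109 : allBelow chk5 87732 = true :=
  allBelow_extend (f := chk5) (lo := 86706) (len := 1026) pS5_g108 pS5_c109

theorem pS5_g110 : allBelow chk5 88793 = true :=
  allBelow_extend (f := chk5) (lo := 87732) (len := 1061) pS5_g109 pS5_c110

theorem pS5_g111 : allBelow chk5 89787 = true :=
  allBelow_extend (f := chk5) (lo := 88793) (len := 994) pS5_g110 pS5_c111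

theorem pS5_g112 : allBelow chk5 90768 = true :=
  allBelow_extend (f := chk5) (lo := 89787) (len := 981) pS5_g111 pS5_c112

theorem pS5_g113 : allBelow chk5 91756 = true :=
  allBelow_extend (f := chk5) (lo := 90768) (len := 988) pS5_g112 pS5_c113

theorem pS5_g114 : allBelow chk5 92772 = true :=
  allBelow_extend (f := chk5) (lo := 91756) (len := 1016) pS5_g113 pS5_c114

theorem pS5_g115 : allBelow chk5 93787 = true :=
  allBelow_extend (f := chk5) (lo := 92772) (len := 1015) pS5_g114 pS5_c115

theorem pS5_g116 : allBelow chk5 94834 = true :=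
  allBelow_extend (f := chk5) (lo := 93787) (len := 1047) pS5_g115 pS5_c116

theorem pS5_g117 : allBelow chk5 95896 = true :=
  allBelow_extend (f := chk5) (lo := 94834) (len := 1062) pS5_g116 pS5_c117

theorem pS5_g118 : allBelow chk5 96950 = true :=
  allBelow_extend (f := chk5) (lo := 95896) (len := 1054) pS5_g117 pS5_c118

theorem pS5_g119 : allBelow chk5 98052 = true :=
  allBelow_extend (f := chk5) (lo := 96950) (len := 1102) pS5_g118 pS5_c119

theorem pS5_g120 : allBelow chk5 98280 = true :=
  allBelow_extend (f := chk5) (lo := 98052) (len := 228) pS5_g119 pS5_c120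

theorem pS5_all : allBelow chk5 98280 = true := pS5_g120

theorem pS6_g0 : allBelow chk6 673 = true :=
  allBelow_extend (f := chk6) (lo := 0) (len := 673) (allBelow_zero chk6) pS6_c0

theorem pS6_g1 : allBelow chk6 1349 = true :=
  allBelow_extend (f := chk6) (lo := 673) (len := 676) pS6_g0 pS6_c1

theorem pS6_g2 : allBelow chk6 2025 = true :=
  allBelow_extend (f := chk6) (lo := 1349) (len := 676) pS6_g1 pS6_c2

theorem pS6_g3 : allBelow chk6 2704 = true :=
  allBelow_extend (f := chk6) (lo := 2025) (len := 679) pS6_g2 pS6_c3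

theorem pS6_g4 : allBelow chk6 3389 = true :=
  allBelow_extend (f := chk6) (lo := 2704) (len := 685) pS6_g3 pS6_c4

theorem pS6_g5 : allBelow chk6 4072 = true :=
  allBelow_extend (f := chk6) (lo := 3389) (len := 683) pS6_g4 pS6_c5

theorem pS6_g6 : allBelow chk6 4755 = true :=
  allBelow_extend (f := chk6) (lo := 4072) (len := 683) pS6_g5 pS6_c6

theorem pS6_g7 : allBelow chk6 5448 = true :=
  allBelow_extend (f := chk6) (lo := 4755) (len := 693) pS6_g6 pS6_c7

theorem pS6_g8 : allBelow chk6 6151 = true :=
  allBelow_extend (f := chk6) (lo := 5448) (len := 703) pS6_g7 pS6_c8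

theorem pS6_g9 : allBelow chk6 6835 = true :=
  allBelow_extend (f := chk6) (lo := 6151) (len := 684) pS6_g8 pS6_c9

theorem pS6_g10 : allBelow chk6 7548 = true :=
  allBelow_extend (f := chk6) (lo := 6835) (len := 713) pS6_g9 pS6_c10

theorem pS6_g11 : allBelow chk6 8255 = true :=
  allBelow_extend (f := chk6) (lo := 7548) (len := 707) pS6_g10 pS6_c11

theorem pS6_g12 : allBelow chk6 8952 = true :=
  allBelow_extend (f := chk6) (lo := 8255) (len := 697) pS6_g11 pS6_c12

theorem pS6_g13 : allBelow chk6 9663 = true :=
  allBelow_extend (f := chk6) (lo := 8952) (len := 711) pS6_g12 pS6_c13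

theorem pS6_g14 : allBelow chk6 10363 = true :=
  allBelow_extend (f := chk6) (lo := 9663) (len := 700) pS6_g13 pS6_c14

theorem pS6_g15 : allBelow chk6 11069 = true :=
  allBelow_extend (f := chk6) (lo := 10363) (len := 706) pS6_g14 pS6_c15

theorem pS6_g16 : allBelow chk6 11789 = true :=
  allBelow_extend (f := chk6) (lo := 11069) (len := 720) pS6_g15 pS6_c16

theorem pS6_g17 : allBelow chk6 12518 = true :=
  allBelow_extend (f := chk6) (lo := 11789) (len := 729) pS6_g16 pS6_c17

theorem pS6_g18 : allBelow chk6 13199 = true :=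
  allBelow_extend (f := chk6) (lo := 12518) (len := 681) pS6_g17 pS6_c18

theorem pS6_g19 : allBelow chk6 13899 = true :=
  allBelow_extend (f := chk6) (lo := 13199) (len := 700) pS6_g18 pS6_c19

theorem pS6_g20 : allBelow chk6 14609 = true :=
  allBelow_extend (f := chk6) (lo := 13899) (len := 710) pS6_g19 pS6_c20

theorem pS6_g21 : allBelow chk6 15338 = true :=
  allBelow_extend (f := chk6) (lo := 14609) (len := 729) pS6_g20 pS6_c21

theorem pS6_g22 : allBelow chk6 16065 = true :=
  allBelow_extend (f := chk6) (lo := 15338) (len := 727) pS6_g21 pS6_c22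

theorem pS6_g23 : allBelow chk6 16783 = true :=
  allBelow_extend (f := chk6) (lo := 16065) (len := 718) pS6_g22 pS6_c23

theorem pS6_g24 : allBelow chk6 17519 = true :=
  allBelow_extend (f := chk6) (lo := 16783) (len := 736) pS6_g23 pS6_c24

theorem pS6_g25 : allBelow chk6 18244 = true :=
  allBelow_extend (f := chk6) (lo := 17519) (len := 725) pS6_g24 pS6_c25

theorem pS6_g26 : allBelow chk6 18957 = true :=
  allBelow_extend (f := chk6) (lo := 18244) (len := 713) pS6_g25 pS6_c26

theorem pS6_g27 : allBelow chk6 19695 = true :=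
  allBelow_extend (f := chk6) (lo := 18957) (len := 738) pS6_g26 pS6_c27

theorem pS6_g28 : allBelow chk6 20443 = true :=
  allBelow_extend (f := chk6) (lo := 19695) (len := 748) pS6_g27 pS6_c28

theorem pS6_g29 : allBelow chk6 21183 = true :=
  allBelow_extend (f := chk6) (lo := 20443) (len := 740) pS6_g28 pS6_c29

theorem pS6_g30 : allBelow chk6 21915 = true :=
  allBelow_extend (f := chk6) (lo := 21183) (len := 732) pS6_g29 pS6_c30

theorem pS6_g31 : allBelow chk6 22660 = true :=
  allBelow_extend (f := chk6) (lo := 21915) (len := 745) pS6_g30 pS6_c31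

theorem pS6_g32 : allBelow chk6 23417 = true :=
  allBelow_extend (f := chk6) (lo := 22660) (len := 757) pS6_g31 pS6_c32

theorem pS6_g33 : allBelow chk6 24149 = true :=
  allBelow_extend (f := chk6) (lo := 23417) (len := 732) pS6_g32 pS6_c33

theorem pS6_g34 : allBelow chk6 24851 = true :=
  allBelow_extend (f := chk6) (lo := 24149) (len := 702) pS6_g33 pS6_c34

theorem pS6_g35 : allBelow chk6 25574 = true :=
  allBelow_extend (f := chk6) (lo := 24851) (len := 723) pS6_g34 pS6_c35

theorem pS6_g36 : allBelow chk6 26325 = true :=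
  allBelow_extend (f := chk6) (lo := 25574) (len := 751) pS6_g35 pS6_c36

theorem pS6_g37 : allBelow chk6 27086 = true :=
  allBelow_extend (f := chk6) (lo := 26325) (len := 761) pS6_g36 pS6_c37

theorem pS6_g38 : allBelow chk6 27831 = true :=
  allBelow_extend (f := chk6) (lo := 27086) (len := 745) pS6_g37 pS6_c38

theorem pS6_g39 : allBelow chk6 28615 = true :=
  allBelow_extend (f := chk6) (lo := 27831) (len := 784) pS6_g38 pS6_c39

theorem pS6_g40 : allBelow chk6 29383 = true :=
  allBelow_extend (f := chk6) (lo := 28615) (len := 768) pS6_g39 pS6_c40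

theorem pS6_g41 : allBelow chk6 30125 = true :=
  allBelow_extend (f := chk6) (lo := 29383) (len := 742) pS6_g40 pS6_c41

theorem pS6_g42 : allBelow chk6 30884 = true :=
  allBelow_extend (f := chk6) (lo := 30125) (len := 759) pS6_g41 pS6_c42

theorem pS6_g43 : allBelow chk6 31652 = true :=
  allBelow_extend (f := chk6) (lo := 30884) (len := 768) pS6_g42 pS6_c43

theorem pS6_g44 : allBelow chk6 32421 = true :=
  allBelow_extend (f := chk6) (lo := 31652) (len := 769) pS6_g43 pS6_c44

theorem pS6_g45 : allBelow chk6 33187 = true :=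
  allBelow_extend (f := chk6) (lo := 32421) (len := 766) pS6_g44 pS6_c45

theorem pS6_g46 : allBelow chk6 33967 = true :=
  allBelow_extend (f := chk6) (lo := 33187) (len := 780) pS6_g45 pS6_c46

theorem pS6_g47 : allBelow chk6 34723 = true :=
  allBelow_extend (f := chk6) (lo := 33967) (len := 756) pS6_g46 pS6_c47

theorem pS6_g48 : allBelow chk6 35497 = true :=
  allBelow_extend (f := chk6) (lo := 34723) (len := 774) pS6_g47 pS6_c48

theorem pS6_g49 : allBelow chk6 36282 = true :=
  allBelow_extend (f := chk6) (lo := 35497) (len := 785) pS6_g48 pS6_c49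

theorem pS6_g50 : allBelow chk6 37052 = true :=
  allBelow_extend (f := chk6) (lo := 36282) (len := 770) pS6_g49 pS6_c50

theorem pS6_g51 : allBelow chk6 37838 = true :=
  allBelow_extend (f := chk6) (lo := 37052) (len := 786) pS6_g50 pS6_c51

theorem pS6_g52 : allBelow chk6 38634 = true :=
  allBelow_extend (f := chk6) (lo := 37838) (len := 796) pS6_g51 pS6_c52

theorem pS6_g53 : allBelow chk6 39413 = true :=
  allBelow_extend (f := chk6) (lo := 38634) (len := 779) pS6_g52 pS6_c53

theorem pS6_g54 : allBelow chk6 40195 = true :=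
  allBelow_extend (f := chk6) (lo := 39413) (len := 782) pS6_g53 pS6_c54

theorem pS6_g55 : allBelow chk6 40987 = true :=
  allBelow_extend (f := chk6) (lo := 40195) (len := 792) pS6_g54 pS6_c55

theorem pS6_g56 : allBelow chk6 41771 = true :=
  allBelow_extend (f := chk6) (lo := 40987) (len := 784) pS6_g55 pS6_c56

theorem pS6_g57 : allBelow chk6 42560 = true :=
  allBelow_extend (f := chk6) (lo := 41771) (len := 789) pS6_g56 pS6_c57

theorem pS6_g58 : allBelow chk6 43395 = true :=
  allBelow_extend (f := chk6) (lo := 42560) (len := 835) pS6_g57 pS6_c58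

theorem pS6_g59 : allBelow chk6 44221 = true :=
  allBelow_extend (f := chk6) (lo := 43395) (len := 826) pS6_g58 pS6_c59

theorem pS6_g60 : allBelow chk6 45026 = true :=
  allBelow_extend (f := chk6) (lo := 44221) (len := 805) pS6_g59 pS6_c60

theorem pS6_g61 : allBelow chk6 45796 = true :=
  allBelow_extend (f := chk6) (lo := 45026) (len := 770) pS6_g60 pS6_c61

theorem pS6_g62 : allBelow chk6 46572 = true :=
  allBelow_extend (f := chk6) (lo := 45796) (len := 776) pS6_g61 pS6_c62

theorem pS6_g63 : allBelow chk6 47406 = true :=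
  allBelow_extend (f := chk6) (lo := 46572) (len := 834) pS6_g62 pS6_c63

theorem pS6_g64 : allBelow chk6 48238 = true :=
  allBelow_extend (f := chk6) (lo := 47406) (len := 832) pS6_g63 pS6_c64

theorem pS6_g65 : allBelow chk6 49071 = true :=
  allBelow_extend (f := chk6) (lo := 48238) (len := 833) pS6_g64 pS6_c65

theorem pS6_g66 : allBelow chk6 49885 = true :=
  allBelow_extend (f := chk6) (lo := 49071) (len := 814) pS6_g65 pS6_c66

theorem pS6_g67 : allBelow chk6 50702 = true :=
  allBelow_extend (f := chk6) (lo := 49885) (len := 817) pS6_g66 pS6_c67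

theorem pS6_g68 : allBelow chk6 51536 = true :=
  allBelow_extend (f := chk6) (lo := 50702) (len := 834) pS6_g67 pS6_c68

theorem pS6_g69 : allBelow chk6 52380 = true :=
  allBelow_extend (f := chk6) (lo := 51536) (len := 844) pS6_g68 pS6_c69

theorem pS6_g70 : allBelow chk6 53199 = true :=
  allBelow_extend (f := chk6) (lo := 52380) (len := 819) pS6_g69 pS6_c70

theorem pS6_g71 : allBelow chk6 53997 = true :=
  allBelow_extend (f := chk6) (lo := 53199) (len := 798) pS6_g70 pS6_c71

theorem pS6_g72 : allBelow chk6 54828 = true :=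
  allBelow_extend (f := chk6) (lo := 53997) (len := 831) pS6_g71 pS6_c72

theorem pS6_g73 : allBelow chk6 55656 = true :=
  allBelow_extend (f := chk6) (lo := 54828) (len := 828) pS6_g72 pS6_c73

theorem pS6_g74 : allBelow chk6 56521 = true :=
  allBelow_extend (f := chk6) (lo := 55656) (len := 865) pS6_g73 pS6_c74

theorem pS6_g75 : allBelow chk6 57367 = true :=
  allBelow_extend (f := chk6) (lo := 56521) (len := 846) pS6_g74 pS6_c75

theorem pS6_g76 : allBelow chk6 58242 = true :=
  allBelow_extend (f := chk6) (lo := 57367) (len := 875) pS6_g75 pS6_c76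

theorem pS6_g77 : allBelow chk6 59104 = true :=
  allBelow_extend (f := chk6) (lo := 58242) (len := 862) pS6_g76 pS6_c77

theorem pS6_g78 : allBelow chk6 59968 = true :=
  allBelow_extend (f := chk6) (lo := 59104) (len := 864) pS6_g77 pS6_c78

theorem pS6_g79 : allBelow chk6 60805 = true :=
  allBelow_extend (f := chk6) (lo := 59968) (len := 837) pS6_g78 pS6_c79

theorem pS6_g80 : allBelow chk6 61691 = true :=
  allBelow_extend (f := chk6) (lo := 60805) (len := 886) pS6_g79 pS6_c80

theorem pS6_g81 : allBelow chk6 62569 = true :=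
  allBelow_extend (f := chk6) (lo := 61691) (len := 878) pS6_g80 pS6_c81

theorem pS6_g82 : allBelow chk6 63432 = true :=
  allBelow_extend (f := chk6) (lo := 62569) (len := 863) pS6_g81 pS6_c82

theorem pS6_g83 : allBelow chk6 64290 = true :=
  allBelow_extend (f := chk6) (lo := 63432) (len := 858) pS6_g82 pS6_c83

theorem pS6_g84 : allBelow chk6 65181 = true :=
  allBelow_extend (f := chk6) (lo := 64290) (len := 891) pS6_g83 pS6_c84

theorem pS6_g85 : allBelow chk6 66051 = true :=
  allBelow_extend (f := chk6) (lo := 65181) (len := 870) pS6_g84 pS6_c85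

theorem pS6_g86 : allBelow chk6 66952 = true :=
  allBelow_extend (f := chk6) (lo := 66051) (len := 901) pS6_g85 pS6_c86

theorem pS6_g87 : allBelow chk6 67853 = true :=
  allBelow_extend (f := chk6) (lo := 66952) (len := 901) pS6_g86 pS6_c87

theorem pS6_g88 : allBelow chk6 68747 = true :=
  allBelow_extend (f := chk6) (lo := 67853) (len := 894) pS6_g87 pS6_c88

theorem pS6_g89 : allBelow chk6 69632 = true :=
  allBelow_extend (f := chk6) (lo := 68747) (len := 885) pS6_g88 pS6_c89

theorem pS6_g90 : allBelow chk6 70526 = true :=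
  allBelow_extend (f := chk6) (lo := 69632) (len := 894) pS6_g89 pS6_c90

theorem pS6_g91 : allBelow chk6 71420 = true :=
  allBelow_extend (f := chk6) (lo := 70526) (len := 894) pS6_g90 pS6_c91

theorem pS6_g92 : allBelow chk6 72332 = true :=
  allBelow_extend (f := chk6) (lo := 71420) (len := 912) pS6_g91 pS6_c92

theorem pS6_g93 : allBelow chk6 73238 = true :=
  allBelow_extend (f := chk6) (lo := 72332) (len := 906) pS6_g92 pS6_c93

theorem pS6_g94 : allBelow chk6 74137 = true :=
  allBelow_extend (f := chk6) (lo := 73238) (len := 899) pS6_g93 pS6_c94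

theorem pS6_g95 : allBelow chk6 75040 = true :=
  allBelow_extend (f := chk6) (lo := 74137) (len := 903) pS6_g94 pS6_c95

theorem pS6_g96 : allBelow chk6 75932 = true :=
  allBelow_extend (f := chk6) (lo := 75040) (len := 892) pS6_g95 pS6_c96

theorem pS6_g97 : allBelow chk6 76857 = true :=
  allBelow_extend (f := chk6) (lo := 75932) (len := 925) pS6_g96 pS6_c97

theorem pS6_g98 : allBelow chk6 77787 = true :=
  allBelow_extend (f := chk6) (lo := 76857) (len := 930) pS6_g97 pS6_c98

theorem pS6_g99 : allBelow chk6 78736 = true :=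
  allBelow_extend (f := chk6) (lo := 77787) (len := 949) pS6_g98 pS6_c99

theorem pS6_g100 : allBelow chk6 79688 = true :=
  allBelow_extend (f := chk6) (lo := 78736) (len := 952) pS6_g99 pS6_c100

theorem pS6_g101 : allBelow chk6 80620 = true :=
  allBelow_extend (f := chk6) (lo := 79688) (len := 932) pS6_g100 pS6_c101

theorem pS6_g102 : allBelow chk6 81513 = true :=
  allBelow_extend (f := chk6) (lo := 80620) (len := 893) pS6_g101 pS6_c102

theorem pS6_g103 : allBelow chk6 82457 = true :=
  allBelow_extend (f := chk6) (lo := 81513) (len := 944) pS6_g102 pS6_c103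

theorem pS6_g104 : allBelow chk6 83413 = true :=
  allBelow_extend (f := chk6) (lo := 82457) (len := 956) pS6_g103 pS6_c104

theorem pS6_g105 : allBelow chk6 84366 = true :=
  allBelow_extend (f := chk6) (lo := 83413) (len := 953) pS6_g104 pS6_c105

theorem pS6_g106 : allBelow chk6 85357 = true :=
  allBelow_extend (f := chk6) (lo := 84366) (len := 991) pS6_g105 pS6_c106

theorem pS6_g107 : allBelow chk6 86292 = true :=
  allBelow_extend (f := chk6) (lo := 85357) (len := 935) pS6_g106 pS6_c107

theorem pS6_g108 : allBelow chk6 87235 = true :=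
  allBelow_extend (f := chk6) (lo := 86292) (len := 943) pS6_g107 pS6_c108

theorem pS6_g109 : allBelow chk6 88196 = true :=
  allBelow_extend (f := chk6) (lo := 87235) (len := 961) pS6_g108 pS6_c109

theorem pS6_g110 : allBelow chk6 89167 = true :=
  allBelow_extend (f := chk6) (lo := 88196) (len := 971) pS6_g109 pS6_c110

theorem pS6_g111 : allBelow chk6 90127 = true :=
  allBelow_extend (f := chk6) (lo := 89167) (len := 960) pS6_g110 pS6_c111

theorem pS6_g112 : allBelow chk6 91110 = true :=
  allBelow_extend (f := chk6) (lo := 90127) (len := 983) pS6_g111 pS6_c112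

theorem pS6_g113 : allBelow chk6 92093 = true :=
  allBelow_extend (f := chk6) (lo := 91110) (len := 983) pS6_g112 pS6_c113

theorem pS6_g114 : allBelow chk6 93087 = true :=
  allBelow_extend (f := chk6) (lo := 92093) (len := 994) pS6_g113 pS6_c114

theorem pS6_g115 : allBelow chk6 94081 = true :=
  allBelow_extend (f := chk6) (lo := 93087) (len := 994) pS6_g114 pS6_c115

theorem pS6_g116 : allBelow chk6 95048 = true :=
  allBelow_extend (f := chk6) (lo := 94081) (len := 967) pS6_g115 pS6_c116

theorem pS6_g117 : allBelow chk6 96045 = true :=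
  allBelow_extend (f := chk6) (lo := 95048) (len := 997) pS6_g116 pS6_c117

theorem pS6_g118 : allBelow chk6 97056 = true :=
  allBelow_extend (f := chk6) (lo := 96045) (len := 1011) pS6_g117 pS6_c118

theorem pS6_g119 : allBelow chk6 98081 = true :=
  allBelow_extend (f := chk6) (lo := 97056) (len := 1025) pS6_g118 pS6_c119

theorem pS6_g120 : allBelow chk6 98280 = true :=
  allBelow_extend (f := chk6) (lo := 98081) (len := 199) pS6_g119 pS6_c120

theorem pS6_all : allBelow chk6 98280 = true := pS6_g120

theorem pS7_g0 : allBelow chk7 617 = true :=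
  allBelow_extend (f := chk7) (lo := 0) (len := 617) (allBelow_zero chk7) pS7_c0

theorem pS7_g1 : allBelow chk7 1241 = true :=
  allBelow_extend (f := chk7) (lo := 617) (len := 624) pS7_g0 pS7_c1

theorem pS7_g2 : allBelow chk7 1886 = true :=
  allBelow_extend (f := chk7) (lo := 1241) (len := 645) pS7_g1 pS7_c2

theorem pS7_g3 : allBelow chk7 2532 = true :=
  allBelow_extend (f := chk7) (lo := 1886) (len := 646) pS7_g2 pS7_c3

theorem pS7_g4 : allBelow chk7 3173 = true :=
  allBelow_extend (f := chk7) (lo := 2532) (len := 641) pS7_g3 pS7_c4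

theorem pS7_g5 : allBelow chk7 3821 = true :=
  allBelow_extend (f := chk7) (lo := 3173) (len := 648) pS7_g4 pS7_c5

theorem pS7_g6 : allBelow chk7 4431 = true :=
  allBelow_extend (f := chk7) (lo := 3821) (len := 610) pS7_g5 pS7_c6

theorem pS7_g7 : allBelow chk7 5063 = true :=
  allBelow_extend (f := chk7) (lo := 4431) (len := 632) pS7_g6 pS7_c7

theorem pS7_g8 : allBelow chk7 5709 = true :=
  allBelow_extend (f := chk7) (lo := 5063) (len := 646) pS7_g7 pS7_c8

theorem pS7_g9 : allBelow chk7 6373 = true :=
  allBelow_extend (f := chk7) (lo := 5709) (len := 664) pS7_g8 pS7_c9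

theorem pS7_g10 : allBelow chk7 6994 = true :=
  allBelow_extend (f := chk7) (lo := 6373) (len := 621) pS7_g9 pS7_c10

theorem pS7_g11 : allBelow chk7 7646 = true :=
  allBelow_extend (f := chk7) (lo := 6994) (len := 652) pS7_g10 pS7_c11

theorem pS7_g12 : allBelow chk7 8303 = true :=
  allBelow_extend (f := chk7) (lo := 7646) (len := 657) pS7_g11 pS7_c12

theorem pS7_g13 : allBelow chk7 8956 = true :=
  allBelow_extend (f := chk7) (lo := 8303) (len := 653) pS7_g12 pS7_c13

theorem pS7_g14 : allBelow chk7 9631 = true :=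
  allBelow_extend (f := chk7) (lo := 8956) (len := 675) pS7_g13 pS7_c14

theorem pS7_g15 : allBelow chk7 10274 = true :=
  allBelow_extend (f := chk7) (lo := 9631) (len := 643) pS7_g14 pS7_c15

theorem pS7_g16 : allBelow chk7 10933 = true :=
  allBelow_extend (f := chk7) (lo := 10274) (len := 659) pS7_g15 pS7_c16

theorem pS7_g17 : allBelow chk7 11588 = true :=
  allBelow_extend (f := chk7) (lo := 10933) (len := 655) pS7_g16 pS7_c17

theorem pS7_g18 : allBelow chk7 12263 = true :=
  allBelow_extend (f := chk7) (lo := 11588) (len := 675) pS7_g17 pS7_c18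

theorem pS7_g19 : allBelow chk7 12913 = true :=
  allBelow_extend (f := chk7) (lo := 12263) (len := 650) pS7_g18 pS7_c19

theorem pS7_g20 : allBelow chk7 13550 = true :=
  allBelow_extend (f := chk7) (lo := 12913) (len := 637) pS7_g19 pS7_c20

theorem pS7_g21 : allBelow chk7 14188 = true :=
  allBelow_extend (f := chk7) (lo := 13550) (len := 638) pS7_g20 pS7_c21

theorem pS7_g22 : allBelow chk7 14843 = true :=
  allBelow_extend (f := chk7) (lo := 14188) (len := 655) pS7_g21 pS7_c22

theorem pS7_g23 : allBelow chk7 15517 = true :=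
  allBelow_extend (f := chk7) (lo := 14843) (len := 674) pS7_g22 pS7_c23

theorem pS7_g24 : allBelow chk7 16189 = true :=
  allBelow_extend (f := chk7) (lo := 15517) (len := 672) pS7_g23 pS7_c24

theorem pS7_g25 : allBelow chk7 16867 = true :=
  allBelow_extend (f := chk7) (lo := 16189) (len := 678) pS7_g24 pS7_c25

theorem pS7_g26 : allBelow chk7 17574 = true :=
  allBelow_extend (f := chk7) (lo := 16867) (len := 707) pS7_g25 pS7_c26

theorem pS7_g27 : allBelow chk7 18241 = true :=
  allBelow_extend (f := chk7) (lo := 17574) (len := 667) pS7_g26 pS7_c27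

theorem pS7_g28 : allBelow chk7 18893 = true :=
  allBelow_extend (f := chk7) (lo := 18241) (len := 652) pS7_g27 pS7_c28

theorem pS7_g29 : allBelow chk7 19548 = true :=
  allBelow_extend (f := chk7) (lo := 18893) (len := 655) pS7_g28 pS7_c29

theorem pS7_g30 : allBelow chk7 20227 = true :=
  allBelow_extend (f := chk7) (lo := 19548) (len := 679) pS7_g29 pS7_c30

theorem pS7_g31 : allBelow chk7 20920 = true :=
  allBelow_extend (f := chk7) (lo := 20227) (len := 693) pS7_g30 pS7_c31

theorem pS7_g32 : allBelow chk7 21584 = true :=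
  allBelow_extend (f := chk7) (lo := 20920) (len := 664) pS7_g31 pS7_c32

theorem pS7_g33 : allBelow chk7 22271 = true :=
  allBelow_extend (f := chk7) (lo := 21584) (len := 687) pS7_g32 pS7_c33

theorem pS7_g34 : allBelow chk7 22945 = true :=
  allBelow_extend (f := chk7) (lo := 22271) (len := 674) pS7_g33 pS7_c34

theorem pS7_g35 : allBelow chk7 23639 = true :=
  allBelow_extend (f := chk7) (lo := 22945) (len := 694) pS7_g34 pS7_c35

theorem pS7_g36 : allBelow chk7 24299 = true :=
  allBelow_extend (f := chk7) (lo := 23639) (len := 660) pS7_g35 pS7_c36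

theorem pS7_g37 : allBelow chk7 24975 = true :=
  allBelow_extend (f := chk7) (lo := 24299) (len := 676) pS7_g36 pS7_c37

theorem pS7_g38 : allBelow chk7 25633 = true :=
  allBelow_extend (f := chk7) (lo := 24975) (len := 658) pS7_g37 pS7_c38

theorem pS7_g39 : allBelow chk7 26333 = true :=
  allBelow_extend (f := chk7) (lo := 25633) (len := 700) pS7_g38 pS7_c39

theorem pS7_g40 : allBelow chk7 27014 = true :=
  allBelow_extend (f := chk7) (lo := 26333) (len := 681) pS7_g39 pS7_c40

theorem pS7_g41 : allBelow chk7 27713 = true :=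
  allBelow_extend (f := chk7) (lo := 27014) (len := 699) pS7_g40 pS7_c41

theorem pS7_g42 : allBelow chk7 28408 = true :=
  allBelow_extend (f := chk7) (lo := 27713) (len := 695) pS7_g41 pS7_c42

theorem pS7_g43 : allBelow chk7 29131 = true :=
  allBelow_extend (f := chk7) (lo := 28408) (len := 723) pS7_g42 pS7_c43

theorem pS7_g44 : allBelow chk7 29787 = true :=
  allBelow_extend (f := chk7) (lo := 29131) (len := 656) pS7_g43 pS7_c44

theorem pS7_g45 : allBelow chk7 30467 = true :=
  allBelow_extend (f := chk7) (lo := 29787) (len := 680) pS7_g44 pS7_c45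

theorem pS7_g46 : allBelow chk7 31142 = true :=
  allBelow_extend (f := chk7) (lo := 30467) (len := 675) pS7_g45 pS7_c46

theorem pS7_g47 : allBelow chk7 31846 = true :=
  allBelow_extend (f := chk7) (lo := 31142) (len := 704) pS7_g46 pS7_c47

theorem pS7_g48 : allBelow chk7 32565 = true :=
  allBelow_extend (f := chk7) (lo := 31846) (len := 719) pS7_g47 pS7_c48

theorem pS7_g49 : allBelow chk7 33278 = true :=
  allBelow_extend (f := chk7) (lo := 32565) (len := 713) pS7_g48 pS7_c49

theorem pS7_g50 : allBelow chk7 34011 = true :=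
  allBelow_extend (f := chk7) (lo := 33278) (len := 733) pS7_g49 pS7_c50

theorem pS7_g51 : allBelow chk7 34729 = true :=
  allBelow_extend (f := chk7) (lo := 34011) (len := 718) pS7_g50 pS7_c51

theorem pS7_g52 : allBelow chk7 35466 = true :=
  allBelow_extend (f := chk7) (lo := 34729) (len := 737) pS7_g51 pS7_c52

theorem pS7_g53 : allBelow chk7 36208 = true :=
  allBelow_extend (f := chk7) (lo := 35466) (len := 742) pS7_g52 pS7_c53

theorem pS7_g54 : allBelow chk7 36957 = true :=
  allBelow_extend (f := chk7) (lo := 36208) (len := 749) pS7_g53 pS7_c54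

theorem pS7_g55 : allBelow chk7 37692 = true :=
  allBelow_extend (f := chk7) (lo := 36957) (len := 735) pS7_g54 pS7_c55

theorem pS7_g56 : allBelow chk7 38455 = true :=
  allBelow_extend (f := chk7) (lo := 37692) (len := 763) pS7_g55 pS7_c56

theorem pS7_g57 : allBelow chk7 39159 = true :=
  allBelow_extend (f := chk7) (lo := 38455) (len := 704) pS7_g56 pS7_c57

theorem pS7_g58 : allBelow chk7 39865 = true :=
  allBelow_extend (f := chk7) (lo := 39159) (len := 706) pS7_g57 pS7_c58

theorem pS7_g59 : allBelow chk7 40572 = true :=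
  allBelow_extend (f := chk7) (lo := 39865) (len := 707) pS7_g58 pS7_c59

theorem pS7_g60 : allBelow chk7 41308 = true :=
  allBelow_extend (f := chk7) (lo := 40572) (len := 736) pS7_g59 pS7_c60

theorem pS7_g61 : allBelow chk7 42024 = true :=
  allBelow_extend (f := chk7) (lo := 41308) (len := 716) pS7_g60 pS7_c61

theorem pS7_g62 : allBelow chk7 42756 = true :=
  allBelow_extend (f := chk7) (lo := 42024) (len := 732) pS7_g61 pS7_c62

theorem pS7_g63 : allBelow chk7 43486 = true :=
  allBelow_extend (f := chk7) (lo := 42756) (len := 730) pS7_g62 pS7_c63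

theorem pS7_g64 : allBelow chk7 44226 = true :=
  allBelow_extend (f := chk7) (lo := 43486) (len := 740) pS7_g63 pS7_c64

theorem pS7_g65 : allBelow chk7 44949 = true :=
  allBelow_extend (f := chk7) (lo := 44226) (len := 723) pS7_g64 pS7_c65

theorem pS7_g66 : allBelow chk7 45670 = true :=
  allBelow_extend (f := chk7) (lo := 44949) (len := 721) pS7_g65 pS7_c66

theorem pS7_g67 : allBelow chk7 46395 = true :=
  allBelow_extend (f := chk7) (lo := 45670) (len := 725) pS7_g66 pS7_c67

theorem pS7_g68 : allBelow chk7 47101 = true :=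
  allBelow_extend (f := chk7) (lo := 46395) (len := 706) pS7_g67 pS7_c68

theorem pS7_g69 : allBelow chk7 47851 = true :=
  allBelow_extend (f := chk7) (lo := 47101) (len := 750) pS7_g68 pS7_c69

theorem pS7_g70 : allBelow chk7 48579 = true :=
  allBelow_extend (f := chk7) (lo := 47851) (len := 728) pS7_g69 pS7_c70

theorem pS7_g71 : allBelow chk7 49313 = true :=
  allBelow_extend (f := chk7) (lo := 48579) (len := 734) pS7_g70 pS7_c71

theorem pS7_g72 : allBelow chk7 50077 = true :=
  allBelow_extend (f := chk7) (lo := 49313) (len := 764) pS7_g71 pS7_c72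

theorem pS7_g73 : allBelow chk7 50827 = true :=
  allBelow_extend (f := chk7) (lo := 50077) (len := 750) pS7_g72 pS7_c73

theorem pS7_g74 : allBelow chk7 51607 = true :=
  allBelow_extend (f := chk7) (lo := 50827) (len := 780) pS7_g73 pS7_c74

theorem pS7_g75 : allBelow chk7 52355 = true :=
  allBelow_extend (f := chk7) (lo := 51607) (len := 748) pS7_g74 pS7_c75

theorem pS7_g76 : allBelow chk7 53137 = true :=
  allBelow_extend (f := chk7) (lo := 52355) (len := 782) pS7_g75 pS7_c76

theorem pS7_g77 : allBelow chk7 53885 = true :=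
  allBelow_extend (f := chk7) (lo := 53137) (len := 748) pS7_g76 pS7_c77

theorem pS7_g78 : allBelow chk7 54608 = true :=
  allBelow_extend (f := chk7) (lo := 53885) (len := 723) pS7_g77 pS7_c78

theorem pS7_g79 : allBelow chk7 55356 = true :=
  allBelow_extend (f := chk7) (lo := 54608) (len := 748) pS7_g78 pS7_c79

theorem pS7_g80 : allBelow chk7 56130 = true :=
  allBelow_extend (f := chk7) (lo := 55356) (len := 774) pS7_g79 pS7_c80

theorem pS7_g81 : allBelow chk7 56919 = true :=
  allBelow_extend (f := chk7) (lo := 56130) (len := 789) pS7_g80 pS7_c81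

theorem pS7_g82 : allBelow chk7 57701 = true :=
  allBelow_extend (f := chk7) (lo := 56919) (len := 782) pS7_g81 pS7_c82

theorem pS7_g83 : allBelow chk7 58487 = true :=
  allBelow_extend (f := chk7) (lo := 57701) (len := 786) pS7_g82 pS7_c83

theorem pS7_g84 : allBelow chk7 59294 = true :=
  allBelow_extend (f := chk7) (lo := 58487) (len := 807) pS7_g83 pS7_c84

theorem pS7_g85 : allBelow chk7 60067 = true :=
  allBelow_extend (f := chk7) (lo := 59294) (len := 773) pS7_g84 pS7_c85

theorem pS7_g86 : allBelow chk7 60864 = true :=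
  allBelow_extend (f := chk7) (lo := 60067) (len := 797) pS7_g85 pS7_c86

theorem pS7_g87 : allBelow chk7 61640 = true :=
  allBelow_extend (f := chk7) (lo := 60864) (len := 776) pS7_g86 pS7_c87

theorem pS7_g88 : allBelow chk7 62419 = true :=
  allBelow_extend (f := chk7) (lo := 61640) (len := 779) pS7_g87 pS7_c88

theorem pS7_g89 : allBelow chk7 63209 = true :=
  allBelow_extend (f := chk7) (lo := 62419) (len := 790) pS7_g88 pS7_c89

theorem pS7_g90 : allBelow chk7 64020 = true :=
  allBelow_extend (f := chk7) (lo := 63209) (len := 811) pS7_g89 pS7_c90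

theorem pS7_g91 : allBelow chk7 64811 = true :=
  allBelow_extend (f := chk7) (lo := 64020) (len := 791) pS7_g90 pS7_c91

theorem pS7_g92 : allBelow chk7 65618 = true :=
  allBelow_extend (f := chk7) (lo := 64811) (len := 807) pS7_g91 pS7_c92

theorem pS7_g93 : allBelow chk7 66452 = true :=
  allBelow_extend (f := chk7) (lo := 65618) (len := 834) pS7_g92 pS7_c93

theorem pS7_g94 : allBelow chk7 67239 = true :=
  allBelow_extend (f := chk7) (lo := 66452) (len := 787) pS7_g93 pS7_c94

theorem pS7_g95 : allBelow chk7 68053 = true :=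
  allBelow_extend (f := chk7) (lo := 67239) (len := 814) pS7_g94 pS7_c95

theorem pS7_g96 : allBelow chk7 68872 = true :=
  allBelow_extend (f := chk7) (lo := 68053) (len := 819) pS7_g95 pS7_c96

theorem pS7_g97 : allBelow chk7 69645 = true :=
  allBelow_extend (f := chk7) (lo := 68872) (len := 773) pS7_g96 pS7_c97

theorem pS7_g98 : allBelow chk7 70464 = true :=
  allBelow_extend (f := chk7) (lo := 69645) (len := 819) pS7_g97 pS7_c98

theorem pS7_g99 : allBelow chk7 71273 = true :=
  allBelow_extend (f := chk7) (lo := 70464) (len := 809) pS7_g98 pS7_c99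

theorem pS7_g100 : allBelow chk7 72111 = true :=
  allBelow_extend (f := chk7) (lo := 71273) (len := 838) pS7_g99 pS7_c100

theorem pS7_g101 : allBelow chk7 72972 = true :=
  allBelow_extend (f := chk7) (lo := 72111) (len := 861) pS7_g100 pS7_c101

theorem pS7_g102 : allBelow chk7 73833 = true :=
  allBelow_extend (f := chk7) (lo := 72972) (len := 861) pS7_g101 pS7_c102

theorem pS7_g103 : allBelow chk7 74691 = true :=
  allBelow_extend (f := chk7) (lo := 73833) (len := 858) pS7_g102 pS7_c103

theorem pS7_g104 : allBelow chk7 75520 = true :=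
  allBelow_extend (f := chk7) (lo := 74691) (len := 829) pS7_g103 pS7_c104

theorem pS7_g105 : allBelow chk7 76363 = true :=
  allBelow_extend (f := chk7) (lo := 75520) (len := 843) pS7_g104 pS7_c105

theorem pS7_g106 : allBelow chk7 77228 = true :=
  allBelow_extend (f := chk7) (lo := 76363) (len := 865) pS7_g105 pS7_c106

theorem pS7_g107 : allBelow chk7 78051 = true :=
  allBelow_extend (f := chk7) (lo := 77228) (len := 823) pS7_g106 pS7_c107

theorem pS7_g108 : allBelow chk7 78904 = true :=
  allBelow_extend (f := chk7) (lo := 78051) (len := 853) pS7_g107 pS7_c108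

theorem pS7_g109 : allBelow chk7 79715 = true :=
  allBelow_extend (f := chk7) (lo := 78904) (len := 811) pS7_g108 pS7_c109

theorem pS7_g110 : allBelow chk7 80546 = true :=
  allBelow_extend (f := chk7) (lo := 79715) (len := 831) pS7_g109 pS7_c110

theorem pS7_g111 : allBelow chk7 81392 = true :=
  allBelow_extend (f := chk7) (lo := 80546) (len := 846) pS7_g110 pS7_c111

theorem pS7_g112 : allBelow chk7 82218 = true :=
  allBelow_extend (f := chk7) (lo := 81392) (len := 826) pS7_g111 pS7_c112

theorem pS7_g113 : allBelow chk7 83080 = true :=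
  allBelow_extend (f := chk7) (lo := 82218) (len := 862) pS7_g112 pS7_c113

theorem pS7_g114 : allBelow chk7 83951 = true :=
  allBelow_extend (f := chk7) (lo := 83080) (len := 871) pS7_g113 pS7_c114

theorem pS7_g115 : allBelow chk7 84812 = true :=
  allBelow_extend (f := chk7) (lo := 83951) (len := 861) pS7_g114 pS7_c115

theorem pS7_g116 : allBelow chk7 85698 = true :=
  allBelow_extend (f := chk7) (lo := 84812) (len := 886) pS7_g115 pS7_c116

theorem pS7_g117 : allBelow chk7 86551 = true :=
  allBelow_extend (f := chk7) (lo := 85698) (len := 853) pS7_g116 pS7_c117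

theorem pS7_g118 : allBelow chk7 87401 = true :=
  allBelow_extend (f := chk7) (lo := 86551) (len := 850) pS7_g117 pS7_c118

theorem pS7_g119 : allBelow chk7 88286 = true :=
  allBelow_extend (f := chk7) (lo := 87401) (len := 885) pS7_g118 pS7_c119

theorem pS7_g120 : allBelow chk7 89194 = true :=
  allBelow_extend (f := chk7) (lo := 88286) (len := 908) pS7_g119 pS7_c120

theorem pS7_g121 : allBelow chk7 90108 = true :=
  allBelow_extend (f := chk7) (lo := 89194) (len := 914) pS7_g120 pS7_c121

theorem pS7_g122 : allBelow chk7 90988 = true :=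
  allBelow_extend (f := chk7) (lo := 90108) (len := 880) pS7_g121 pS7_c122

theorem pS7_g123 : allBelow chk7 91846 = true :=
  allBelow_extend (f := chk7) (lo := 90988) (len := 858) pS7_g122 pS7_c123

theorem pS7_g124 : allBelow chk7 92722 = true :=
  allBelow_extend (f := chk7) (lo := 91846) (len := 876) pS7_g123 pS7_c124

theorem pS7_g125 : allBelow chk7 93603 = true :=
  allBelow_extend (f := chk7) (lo := 92722) (len := 881) pS7_g124 pS7_c125

theorem pS7_g126 : allBelow chk7 94500 = true :=
  allBelow_extend (f := chk7) (lo := 93603) (len := 897) pS7_g125 pS7_c126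

theorem pS7_g127 : allBelow chk7 95401 = true :=
  allBelow_extend (f := chk7) (lo := 94500) (len := 901) pS7_g126 pS7_c127

theorem pS7_g128 : allBelow chk7 96321 = true :=
  allBelow_extend (f := chk7) (lo := 95401) (len := 920) pS7_g127 pS7_c128

theorem pS7_g129 : allBelow chk7 97233 = true :=
  allBelow_extend (f := chk7) (lo := 96321) (len := 912) pS7_g128 pS7_c129

theorem pS7_g130 : allBelow chk7 98155 = true :=
  allBelow_extend (f := chk7) (lo := 97233) (len := 922) pS7_g129 pS7_c130

theorem pS7_g131 : allBelow chk7 98280 = true :=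
  allBelow_extend (f := chk7) (lo := 98155) (len := 125) pS7_g130 pS7_c131

theorem pS7_all : allBelow chk7 98280 = true := pS7_g131

theorem pS8_g0 : allBelow chk8 682 = true :=
  allBelow_extend (f := chk8) (lo := 0) (len := 682) (allBelow_zero chk8) pS8_c0

theorem pS8_g1 : allBelow chk8 1370 = true :=
  allBelow_extend (f := chk8) (lo := 682) (len := 688) pS8_g0 pS8_c1

theorem pS8_g2 : allBelow chk8 2050 = true :=
  allBelow_extend (f := chk8) (lo := 1370) (len := 680) pS8_g1 pS8_c2

theorem pS8_g3 : allBelow chk8 2737 = true :=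
  allBelow_extend (f := chk8) (lo := 2050) (len := 687) pS8_g2 pS8_c3

theorem pS8_g4 : allBelow chk8 3449 = true :=
  allBelow_extend (f := chk8) (lo := 2737) (len := 712) pS8_g3 pS8_c4

theorem pS8_g5 : allBelow chk8 4148 = true :=
  allBelow_extend (f := chk8) (lo := 3449) (len := 699) pS8_g4 pS8_c5

theorem pS8_g6 : allBelow chk8 4835 = true :=
  allBelow_extend (f := chk8) (lo := 4148) (len := 687) pS8_g5 pS8_c6

theorem pS8_g7 : allBelow chk8 5525 = true :=
  allBelow_extend (f := chk8) (lo := 4835) (len := 690) pS8_g6 pS8_c7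

theorem pS8_g8 : allBelow chk8 6245 = true :=
  allBelow_extend (f := chk8) (lo := 5525) (len := 720) pS8_g7 pS8_c8

theorem pS8_g9 : allBelow chk8 6925 = true :=
  allBelow_extend (f := chk8) (lo := 6245) (len := 680) pS8_g8 pS8_c9

theorem pS8_g10 : allBelow chk8 7607 = true :=
  allBelow_extend (f := chk8) (lo := 6925) (len := 682) pS8_g9 pS8_c10

theorem pS8_g11 : allBelow chk8 8314 = true :=
  allBelow_extend (f := chk8) (lo := 7607) (len := 707) pS8_g10 pS8_c11

theorem pS8_g12 : allBelow chk8 9031 = true :=
  allBelow_extend (f := chk8) (lo := 8314) (len := 717) pS8_g11 pS8_c12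

theorem pS8_g13 : allBelow chk8 9747 = true :=
  allBelow_extend (f := chk8) (lo := 9031) (len := 716) pS8_g12 pS8_c13

theorem pS8_g14 : allBelow chk8 10482 = true :=
  allBelow_extend (f := chk8) (lo := 9747) (len := 735) pS8_g13 pS8_c14

theorem pS8_g15 : allBelow chk8 11200 = true :=
  allBelow_extend (f := chk8) (lo := 10482) (len := 718) pS8_g14 pS8_c15

theorem pS8_g16 : allBelow chk8 11934 = true :=
  allBelow_extend (f := chk8) (lo := 11200) (len := 734) pS8_g15 pS8_c16

theorem pS8_g17 : allBelow chk8 12681 = true :=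
  allBelow_extend (f := chk8) (lo := 11934) (len := 747) pS8_g16 pS8_c17

theorem pS8_g18 : allBelow chk8 13388 = true :=
  allBelow_extend (f := chk8) (lo := 12681) (len := 707) pS8_g17 pS8_c18

theorem pS8_g19 : allBelow chk8 14104 = true :=
  allBelow_extend (f := chk8) (lo := 13388) (len := 716) pS8_g18 pS8_c19

theorem pS8_g20 : allBelow chk8 14832 = true :=
  allBelow_extend (f := chk8) (lo := 14104) (len := 728) pS8_g19 pS8_c20

theorem pS8_g21 : allBelow chk8 15557 = true :=
  allBelow_extend (f := chk8) (lo := 14832) (len := 725) pS8_g20 pS8_c21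

theorem pS8_g22 : allBelow chk8 16275 = true :=
  allBelow_extend (f := chk8) (lo := 15557) (len := 718) pS8_g21 pS8_c22

theorem pS8_g23 : allBelow chk8 16999 = true :=
  allBelow_extend (f := chk8) (lo := 16275) (len := 724) pS8_g22 pS8_c23

theorem pS8_g24 : allBelow chk8 17725 = true :=
  allBelow_extend (f := chk8) (lo := 16999) (len := 726) pS8_g23 pS8_c24

theorem pS8_g25 : allBelow chk8 18445 = true :=
  allBelow_extend (f := chk8) (lo := 17725) (len := 720) pS8_g24 pS8_c25

theorem pS8_g26 : allBelow chk8 19139 = true :=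
  allBelow_extend (f := chk8) (lo := 18445) (len := 694) pS8_g25 pS8_c26

theorem pS8_g27 : allBelow chk8 19846 = true :=
  allBelow_extend (f := chk8) (lo := 19139) (len := 707) pS8_g26 pS8_c27

theorem pS8_g28 : allBelow chk8 20567 = true :=
  allBelow_extend (f := chk8) (lo := 19846) (len := 721) pS8_g27 pS8_c28

theorem pS8_g29 : allBelow chk8 21292 = true :=
  allBelow_extend (f := chk8) (lo := 20567) (len := 725) pS8_g28 pS8_c29

theorem pS8_g30 : allBelow chk8 22035 = true :=
  allBelow_extend (f := chk8) (lo := 21292) (len := 743) pS8_g29 pS8_c30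

theorem pS8_g31 : allBelow chk8 22788 = true :=
  allBelow_extend (f := chk8) (lo := 22035) (len := 753) pS8_g30 pS8_c31

theorem pS8_g32 : allBelow chk8 23550 = true :=
  allBelow_extend (f := chk8) (lo := 22788) (len := 762) pS8_g31 pS8_c32

theorem pS8_g33 : allBelow chk8 24302 = true :=
  allBelow_extend (f := chk8) (lo := 23550) (len := 752) pS8_g32 pS8_c33

theorem pS8_g34 : allBelow chk8 25056 = true :=
  allBelow_extend (f := chk8) (lo := 24302) (len := 754) pS8_g33 pS8_c34

theorem pS8_g35 : allBelow chk8 25807 = true :=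
  allBelow_extend (f := chk8) (lo := 25056) (len := 751) pS8_g34 pS8_c35

theorem pS8_g36 : allBelow chk8 26578 = true :=
  allBelow_extend (f := chk8) (lo := 25807) (len := 771) pS8_g35 pS8_c36

theorem pS8_g37 : allBelow chk8 27310 = true :=
  allBelow_extend (f := chk8) (lo := 26578) (len := 732) pS8_g36 pS8_c37

theorem pS8_g38 : allBelow chk8 28088 = true :=
  allBelow_extend (f := chk8) (lo := 27310) (len := 778) pS8_g37 pS8_c38

theorem pS8_g39 : allBelow chk8 28838 = true :=
  allBelow_extend (f := chk8) (lo := 28088) (len := 750) pS8_g38 pS8_c39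

theorem pS8_g40 : allBelow chk8 29596 = true :=
  allBelow_extend (f := chk8) (lo := 28838) (len := 758) pS8_g39 pS8_c40

theorem pS8_g41 : allBelow chk8 30330 = true :=
  allBelow_extend (f := chk8) (lo := 29596) (len := 734) pS8_g40 pS8_c41

theorem pS8_g42 : allBelow chk8 31054 = true :=
  allBelow_extend (f := chk8) (lo := 30330) (len := 724) pS8_g41 pS8_c42

theorem pS8_g43 : allBelow chk8 31823 = true :=
  allBelow_extend (f := chk8) (lo := 31054) (len := 769) pS8_g42 pS8_c43

theorem pS8_g44 : allBelow chk8 32578 = true :=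
  allBelow_extend (f := chk8) (lo := 31823) (len := 755) pS8_g43 pS8_c44

theorem pS8_g45 : allBelow chk8 33355 = true :=
  allBelow_extend (f := chk8) (lo := 32578) (len := 777) pS8_g44 pS8_c45

theorem pS8_g46 : allBelow chk8 34146 = true :=
  allBelow_extend (f := chk8) (lo := 33355) (len := 791) pS8_g45 pS8_c46

theorem pS8_g47 : allBelow chk8 34905 = true :=
  allBelow_extend (f := chk8) (lo := 34146) (len := 759) pS8_g46 pS8_c47

theorem pS8_g48 : allBelow chk8 35692 = true :=
  allBelow_extend (f := chk8) (lo := 34905) (len := 787) pS8_g47 pS8_c48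

theorem pS8_g49 : allBelow chk8 36479 = true :=
  allBelow_extend (f := chk8) (lo := 35692) (len := 787) pS8_g48 pS8_c49

theorem pS8_g50 : allBelow chk8 37245 = true :=
  allBelow_extend (f := chk8) (lo := 36479) (len := 766) pS8_g49 pS8_c50

theorem pS8_g51 : allBelow chk8 38014 = true :=
  allBelow_extend (f := chk8) (lo := 37245) (len := 769) pS8_g50 pS8_c51

theorem pS8_g52 : allBelow chk8 38784 = true :=
  allBelow_extend (f := chk8) (lo := 38014) (len := 770) pS8_g51 pS8_c52

theorem pS8_g53 : allBelow chk8 39572 = true :=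
  allBelow_extend (f := chk8) (lo := 38784) (len := 788) pS8_g52 pS8_c53

theorem pS8_g54 : allBelow chk8 40371 = true :=
  allBelow_extend (f := chk8) (lo := 39572) (len := 799) pS8_g53 pS8_c54

theorem pS8_g55 : allBelow chk8 41198 = true :=
  allBelow_extend (f := chk8) (lo := 40371) (len := 827) pS8_g54 pS8_c55

theorem pS8_g56 : allBelow chk8 42007 = true :=
  allBelow_extend (f := chk8) (lo := 41198) (len := 809) pS8_g55 pS8_c56

theorem pS8_g57 : allBelow chk8 42801 = true :=
  allBelow_extend (f := chk8) (lo := 42007) (len := 794) pS8_g56 pS8_c57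

theorem pS8_g58 : allBelow chk8 43598 = true :=
  allBelow_extend (f := chk8) (lo := 42801) (len := 797) pS8_g57 pS8_c58

theorem pS8_g59 : allBelow chk8 44420 = true :=
  allBelow_extend (f := chk8) (lo := 43598) (len := 822) pS8_g58 pS8_c59

theorem pS8_g60 : allBelow chk8 45230 = true :=
  allBelow_extend (f := chk8) (lo := 44420) (len := 810) pS8_g59 pS8_c60

theorem pS8_g61 : allBelow chk8 46011 = true :=
  allBelow_extend (f := chk8) (lo := 45230) (len := 781) pS8_g60 pS8_c61

theorem pS8_g62 : allBelow chk8 46809 = true :=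
  allBelow_extend (f := chk8) (lo := 46011) (len := 798) pS8_g61 pS8_c62

theorem pS8_g63 : allBelow chk8 47616 = true :=
  allBelow_extend (f := chk8) (lo := 46809) (len := 807) pS8_g62 pS8_c63

theorem pS8_g64 : allBelow chk8 48445 = true :=
  allBelow_extend (f := chk8) (lo := 47616) (len := 829) pS8_g63 pS8_c64

theorem pS8_g65 : allBelow chk8 49245 = true :=
  allBelow_extend (f := chk8) (lo := 48445) (len := 800) pS8_g64 pS8_c65

theorem pS8_g66 : allBelow chk8 50075 = true :=
  allBelow_extend (f := chk8) (lo := 49245) (len := 830) pS8_g65 pS8_c66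

theorem pS8_g67 : allBelow chk8 50918 = true :=
  allBelow_extend (f := chk8) (lo := 50075) (len := 843) pS8_g66 pS8_c67

theorem pS8_g68 : allBelow chk8 51781 = true :=
  allBelow_extend (f := chk8) (lo := 50918) (len := 863) pS8_g67 pS8_c68

theorem pS8_g69 : allBelow chk8 52598 = true :=
  allBelow_extend (f := chk8) (lo := 51781) (len := 817) pS8_g68 pS8_c69

theorem pS8_g70 : allBelow chk8 53458 = true :=
  allBelow_extend (f := chk8) (lo := 52598) (len := 860) pS8_g69 pS8_c70

theorem pS8_g71 : allBelow chk8 54251 = true :=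
  allBelow_extend (f := chk8) (lo := 53458) (len := 793) pS8_g70 pS8_c71

theorem pS8_g72 : allBelow chk8 55051 = true :=
  allBelow_extend (f := chk8) (lo := 54251) (len := 800) pS8_g71 pS8_c72

theorem pS8_g73 : allBelow chk8 55870 = true :=
  allBelow_extend (f := chk8) (lo := 55051) (len := 819) pS8_g72 pS8_c73

theorem pS8_g74 : allBelow chk8 56718 = true :=
  allBelow_extend (f := chk8) (lo := 55870) (len := 848) pS8_g73 pS8_c74

theorem pS8_g75 : allBelow chk8 57547 = true :=
  allBelow_extend (f := chk8) (lo := 56718) (len := 829) pS8_g74 pS8_c75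

theorem pS8_g76 : allBelow chk8 58369 = true :=
  allBelow_extend (f := chk8) (lo := 57547) (len := 822) pS8_g75 pS8_c76

theorem pS8_g77 : allBelow chk8 59216 = true :=
  allBelow_extend (f := chk8) (lo := 58369) (len := 847) pS8_g76 pS8_c77

theorem pS8_g78 : allBelow chk8 60018 = true :=
  allBelow_extend (f := chk8) (lo := 59216) (len := 802) pS8_g77 pS8_c78

theorem pS8_g79 : allBelow chk8 60897 = true :=
  allBelow_extend (f := chk8) (lo := 60018) (len := 879) pS8_g78 pS8_c79

theorem pS8_g80 : allBelow chk8 61759 = true :=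
  allBelow_extend (f := chk8) (lo := 60897) (len := 862) pS8_g79 pS8_c80

theorem pS8_g81 : allBelow chk8 62629 = true :=
  allBelow_extend (f := chk8) (lo := 61759) (len := 870) pS8_g80 pS8_c81

theorem pS8_g82 : allBelow chk8 63539 = true :=
  allBelow_extend (f := chk8) (lo := 62629) (len := 910) pS8_g81 pS8_c82

theorem pS8_g83 : allBelow chk8 64406 = true :=
  allBelow_extend (f := chk8) (lo := 63539) (len := 867) pS8_g82 pS8_c83

theorem pS8_g84 : allBelow chk8 65284 = true :=
  allBelow_extend (f := chk8) (lo := 64406) (len := 878) pS8_g83 pS8_c84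

theorem pS8_g85 : allBelow chk8 66168 = true :=
  allBelow_extend (f := chk8) (lo := 65284) (len := 884) pS8_g84 pS8_c85

theorem pS8_g86 : allBelow chk8 67049 = true :=
  allBelow_extend (f := chk8) (lo := 66168) (len := 881) pS8_g85 pS8_c86

theorem pS8_g87 : allBelow chk8 67933 = true :=
  allBelow_extend (f := chk8) (lo := 67049) (len := 884) pS8_g86 pS8_c87

theorem pS8_g88 : allBelow chk8 68844 = true :=
  allBelow_extend (f := chk8) (lo := 67933) (len := 911) pS8_g87 pS8_c88

theorem pS8_g89 : allBelow chk8 69751 = true :=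
  allBelow_extend (f := chk8) (lo := 68844) (len := 907) pS8_g88 pS8_c89

theorem pS8_g90 : allBelow chk8 70635 = true :=
  allBelow_extend (f := chk8) (lo := 69751) (len := 884) pS8_g89 pS8_c90

theorem pS8_g91 : allBelow chk8 71544 = true :=
  allBelow_extend (f := chk8) (lo := 70635) (len := 909) pS8_g90 pS8_c91

theorem pS8_g92 : allBelow chk8 72455 = true :=
  allBelow_extend (f := chk8) (lo := 71544) (len := 911) pS8_g91 pS8_c92

theorem pS8_g93 : allBelow chk8 73352 = true :=
  allBelow_extend (f := chk8) (lo := 72455) (len := 897) pS8_g92 pS8_c93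

theorem pS8_g94 : allBelow chk8 74276 = true :=
  allBelow_extend (f := chk8) (lo := 73352) (len := 924) pS8_g93 pS8_c94

theorem pS8_g95 : allBelow chk8 75171 = true :=
  allBelow_extend (f := chk8) (lo := 74276) (len := 895) pS8_g94 pS8_c95

theorem pS8_g96 : allBelow chk8 76071 = true :=
  allBelow_extend (f := chk8) (lo := 75171) (len := 900) pS8_g95 pS8_c96

theorem pS8_g97 : allBelow chk8 76964 = true :=
  allBelow_extend (f := chk8) (lo := 76071) (len := 893) pS8_g96 pS8_c97

theorem pS8_g98 : allBelow chk8 77860 = true :=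
  allBelow_extend (f := chk8) (lo := 76964) (len := 896) pS8_g97 pS8_c98

theorem pS8_g99 : allBelow chk8 78778 = true :=
  allBelow_extend (f := chk8) (lo := 77860) (len := 918) pS8_g98 pS8_c99

theorem pS8_g100 : allBelow chk8 79703 = true :=
  allBelow_extend (f := chk8) (lo := 78778) (len := 925) pS8_g99 pS8_c100

theorem pS8_g101 : allBelow chk8 80649 = true :=
  allBelow_extend (f := chk8) (lo := 79703) (len := 946) pS8_g100 pS8_c101

theorem pS8_g102 : allBelow chk8 81578 = true :=
  allBelow_extend (f := chk8) (lo := 80649) (len := 929) pS8_g101 pS8_c102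

theorem pS8_g103 : allBelow chk8 82526 = true :=
  allBelow_extend (f := chk8) (lo := 81578) (len := 948) pS8_g102 pS8_c103

theorem pS8_g104 : allBelow chk8 83469 = true :=
  allBelow_extend (f := chk8) (lo := 82526) (len := 943) pS8_g103 pS8_c104

theorem pS8_g105 : allBelow chk8 84425 = true :=
  allBelow_extend (f := chk8) (lo := 83469) (len := 956) pS8_g104 pS8_c105

theorem pS8_g106 : allBelow chk8 85366 = true :=
  allBelow_extend (f := chk8) (lo := 84425) (len := 941) pS8_g105 pS8_c106

theorem pS8_g107 : allBelow chk8 86307 = true :=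
  allBelow_extend (f := chk8) (lo := 85366) (len := 941) pS8_g106 pS8_c107

theorem pS8_g108 : allBelow chk8 87270 = true :=
  allBelow_extend (f := chk8) (lo := 86307) (len := 963) pS8_g107 pS8_c108

theorem pS8_g109 : allBelow chk8 88223 = true :=
  allBelow_extend (f := chk8) (lo := 87270) (len := 953) pS8_g108 pS8_c109

theorem pS8_g110 : allBelow chk8 89185 = true :=
  allBelow_extend (f := chk8) (lo := 88223) (len := 962) pS8_g109 pS8_c110

theorem pS8_g111 : allBelow chk8 90164 = true :=
  allBelow_extend (f := chk8) (lo := 89185) (len := 979) pS8_g110 pS8_c111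

theorem pS8_g112 : allBelow chk8 91125 = true :=
  allBelow_extend (f := chk8) (lo := 90164) (len := 961) pS8_g111 pS8_c112

theorem pS8_g113 : allBelow chk8 92095 = true :=
  allBelow_extend (f := chk8) (lo := 91125) (len := 970) pS8_g112 pS8_c113

theorem pS8_g114 : allBelow chk8 93090 = true :=
  allBelow_extend (f := chk8) (lo := 92095) (len := 995) pS8_g113 pS8_c114

theorem pS8_g115 : allBelow chk8 94073 = true :=
  allBelow_extend (f := chk8) (lo := 93090) (len := 983) pS8_g114 pS8_c115

theorem pS8_g116 : allBelow chk8 95053 = true :=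
  allBelow_extend (f := chk8) (lo := 94073) (len := 980) pS8_g115 pS8_c116

theorem pS8_g117 : allBelow chk8 96052 = true :=
  allBelow_extend (f := chk8) (lo := 95053) (len := 999) pS8_g116 pS8_c117

theorem pS8_g118 : allBelow chk8 97058 = true :=
  allBelow_extend (f := chk8) (lo := 96052) (len := 1006) pS8_g117 pS8_c118

theorem pS8_g119 : allBelow chk8 98081 = true :=
  allBelow_extend (f := chk8) (lo := 97058) (len := 1023) pS8_g118 pS8_c119

theorem pS8_g120 : allBelow chk8 98280 = true :=
  allBelow_extend (f := chk8) (lo := 98081) (len := 199) pS8_g119 pS8_c120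

theorem pS8_all : allBelow chk8 98280 = true := pS8_g120

theorem pS9_g0 : allBelow chk9 599 = true :=
  allBelow_extend (f := chk9) (lo := 0) (len := 599) (allBelow_zero chk9) pS9_c0

theorem pS9_g1 : allBelow chk9 1211 = true :=
  allBelow_extend (f := chk9) (lo := 599) (len := 612) pS9_g0 pS9_c1

theorem pS9_g2 : allBelow chk9 1831 = true :=
  allBelow_extend (f := chk9) (lo := 1211) (len := 620) pS9_g1 pS9_c2

theorem pS9_g3 : allBelow chk9 2464 = true :=
  allBelow_extend (f := chk9) (lo := 1831) (len := 633) pS9_g2 pS9_c3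

theorem pS9_g4 : allBelow chk9 3106 = true :=
  allBelow_extend (f := chk9) (lo := 2464) (len := 642) pS9_g3 pS9_c4

theorem pS9_g5 : allBelow chk9 3755 = true :=
  allBelow_extend (f := chk9) (lo := 3106) (len := 649) pS9_g4 pS9_c5

theorem pS9_g6 : allBelow chk9 4375 = true :=
  allBelow_extend (f := chk9) (lo := 3755) (len := 620) pS9_g5 pS9_c6

theorem pS9_g7 : allBelow chk9 5003 = true :=
  allBelow_extend (f := chk9) (lo := 4375) (len := 628) pS9_g6 pS9_c7

theorem pS9_g8 : allBelow chk9 5632 = true :=
  allBelow_extend (f := chk9) (lo := 5003) (len := 629) pS9_g7 pS9_c8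

theorem pS9_g9 : allBelow chk9 6295 = true :=
  allBelow_extend (f := chk9) (lo := 5632) (len := 663) pS9_g8 pS9_c9

theorem pS9_g10 : allBelow chk9 6927 = true :=
  allBelow_extend (f := chk9) (lo := 6295) (len := 632) pS9_g9 pS9_c10

theorem pS9_g11 : allBelow chk9 7558 = true :=
  allBelow_extend (f := chk9) (lo := 6927) (len := 631) pS9_g10 pS9_c11

theorem pS9_g12 : allBelow chk9 8215 = true :=
  allBelow_extend (f := chk9) (lo := 7558) (len := 657) pS9_g11 pS9_c12

theorem pS9_g13 : allBelow chk9 8872 = true :=
  allBelow_extend (f := chk9) (lo := 8215) (len := 657) pS9_g12 pS9_c13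

theorem pS9_g14 : allBelow chk9 9512 = true :=
  allBelow_extend (f := chk9) (lo := 8872) (len := 640) pS9_g13 pS9_c14

theorem pS9_g15 : allBelow chk9 10163 = true :=
  allBelow_extend (f := chk9) (lo := 9512) (len := 651) pS9_g14 pS9_c15

theorem pS9_g16 : allBelow chk9 10810 = true :=
  allBelow_extend (f := chk9) (lo := 10163) (len := 647) pS9_g15 pS9_c16

theorem pS9_g17 : allBelow chk9 11465 = true :=
  allBelow_extend (f := chk9) (lo := 10810) (len := 655) pS9_g16 pS9_c17

theorem pS9_g18 : allBelow chk9 12115 = true :=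
  allBelow_extend (f := chk9) (lo := 11465) (len := 650) pS9_g17 pS9_c18

theorem pS9_g19 : allBelow chk9 12783 = true :=
  allBelow_extend (f := chk9) (lo := 12115) (len := 668) pS9_g18 pS9_c19

theorem pS9_g20 : allBelow chk9 13419 = true :=
  allBelow_extend (f := chk9) (lo := 12783) (len := 636) pS9_g19 pS9_c20

theorem pS9_g21 : allBelow chk9 14066 = true :=
  allBelow_extend (f := chk9) (lo := 13419) (len := 647) pS9_g20 pS9_c21

theorem pS9_g22 : allBelow chk9 14711 = true :=
  allBelow_extend (f := chk9) (lo := 14066) (len := 645) pS9_g21 pS9_c22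

theorem pS9_g23 : allBelow chk9 15375 = true :=
  allBelow_extend (f := chk9) (lo := 14711) (len := 664) pS9_g22 pS9_c23

theorem pS9_g24 : allBelow chk9 16039 = true :=
  allBelow_extend (f := chk9) (lo := 15375) (len := 664) pS9_g23 pS9_c24

theorem pS9_g25 : allBelow chk9 16700 = true :=
  allBelow_extend (f := chk9) (lo := 16039) (len := 661) pS9_g24 pS9_c25

theorem pS9_g26 : allBelow chk9 17371 = true :=
  allBelow_extend (f := chk9) (lo := 16700) (len := 671) pS9_g25 pS9_c26

theorem pS9_g27 : allBelow chk9 18039 = true :=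
  allBelow_extend (f := chk9) (lo := 17371) (len := 668) pS9_g26 pS9_c27

theorem pS9_g28 : allBelow chk9 18692 = true :=
  allBelow_extend (f := chk9) (lo := 18039) (len := 653) pS9_g27 pS9_c28

theorem pS9_g29 : allBelow chk9 19347 = true :=
  allBelow_extend (f := chk9) (lo := 18692) (len := 655) pS9_g28 pS9_c29

theorem pS9_g30 : allBelow chk9 20013 = true :=
  allBelow_extend (f := chk9) (lo := 19347) (len := 666) pS9_g29 pS9_c30

theorem pS9_g31 : allBelow chk9 20676 = true :=
  allBelow_extend (f := chk9) (lo := 20013) (len := 663) pS9_g30 pS9_c31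

theorem pS9_g32 : allBelow chk9 21375 = true :=
  allBelow_extend (f := chk9) (lo := 20676) (len := 699) pS9_g31 pS9_c32

theorem pS9_g33 : allBelow chk9 22050 = true :=
  allBelow_extend (f := chk9) (lo := 21375) (len := 675) pS9_g32 pS9_c33

theorem pS9_g34 : allBelow chk9 22759 = true :=
  allBelow_extend (f := chk9) (lo := 22050) (len := 709) pS9_g33 pS9_c34

theorem pS9_g35 : allBelow chk9 23457 = true :=
  allBelow_extend (f := chk9) (lo := 22759) (len := 698) pS9_g34 pS9_c35

theorem pS9_g36 : allBelow chk9 24174 = true :=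
  allBelow_extend (f := chk9) (lo := 23457) (len := 717) pS9_g35 pS9_c36

theorem pS9_g37 : allBelow chk9 24851 = true :=
  allBelow_extend (f := chk9) (lo := 24174) (len := 677) pS9_g36 pS9_c37

theorem pS9_g38 : allBelow chk9 25538 = true :=
  allBelow_extend (f := chk9) (lo := 24851) (len := 687) pS9_g37 pS9_c38

theorem pS9_g39 : allBelow chk9 26250 = true :=
  allBelow_extend (f := chk9) (lo := 25538) (len := 712) pS9_g38 pS9_c39

theorem pS9_g40 : allBelow chk9 26962 = true :=
  allBelow_extend (f := chk9) (lo := 26250) (len := 712) pS9_g39 pS9_c40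

theorem pS9_g41 : allBelow chk9 27645 = true :=
  allBelow_extend (f := chk9) (lo := 26962) (len := 683) pS9_g40 pS9_c41

theorem pS9_g42 : allBelow chk9 28344 = true :=
  allBelow_extend (f := chk9) (lo := 27645) (len := 699) pS9_g41 pS9_c42

theorem pS9_g43 : allBelow chk9 29059 = true :=
  allBelow_extend (f := chk9) (lo := 28344) (len := 715) pS9_g42 pS9_c43

theorem pS9_g44 : allBelow chk9 29748 = true :=
  allBelow_extend (f := chk9) (lo := 29059) (len := 689) pS9_g43 pS9_c44

theorem pS9_g45 : allBelow chk9 30434 = true :=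
  allBelow_extend (f := chk9) (lo := 29748) (len := 686) pS9_g44 pS9_c45

theorem pS9_g46 : allBelow chk9 31111 = true :=
  allBelow_extend (f := chk9) (lo := 30434) (len := 677) pS9_g45 pS9_c46

theorem pS9_g47 : allBelow chk9 31833 = true :=
  allBelow_extend (f := chk9) (lo := 31111) (len := 722) pS9_g46 pS9_c47

theorem pS9_g48 : allBelow chk9 32553 = true :=
  allBelow_extend (f := chk9) (lo := 31833) (len := 720) pS9_g47 pS9_c48

theorem pS9_g49 : allBelow chk9 33253 = true :=
  allBelow_extend (f := chk9) (lo := 32553) (len := 700) pS9_g48 pS9_c49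

theorem pS9_g50 : allBelow chk9 33960 = true :=
  allBelow_extend (f := chk9) (lo := 33253) (len := 707) pS9_g49 pS9_c50

theorem pS9_g51 : allBelow chk9 34665 = true :=
  allBelow_extend (f := chk9) (lo := 33960) (len := 705) pS9_g50 pS9_c51

theorem pS9_g52 : allBelow chk9 35386 = true :=
  allBelow_extend (f := chk9) (lo := 34665) (len := 721) pS9_g51 pS9_c52

theorem pS9_g53 : allBelow chk9 36091 = true :=
  allBelow_extend (f := chk9) (lo := 35386) (len := 705) pS9_g52 pS9_c53

theorem pS9_g54 : allBelow chk9 36808 = true :=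
  allBelow_extend (f := chk9) (lo := 36091) (len := 717) pS9_g53 pS9_c54

theorem pS9_g55 : allBelow chk9 37528 = true :=
  allBelow_extend (f := chk9) (lo := 36808) (len := 720) pS9_g54 pS9_c55

theorem pS9_g56 : allBelow chk9 38262 = true :=
  allBelow_extend (f := chk9) (lo := 37528) (len := 734) pS9_g55 pS9_c56

theorem pS9_g57 : allBelow chk9 38995 = true :=
  allBelow_extend (f := chk9) (lo := 38262) (len := 733) pS9_g56 pS9_c57

theorem pS9_g58 : allBelow chk9 39709 = true :=
  allBelow_extend (f := chk9) (lo := 38995) (len := 714) pS9_g57 pS9_c58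

theorem pS9_g59 : allBelow chk9 40432 = true :=
  allBelow_extend (f := chk9) (lo := 39709) (len := 723) pS9_g58 pS9_c59

theorem pS9_g60 : allBelow chk9 41191 = true :=
  allBelow_extend (f := chk9) (lo := 40432) (len := 759) pS9_g59 pS9_c60

theorem pS9_g61 : allBelow chk9 41935 = true :=
  allBelow_extend (f := chk9) (lo := 41191) (len := 744) pS9_g60 pS9_c61

theorem pS9_g62 : allBelow chk9 42679 = true :=
  allBelow_extend (f := chk9) (lo := 41935) (len := 744) pS9_g61 pS9_c62

theorem pS9_g63 : allBelow chk9 43414 = true :=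
  allBelow_extend (f := chk9) (lo := 42679) (len := 735) pS9_g62 pS9_c63

theorem pS9_g64 : allBelow chk9 44155 = true :=
  allBelow_extend (f := chk9) (lo := 43414) (len := 741) pS9_g63 pS9_c64

theorem pS9_g65 : allBelow chk9 44918 = true :=
  allBelow_extend (f := chk9) (lo := 44155) (len := 763) pS9_g64 pS9_c65

theorem pS9_g66 : allBelow chk9 45645 = true :=
  allBelow_extend (f := chk9) (lo := 44918) (len := 727) pS9_g65 pS9_c66

theorem pS9_g67 : allBelow chk9 46363 = true :=
  allBelow_extend (f := chk9) (lo := 45645) (len := 718) pS9_g66 pS9_c67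

theorem pS9_g68 : allBelow chk9 47097 = true :=
  allBelow_extend (f := chk9) (lo := 46363) (len := 734) pS9_g67 pS9_c68

theorem pS9_g69 : allBelow chk9 47836 = true :=
  allBelow_extend (f := chk9) (lo := 47097) (len := 739) pS9_g68 pS9_c69

theorem pS9_g70 : allBelow chk9 48580 = true :=
  allBelow_extend (f := chk9) (lo := 47836) (len := 744) pS9_g69 pS9_c70

theorem pS9_g71 : allBelow chk9 49309 = true :=
  allBelow_extend (f := chk9) (lo := 48580) (len := 729) pS9_g70 pS9_c71

theorem pS9_g72 : allBelow chk9 50059 = true :=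
  allBelow_extend (f := chk9) (lo := 49309) (len := 750) pS9_g71 pS9_c72

theorem pS9_g73 : allBelow chk9 50815 = true :=
  allBelow_extend (f := chk9) (lo := 50059) (len := 756) pS9_g72 pS9_c73

theorem pS9_g74 : allBelow chk9 51608 = true :=
  allBelow_extend (f := chk9) (lo := 50815) (len := 793) pS9_g73 pS9_c74

theorem pS9_g75 : allBelow chk9 52375 = true :=
  allBelow_extend (f := chk9) (lo := 51608) (len := 767) pS9_g74 pS9_c75

theorem pS9_g76 : allBelow chk9 53144 = true :=
  allBelow_extend (f := chk9) (lo := 52375) (len := 769) pS9_g75 pS9_c76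

theorem pS9_g77 : allBelow chk9 53922 = true :=
  allBelow_extend (f := chk9) (lo := 53144) (len := 778) pS9_g76 pS9_c77

theorem pS9_g78 : allBelow chk9 54684 = true :=
  allBelow_extend (f := chk9) (lo := 53922) (len := 762) pS9_g77 pS9_c78

theorem pS9_g79 : allBelow chk9 55444 = true :=
  allBelow_extend (f := chk9) (lo := 54684) (len := 760) pS9_g78 pS9_c79

theorem pS9_g80 : allBelow chk9 56226 = true :=
  allBelow_extend (f := chk9) (lo := 55444) (len := 782) pS9_g79 pS9_c80

theorem pS9_g81 : allBelow chk9 56991 = true :=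
  allBelow_extend (f := chk9) (lo := 56226) (len := 765) pS9_g80 pS9_c81

theorem pS9_g82 : allBelow chk9 57761 = true :=
  allBelow_extend (f := chk9) (lo := 56991) (len := 770) pS9_g81 pS9_c82

theorem pS9_g83 : allBelow chk9 58517 = true :=
  allBelow_extend (f := chk9) (lo := 57761) (len := 756) pS9_g82 pS9_c83

theorem pS9_g84 : allBelow chk9 59298 = true :=
  allBelow_extend (f := chk9) (lo := 58517) (len := 781) pS9_g83 pS9_c84

theorem pS9_g85 : allBelow chk9 60080 = true :=
  allBelow_extend (f := chk9) (lo := 59298) (len := 782) pS9_g84 pS9_c85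

theorem pS9_g86 : allBelow chk9 60905 = true :=
  allBelow_extend (f := chk9) (lo := 60080) (len := 825) pS9_g85 pS9_c86

theorem pS9_g87 : allBelow chk9 61709 = true :=
  allBelow_extend (f := chk9) (lo := 60905) (len := 804) pS9_g86 pS9_c87

theorem pS9_g88 : allBelow chk9 62486 = true :=
  allBelow_extend (f := chk9) (lo := 61709) (len := 777) pS9_g87 pS9_c88

theorem pS9_g89 : allBelow chk9 63292 = true :=
  allBelow_extend (f := chk9) (lo := 62486) (len := 806) pS9_g88 pS9_c89

theorem pS9_g90 : allBelow chk9 64142 = true :=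
  allBelow_extend (f := chk9) (lo := 63292) (len := 850) pS9_g89 pS9_c90

theorem pS9_g91 : allBelow chk9 64939 = true :=
  allBelow_extend (f := chk9) (lo := 64142) (len := 797) pS9_g90 pS9_c91

theorem pS9_g92 : allBelow chk9 65727 = true :=
  allBelow_extend (f := chk9) (lo := 64939) (len := 788) pS9_g91 pS9_c92

theorem pS9_g93 : allBelow chk9 66519 = true :=
  allBelow_extend (f := chk9) (lo := 65727) (len := 792) pS9_g92 pS9_c93

theorem pS9_g94 : allBelow chk9 67316 = true :=
  allBelow_extend (f := chk9) (lo := 66519) (len := 797) pS9_g93 pS9_c94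

theorem pS9_g95 : allBelow chk9 68108 = true :=
  allBelow_extend (f := chk9) (lo := 67316) (len := 792) pS9_g94 pS9_c95

theorem pS9_g96 : allBelow chk9 68905 = true :=
  allBelow_extend (f := chk9) (lo := 68108) (len := 797) pS9_g95 pS9_c96

theorem pS9_g97 : allBelow chk9 69711 = true :=
  allBelow_extend (f := chk9) (lo := 68905) (len := 806) pS9_g96 pS9_c97

theorem pS9_g98 : allBelow chk9 70519 = true :=
  allBelow_extend (f := chk9) (lo := 69711) (len := 808) pS9_g97 pS9_c98

theorem pS9_g99 : allBelow chk9 71321 = true :=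
  allBelow_extend (f := chk9) (lo := 70519) (len := 802) pS9_g98 pS9_c99

theorem pS9_g100 : allBelow chk9 72168 = true :=
  allBelow_extend (f := chk9) (lo := 71321) (len := 847) pS9_g99 pS9_c100

theorem pS9_g101 : allBelow chk9 72984 = true :=
  allBelow_extend (f := chk9) (lo := 72168) (len := 816) pS9_g100 pS9_c101

theorem pS9_g102 : allBelow chk9 73814 = true :=
  allBelow_extend (f := chk9) (lo := 72984) (len := 830) pS9_g101 pS9_c102

theorem pS9_g103 : allBelow chk9 74641 = true :=
  allBelow_extend (f := chk9) (lo := 73814) (len := 827) pS9_g102 pS9_c103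

theorem pS9_g104 : allBelow chk9 75466 = true :=
  allBelow_extend (f := chk9) (lo := 74641) (len := 825) pS9_g103 pS9_c104

theorem pS9_g105 : allBelow chk9 76298 = true :=
  allBelow_extend (f := chk9) (lo := 75466) (len := 832) pS9_g104 pS9_c105

theorem pS9_g106 : allBelow chk9 77127 = true :=
  allBelow_extend (f := chk9) (lo := 76298) (len := 829) pS9_g105 pS9_c106

theorem pS9_g107 : allBelow chk9 77987 = true :=
  allBelow_extend (f := chk9) (lo := 77127) (len := 860) pS9_g106 pS9_c107

theorem pS9_g108 : allBelow chk9 78844 = true :=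
  allBelow_extend (f := chk9) (lo := 77987) (len := 857) pS9_g107 pS9_c108

theorem pS9_g109 : allBelow chk9 79697 = true :=
  allBelow_extend (f := chk9) (lo := 78844) (len := 853) pS9_g108 pS9_c109

theorem pS9_g110 : allBelow chk9 80588 = true :=
  allBelow_extend (f := chk9) (lo := 79697) (len := 891) pS9_g109 pS9_c110

theorem pS9_g111 : allBelow chk9 81444 = true :=
  allBelow_extend (f := chk9) (lo := 80588) (len := 856) pS9_g110 pS9_c111

theorem pS9_g112 : allBelow chk9 82298 = true :=
  allBelow_extend (f := chk9) (lo := 81444) (len := 854) pS9_g111 pS9_c112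

theorem pS9_g113 : allBelow chk9 83198 = true :=
  allBelow_extend (f := chk9) (lo := 82298) (len := 900) pS9_g112 pS9_c113

theorem pS9_g114 : allBelow chk9 84063 = true :=
  allBelow_extend (f := chk9) (lo := 83198) (len := 865) pS9_g113 pS9_c114

theorem pS9_g115 : allBelow chk9 84929 = true :=
  allBelow_extend (f := chk9) (lo := 84063) (len := 866) pS9_g114 pS9_c115

theorem pS9_g116 : allBelow chk9 85822 = true :=
  allBelow_extend (f := chk9) (lo := 84929) (len := 893) pS9_g115 pS9_c116

theorem pS9_g117 : allBelow chk9 86685 = true :=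
  allBelow_extend (f := chk9) (lo := 85822) (len := 863) pS9_g116 pS9_c117

theorem pS9_g118 : allBelow chk9 87550 = true :=
  allBelow_extend (f := chk9) (lo := 86685) (len := 865) pS9_g117 pS9_c118

theorem pS9_g119 : allBelow chk9 88448 = true :=
  allBelow_extend (f := chk9) (lo := 87550) (len := 898) pS9_g118 pS9_c119

theorem pS9_g120 : allBelow chk9 89350 = true :=
  allBelow_extend (f := chk9) (lo := 88448) (len := 902) pS9_g119 pS9_c120

theorem pS9_g121 : allBelow chk9 90219 = true :=
  allBelow_extend (f := chk9) (lo := 89350) (len := 869) pS9_g120 pS9_c121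

theorem pS9_g122 : allBelow chk9 91087 = true :=
  allBelow_extend (f := chk9) (lo := 90219) (len := 868) pS9_g121 pS9_c122

theorem pS9_g123 : allBelow chk9 91959 = true :=
  allBelow_extend (f := chk9) (lo := 91087) (len := 872) pS9_g122 pS9_c123

theorem pS9_g124 : allBelow chk9 92828 = true :=
  allBelow_extend (f := chk9) (lo := 91959) (len := 869) pS9_g123 pS9_c124

theorem pS9_g125 : allBelow chk9 93698 = true :=
  allBelow_extend (f := chk9) (lo := 92828) (len := 870) pS9_g124 pS9_c125

theorem pS9_g126 : allBelow chk9 94584 = true :=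
  allBelow_extend (f := chk9) (lo := 93698) (len := 886) pS9_g125 pS9_c126

theorem pS9_g127 : allBelow chk9 95476 = true :=
  allBelow_extend (f := chk9) (lo := 94584) (len := 892) pS9_g126 pS9_c127

theorem pS9_g128 : allBelow chk9 96372 = true :=
  allBelow_extend (f := chk9) (lo := 95476) (len := 896) pS9_g127 pS9_c128

theorem pS9_g129 : allBelow chk9 97270 = true :=
  allBelow_extend (f := chk9) (lo := 96372) (len := 898) pS9_g128 pS9_c129

theorem pS9_g130 : allBelow chk9 98168 = true :=
  allBelow_extend (f := chk9) (lo := 97270) (len := 898) pS9_g129 pS9_c130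

theorem pS9_g131 : allBelow chk9 98280 = true :=
  allBelow_extend (f := chk9) (lo := 98168) (len := 112) pS9_g130 pS9_c131

theorem pS9_all : allBelow chk9 98280 = true := pS9_g131

theorem pS10_g0 : allBelow chk10 705 = true :=
  allBelow_extend (f := chk10) (lo := 0) (len := 705) (allBelow_zero chk10) pS10_c0

theorem pS10_g1 : allBelow chk10 1440 = true :=
  allBelow_extend (f := chk10) (lo := 705) (len := 735) pS10_g0 pS10_c1

theorem pS10_g2 : allBelow chk10 2169 = true :=
  allBelow_extend (f := chk10) (lo := 1440) (len := 729) pS10_g1 pS10_c2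

theorem pS10_g3 : allBelow chk10 2934 = true :=
  allBelow_extend (f := chk10) (lo := 2169) (len := 765) pS10_g2 pS10_c3

theorem pS10_g4 : allBelow chk10 3684 = true :=
  allBelow_extend (f := chk10) (lo := 2934) (len := 750) pS10_g3 pS10_c4

theorem pS10_g5 : allBelow chk10 4444 = true :=
  allBelow_extend (f := chk10) (lo := 3684) (len := 760) pS10_g4 pS10_c5

theorem pS10_g6 : allBelow chk10 5176 = true :=
  allBelow_extend (f := chk10) (lo := 4444) (len := 732) pS10_g5 pS10_c6

theorem pS10_g7 : allBelow chk10 5915 = true :=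
  allBelow_extend (f := chk10) (lo := 5176) (len := 739) pS10_g6 pS10_c7

theorem pS10_g8 : allBelow chk10 6642 = true :=
  allBelow_extend (f := chk10) (lo := 5915) (len := 727) pS10_g7 pS10_c8

theorem pS10_g9 : allBelow chk10 7402 = true :=
  allBelow_extend (f := chk10) (lo := 6642) (len := 760) pS10_g8 pS10_c9

theorem pS10_g10 : allBelow chk10 8162 = true :=
  allBelow_extend (f := chk10) (lo := 7402) (len := 760) pS10_g9 pS10_c10

theorem pS10_g11 : allBelow chk10 8921 = true :=
  allBelow_extend (f := chk10) (lo := 8162) (len := 759) pS10_g10 pS10_c11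

theorem pS10_g12 : allBelow chk10 9674 = true :=
  allBelow_extend (f := chk10) (lo := 8921) (len := 753) pS10_g11 pS10_c12

theorem pS10_g13 : allBelow chk10 10466 = true :=
  allBelow_extend (f := chk10) (lo := 9674) (len := 792) pS10_g12 pS10_c13

theorem pS10_g14 : allBelow chk10 11247 = true :=
  allBelow_extend (f := chk10) (lo := 10466) (len := 781) pS10_g13 pS10_c14

theorem pS10_g15 : allBelow chk10 11974 = true :=
  allBelow_extend (f := chk10) (lo := 11247) (len := 727) pS10_g14 pS10_c15

theorem pS10_g16 : allBelow chk10 12722 = true :=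
  allBelow_extend (f := chk10) (lo := 11974) (len := 748) pS10_g15 pS10_c16

theorem pS10_g17 : allBelow chk10 13497 = true :=
  allBelow_extend (f := chk10) (lo := 12722) (len := 775) pS10_g16 pS10_c17

theorem pS10_g18 : allBelow chk10 14254 = true :=
  allBelow_extend (f := chk10) (lo := 13497) (len := 757) pS10_g17 pS10_c18

theorem pS10_g19 : allBelow chk10 14987 = true :=
  allBelow_extend (f := chk10) (lo := 14254) (len := 733) pS10_g18 pS10_c19

theorem pS10_g20 : allBelow chk10 15746 = true :=
  allBelow_extend (f := chk10) (lo := 14987) (len := 759) pS10_g19 pS10_c20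

theorem pS10_g21 : allBelow chk10 16526 = true :=
  allBelow_extend (f := chk10) (lo := 15746) (len := 780) pS10_g20 pS10_c21

theorem pS10_g22 : allBelow chk10 17247 = true :=
  allBelow_extend (f := chk10) (lo := 16526) (len := 721) pS10_g21 pS10_c22

theorem pS10_g23 : allBelow chk10 17986 = true :=
  allBelow_extend (f := chk10) (lo := 17247) (len := 739) pS10_g22 pS10_c23

theorem pS10_g24 : allBelow chk10 18771 = true :=
  allBelow_extend (f := chk10) (lo := 17986) (len := 785) pS10_g23 pS10_c24

theorem pS10_g25 : allBelow chk10 19542 = true :=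
  allBelow_extend (f := chk10) (lo := 18771) (len := 771) pS10_g24 pS10_c25

theorem pS10_g26 : allBelow chk10 20288 = true :=
  allBelow_extend (f := chk10) (lo := 19542) (len := 746) pS10_g25 pS10_c26

theorem pS10_g27 : allBelow chk10 21063 = true :=
  allBelow_extend (f := chk10) (lo := 20288) (len := 775) pS10_g26 pS10_c27

theorem pS10_g28 : allBelow chk10 21881 = true :=
  allBelow_extend (f := chk10) (lo := 21063) (len := 818) pS10_g27 pS10_c28

theorem pS10_g29 : allBelow chk10 22686 = true :=
  allBelow_extend (f := chk10) (lo := 21881) (len := 805) pS10_g28 pS10_c29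

theorem pS10_g30 : allBelow chk10 23457 = true :=
  allBelow_extend (f := chk10) (lo := 22686) (len := 771) pS10_g29 pS10_c30

theorem pS10_g31 : allBelow chk10 24250 = true :=
  allBelow_extend (f := chk10) (lo := 23457) (len := 793) pS10_g30 pS10_c31

theorem pS10_g32 : allBelow chk10 25065 = true :=
  allBelow_extend (f := chk10) (lo := 24250) (len := 815) pS10_g31 pS10_c32

theorem pS10_g33 : allBelow chk10 25854 = true :=
  allBelow_extend (f := chk10) (lo := 25065) (len := 789) pS10_g32 pS10_c33

theorem pS10_g34 : allBelow chk10 26639 = true :=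
  allBelow_extend (f := chk10) (lo := 25854) (len := 785) pS10_g33 pS10_c34

theorem pS10_g35 : allBelow chk10 27457 = true :=
  allBelow_extend (f := chk10) (lo := 26639) (len := 818) pS10_g34 pS10_c35

theorem pS10_g36 : allBelow chk10 28259 = true :=
  allBelow_extend (f := chk10) (lo := 27457) (len := 802) pS10_g35 pS10_c36

theorem pS10_g37 : allBelow chk10 29036 = true :=
  allBelow_extend (f := chk10) (lo := 28259) (len := 777) pS10_g36 pS10_c37

theorem pS10_g38 : allBelow chk10 29855 = true :=
  allBelow_extend (f := chk10) (lo := 29036) (len := 819) pS10_g37 pS10_c38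

theorem pS10_g39 : allBelow chk10 30684 = true :=
  allBelow_extend (f := chk10) (lo := 29855) (len := 829) pS10_g38 pS10_c39

theorem pS10_g40 : allBelow chk10 31471 = true :=
  allBelow_extend (f := chk10) (lo := 30684) (len := 787) pS10_g39 pS10_c40

theorem pS10_g41 : allBelow chk10 32289 = true :=
  allBelow_extend (f := chk10) (lo := 31471) (len := 818) pS10_g40 pS10_c41

theorem pS10_g42 : allBelow chk10 33158 = true :=
  allBelow_extend (f := chk10) (lo := 32289) (len := 869) pS10_g41 pS10_c42

theorem pS10_g43 : allBelow chk10 34017 = true :=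
  allBelow_extend (f := chk10) (lo := 33158) (len := 859) pS10_g42 pS10_c43

theorem pS10_g44 : allBelow chk10 34874 = true :=
  allBelow_extend (f := chk10) (lo := 34017) (len := 857) pS10_g43 pS10_c44

theorem pS10_g45 : allBelow chk10 35703 = true :=
  allBelow_extend (f := chk10) (lo := 34874) (len := 829) pS10_g44 pS10_c45

theorem pS10_g46 : allBelow chk10 36540 = true :=
  allBelow_extend (f := chk10) (lo := 35703) (len := 837) pS10_g45 pS10_c46

theorem pS10_g47 : allBelow chk10 37391 = true :=
  allBelow_extend (f := chk10) (lo := 36540) (len := 851) pS10_g46 pS10_c47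

theorem pS10_g48 : allBelow chk10 38250 = true :=
  allBelow_extend (f := chk10) (lo := 37391) (len := 859) pS10_g47 pS10_c48

theorem pS10_g49 : allBelow chk10 39154 = true :=
  allBelow_extend (f := chk10) (lo := 38250) (len := 904) pS10_g48 pS10_c49

theorem pS10_g50 : allBelow chk10 40055 = true :=
  allBelow_extend (f := chk10) (lo := 39154) (len := 901) pS10_g49 pS10_c50

theorem pS10_g51 : allBelow chk10 40928 = true :=
  allBelow_extend (f := chk10) (lo := 40055) (len := 873) pS10_g50 pS10_c51

theorem pS10_g52 : allBelow chk10 41815 = true :=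
  allBelow_extend (f := chk10) (lo := 40928) (len := 887) pS10_g51 pS10_c52

theorem pS10_g53 : allBelow chk10 42713 = true :=
  allBelow_extend (f := chk10) (lo := 41815) (len := 898) pS10_g52 pS10_c53

theorem pS10_g54 : allBelow chk10 43567 = true :=
  allBelow_extend (f := chk10) (lo := 42713) (len := 854) pS10_g53 pS10_c54

theorem pS10_g55 : allBelow chk10 44422 = true :=
  allBelow_extend (f := chk10) (lo := 43567) (len := 855) pS10_g54 pS10_c55

theorem pS10_g56 : allBelow chk10 45306 = true :=
  allBelow_extend (f := chk10) (lo := 44422) (len := 884) pS10_g55 pS10_c56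

theorem pS10_g57 : allBelow chk10 46205 = true :=
  allBelow_extend (f := chk10) (lo := 45306) (len := 899) pS10_g56 pS10_c57

theorem pS10_g58 : allBelow chk10 47093 = true :=
  allBelow_extend (f := chk10) (lo := 46205) (len := 888) pS10_g57 pS10_c58

theorem pS10_g59 : allBelow chk10 47970 = true :=
  allBelow_extend (f := chk10) (lo := 47093) (len := 877) pS10_g58 pS10_c59

theorem pS10_g60 : allBelow chk10 48851 = true :=
  allBelow_extend (f := chk10) (lo := 47970) (len := 881) pS10_g59 pS10_c60

theorem pS10_g61 : allBelow chk10 49723 = true :=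
  allBelow_extend (f := chk10) (lo := 48851) (len := 872) pS10_g60 pS10_c61

theorem pS10_g62 : allBelow chk10 50604 = true :=
  allBelow_extend (f := chk10) (lo := 49723) (len := 881) pS10_g61 pS10_c62

theorem pS10_g63 : allBelow chk10 51498 = true :=
  allBelow_extend (f := chk10) (lo := 50604) (len := 894) pS10_g62 pS10_c63

theorem pS10_g64 : allBelow chk10 52377 = true :=
  allBelow_extend (f := chk10) (lo := 51498) (len := 879) pS10_g63 pS10_c64

theorem pS10_g65 : allBelow chk10 53235 = true :=
  allBelow_extend (f := chk10) (lo := 52377) (len := 858) pS10_g64 pS10_c65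

theorem pS10_g66 : allBelow chk10 54184 = true :=
  allBelow_extend (f := chk10) (lo := 53235) (len := 949) pS10_g65 pS10_c66

theorem pS10_g67 : allBelow chk10 55114 = true :=
  allBelow_extend (f := chk10) (lo := 54184) (len := 930) pS10_g66 pS10_c67

theorem pS10_g68 : allBelow chk10 56050 = true :=
  allBelow_extend (f := chk10) (lo := 55114) (len := 936) pS10_g67 pS10_c68

theorem pS10_g69 : allBelow chk10 56984 = true :=
  allBelow_extend (f := chk10) (lo := 56050) (len := 934) pS10_g68 pS10_c69

theorem pS10_g70 : allBelow chk10 57922 = true :=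
  allBelow_extend (f := chk10) (lo := 56984) (len := 938) pS10_g69 pS10_c70

theorem pS10_g71 : allBelow chk10 58871 = true :=
  allBelow_extend (f := chk10) (lo := 57922) (len := 949) pS10_g70 pS10_c71

theorem pS10_g72 : allBelow chk10 59835 = true :=
  allBelow_extend (f := chk10) (lo := 58871) (len := 964) pS10_g71 pS10_c72

theorem pS10_g73 : allBelow chk10 60820 = true :=
  allBelow_extend (f := chk10) (lo := 59835) (len := 985) pS10_g72 pS10_c73

theorem pS10_g74 : allBelow chk10 61764 = true :=
  allBelow_extend (f := chk10) (lo := 60820) (len := 944) pS10_g73 pS10_c74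

theorem pS10_g75 : allBelow chk10 62728 = true :=
  allBelow_extend (f := chk10) (lo := 61764) (len := 964) pS10_g74 pS10_c75

theorem pS10_g76 : allBelow chk10 63673 = true :=
  allBelow_extend (f := chk10) (lo := 62728) (len := 945) pS10_g75 pS10_c76

theorem pS10_g77 : allBelow chk10 64655 = true :=
  allBelow_extend (f := chk10) (lo := 63673) (len := 982) pS10_g76 pS10_c77

theorem pS10_g78 : allBelow chk10 65665 = true :=
  allBelow_extend (f := chk10) (lo := 64655) (len := 1010) pS10_g77 pS10_c78

theorem pS10_g79 : allBelow chk10 66696 = true :=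
  allBelow_extend (f := chk10) (lo := 65665) (len := 1031) pS10_g78 pS10_c79

theorem pS10_g80 : allBelow chk10 67713 = true :=
  allBelow_extend (f := chk10) (lo := 66696) (len := 1017) pS10_g79 pS10_c80

theorem pS10_g81 : allBelow chk10 68704 = true :=
  allBelow_extend (f := chk10) (lo := 67713) (len := 991) pS10_g80 pS10_c81

theorem pS10_g82 : allBelow chk10 69719 = true :=
  allBelow_extend (f := chk10) (lo := 68704) (len := 1015) pS10_g81 pS10_c82

theorem pS10_g83 : allBelow chk10 70739 = true :=
  allBelow_extend (f := chk10) (lo := 69719) (len := 1020) pS10_g82 pS10_c83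

theorem pS10_g84 : allBelow chk10 71759 = true :=
  allBelow_extend (f := chk10) (lo := 70739) (len := 1020) pS10_g83 pS10_c84

theorem pS10_g85 : allBelow chk10 72787 = true :=
  allBelow_extend (f := chk10) (lo := 71759) (len := 1028) pS10_g84 pS10_c85

theorem pS10_g86 : allBelow chk10 73790 = true :=
  allBelow_extend (f := chk10) (lo := 72787) (len := 1003) pS10_g85 pS10_c86

theorem pS10_g87 : allBelow chk10 74837 = true :=
  allBelow_extend (f := chk10) (lo := 73790) (len := 1047) pS10_g86 pS10_c87

theorem pS10_g88 : allBelow chk10 75906 = true :=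
  allBelow_extend (f := chk10) (lo := 74837) (len := 1069) pS10_g87 pS10_c88

theorem pS10_g89 : allBelow chk10 76962 = true :=
  allBelow_extend (f := chk10) (lo := 75906) (len := 1056) pS10_g88 pS10_c89

theorem pS10_g90 : allBelow chk10 78063 = true :=
  allBelow_extend (f := chk10) (lo := 76962) (len := 1101) pS10_g89 pS10_c90

theorem pS10_g91 : allBelow chk10 79100 = true :=
  allBelow_extend (f := chk10) (lo := 78063) (len := 1037) pS10_g90 pS10_c91

theorem pS10_g92 : allBelow chk10 80132 = true :=
  allBelow_extend (f := chk10) (lo := 79100) (len := 1032) pS10_g91 pS10_c92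

theorem pS10_g93 : allBelow chk10 81219 = true :=
  allBelow_extend (f := chk10) (lo := 80132) (len := 1087) pS10_g92 pS10_c93

theorem pS10_g94 : allBelow chk10 82296 = true :=
  allBelow_extend (f := chk10) (lo := 81219) (len := 1077) pS10_g93 pS10_c94

theorem pS10_g95 : allBelow chk10 83391 = true :=
  allBelow_extend (f := chk10) (lo := 82296) (len := 1095) pS10_g94 pS10_c95

theorem pS10_g96 : allBelow chk10 84470 = true :=
  allBelow_extend (f := chk10) (lo := 83391) (len := 1079) pS10_g95 pS10_c96

theorem pS10_g97 : allBelow chk10 85534 = true :=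
  allBelow_extend (f := chk10) (lo := 84470) (len := 1064) pS10_g96 pS10_c97

theorem pS10_g98 : allBelow chk10 86666 = true :=
  allBelow_extend (f := chk10) (lo := 85534) (len := 1132) pS10_g97 pS10_c98

theorem pS10_g99 : allBelow chk10 87795 = true :=
  allBelow_extend (f := chk10) (lo := 86666) (len := 1129) pS10_g98 pS10_c99

theorem pS10_g100 : allBelow chk10 88963 = true :=
  allBelow_extend (f := chk10) (lo := 87795) (len := 1168) pS10_g99 pS10_c100

theorem pS10_g101 : allBelow chk10 90075 = true :=
  allBelow_extend (f := chk10) (lo := 88963) (len := 1112) pS10_g100 pS10_c101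

theorem pS10_g102 : allBelow chk10 91191 = true :=
  allBelow_extend (f := chk10) (lo := 90075) (len := 1116) pS10_g101 pS10_c102

theorem pS10_g103 : allBelow chk10 92254 = true :=
  allBelow_extend (f := chk10) (lo := 91191) (len := 1063) pS10_g102 pS10_c103

theorem pS10_g104 : allBelow chk10 93359 = true :=
  allBelow_extend (f := chk10) (lo := 92254) (len := 1105) pS10_g103 pS10_c104

theorem pS10_g105 : allBelow chk10 94471 = true :=
  allBelow_extend (f := chk10) (lo := 93359) (len := 1112) pS10_g104 pS10_c105

theorem pS10_g106 : allBelow chk10 95645 = true :=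
  allBelow_extend (f := chk10) (lo := 94471) (len := 1174) pS10_g105 pS10_c106

theorem pS10_g107 : allBelow chk10 96771 = true :=
  allBelow_extend (f := chk10) (lo := 95645) (len := 1126) pS10_g106 pS10_c107

theorem pS10_g108 : allBelow chk10 97961 = true :=
  allBelow_extend (f := chk10) (lo := 96771) (len := 1190) pS10_g107 pS10_c108

theorem pS10_g109 : allBelow chk10 98280 = true :=
  allBelow_extend (f := chk10) (lo := 97961) (len := 319) pS10_g108 pS10_c109

theorem pS10_all : allBelow chk10 98280 = true := pS10_g109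

theorem pS11_g0 : allBelow chk11 741 = true :=
  allBelow_extend (f := chk11) (lo := 0) (len := 741) (allBelow_zero chk11) pS11_c0

theorem pS11_g1 : allBelow chk11 1518 = true :=
  allBelow_extend (f := chk11) (lo := 741) (len := 777) pS11_g0 pS11_c1

theorem pS11_g2 : allBelow chk11 2309 = true :=
  allBelow_extend (f := chk11) (lo := 1518) (len := 791) pS11_g1 pS11_c2

theorem pS11_g3 : allBelow chk11 3131 = true :=
  allBelow_extend (f := chk11) (lo := 2309) (len := 822) pS11_g2 pS11_c3

theorem pS11_g4 : allBelow chk11 3907 = true :=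
  allBelow_extend (f := chk11) (lo := 3131) (len := 776) pS11_g3 pS11_c4

theorem pS11_g5 : allBelow chk11 4701 = true :=
  allBelow_extend (f := chk11) (lo := 3907) (len := 794) pS11_g4 pS11_c5

theorem pS11_g6 : allBelow chk11 5483 = true :=
  allBelow_extend (f := chk11) (lo := 4701) (len := 782) pS11_g5 pS11_c6

theorem pS11_g7 : allBelow chk11 6267 = true :=
  allBelow_extend (f := chk11) (lo := 5483) (len := 784) pS11_g6 pS11_c7

theorem pS11_g8 : allBelow chk11 7079 = true :=
  allBelow_extend (f := chk11) (lo := 6267) (len := 812) pS11_g7 pS11_c8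

theorem pS11_g9 : allBelow chk11 7904 = true :=
  allBelow_extend (f := chk11) (lo := 7079) (len := 825) pS11_g8 pS11_c9

theorem pS11_g10 : allBelow chk11 8710 = true :=
  allBelow_extend (f := chk11) (lo := 7904) (len := 806) pS11_g9 pS11_c10

theorem pS11_g11 : allBelow chk11 9526 = true :=
  allBelow_extend (f := chk11) (lo := 8710) (len := 816) pS11_g10 pS11_c11

theorem pS11_g12 : allBelow chk11 10371 = true :=
  allBelow_extend (f := chk11) (lo := 9526) (len := 845) pS11_g11 pS11_c12

theorem pS11_g13 : allBelow chk11 11202 = true :=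
  allBelow_extend (f := chk11) (lo := 10371) (len := 831) pS11_g12 pS11_c13

theorem pS11_g14 : allBelow chk11 12025 = true :=
  allBelow_extend (f := chk11) (lo := 11202) (len := 823) pS11_g13 pS11_c14

theorem pS11_g15 : allBelow chk11 12840 = true :=
  allBelow_extend (f := chk11) (lo := 12025) (len := 815) pS11_g14 pS11_c15

theorem pS11_g16 : allBelow chk11 13662 = true :=
  allBelow_extend (f := chk11) (lo := 12840) (len := 822) pS11_g15 pS11_c16

theorem pS11_g17 : allBelow chk11 14496 = true :=
  allBelow_extend (f := chk11) (lo := 13662) (len := 834) pS11_g16 pS11_c17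

theorem pS11_g18 : allBelow chk11 15333 = true :=
  allBelow_extend (f := chk11) (lo := 14496) (len := 837) pS11_g17 pS11_c18

theorem pS11_g19 : allBelow chk11 16152 = true :=
  allBelow_extend (f := chk11) (lo := 15333) (len := 819) pS11_g18 pS11_c19

theorem pS11_g20 : allBelow chk11 16991 = true :=
  allBelow_extend (f := chk11) (lo := 16152) (len := 839) pS11_g19 pS11_c20

theorem pS11_g21 : allBelow chk11 17804 = true :=
  allBelow_extend (f := chk11) (lo := 16991) (len := 813) pS11_g20 pS11_c21

theorem pS11_g22 : allBelow chk11 18637 = true :=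
  allBelow_extend (f := chk11) (lo := 17804) (len := 833) pS11_g21 pS11_c22

theorem pS11_g23 : allBelow chk11 19482 = true :=
  allBelow_extend (f := chk11) (lo := 18637) (len := 845) pS11_g22 pS11_c23

theorem pS11_g24 : allBelow chk11 20326 = true :=
  allBelow_extend (f := chk11) (lo := 19482) (len := 844) pS11_g23 pS11_c24

theorem pS11_g25 : allBelow chk11 21217 = true :=
  allBelow_extend (f := chk11) (lo := 20326) (len := 891) pS11_g24 pS11_c25

theorem pS11_g26 : allBelow chk11 22083 = true :=
  allBelow_extend (f := chk11) (lo := 21217) (len := 866) pS11_g25 pS11_c26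

theorem pS11_g27 : allBelow chk11 22953 = true :=
  allBelow_extend (f := chk11) (lo := 22083) (len := 870) pS11_g26 pS11_c27

theorem pS11_g28 : allBelow chk11 23800 = true :=
  allBelow_extend (f := chk11) (lo := 22953) (len := 847) pS11_g27 pS11_c28

theorem pS11_g29 : allBelow chk11 24671 = true :=
  allBelow_extend (f := chk11) (lo := 23800) (len := 871) pS11_g28 pS11_c29

theorem pS11_g30 : allBelow chk11 25553 = true :=
  allBelow_extend (f := chk11) (lo := 24671) (len := 882) pS11_g29 pS11_c30

theorem pS11_g31 : allBelow chk11 26426 = true :=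
  allBelow_extend (f := chk11) (lo := 25553) (len := 873) pS11_g30 pS11_c31

theorem pS11_g32 : allBelow chk11 27307 = true :=
  allBelow_extend (f := chk11) (lo := 26426) (len := 881) pS11_g31 pS11_c32

theorem pS11_g33 : allBelow chk11 28197 = true :=
  allBelow_extend (f := chk11) (lo := 27307) (len := 890) pS11_g32 pS11_c33

theorem pS11_g34 : allBelow chk11 29061 = true :=
  allBelow_extend (f := chk11) (lo := 28197) (len := 864) pS11_g33 pS11_c34

theorem pS11_g35 : allBelow chk11 29946 = true :=
  allBelow_extend (f := chk11) (lo := 29061) (len := 885) pS11_g34 pS11_c35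

theorem pS11_g36 : allBelow chk11 30852 = true :=
  allBelow_extend (f := chk11) (lo := 29946) (len := 906) pS11_g35 pS11_c36

theorem pS11_g37 : allBelow chk11 31745 = true :=
  allBelow_extend (f := chk11) (lo := 30852) (len := 893) pS11_g36 pS11_c37

theorem pS11_g38 : allBelow chk11 32671 = true :=
  allBelow_extend (f := chk11) (lo := 31745) (len := 926) pS11_g37 pS11_c38

theorem pS11_g39 : allBelow chk11 33658 = true :=
  allBelow_extend (f := chk11) (lo := 32671) (len := 987) pS11_g38 pS11_c39

theorem pS11_g40 : allBelow chk11 34588 = true :=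
  allBelow_extend (f := chk11) (lo := 33658) (len := 930) pS11_g39 pS11_c40

theorem pS11_g41 : allBelow chk11 35526 = true :=
  allBelow_extend (f := chk11) (lo := 34588) (len := 938) pS11_g40 pS11_c41

theorem pS11_g42 : allBelow chk11 36461 = true :=
  allBelow_extend (f := chk11) (lo := 35526) (len := 935) pS11_g41 pS11_c42

theorem pS11_g43 : allBelow chk11 37406 = true :=
  allBelow_extend (f := chk11) (lo := 36461) (len := 945) pS11_g42 pS11_c43

theorem pS11_g44 : allBelow chk11 38405 = true :=
  allBelow_extend (f := chk11) (lo := 37406) (len := 999) pS11_g43 pS11_c44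

theorem pS11_g45 : allBelow chk11 39406 = true :=
  allBelow_extend (f := chk11) (lo := 38405) (len := 1001) pS11_g44 pS11_c45

theorem pS11_g46 : allBelow chk11 40398 = true :=
  allBelow_extend (f := chk11) (lo := 39406) (len := 992) pS11_g45 pS11_c46

theorem pS11_g47 : allBelow chk11 41404 = true :=
  allBelow_extend (f := chk11) (lo := 40398) (len := 1006) pS11_g46 pS11_c47

theorem pS11_g48 : allBelow chk11 42408 = true :=
  allBelow_extend (f := chk11) (lo := 41404) (len := 1004) pS11_g47 pS11_c48

theorem pS11_g49 : allBelow chk11 43386 = true :=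
  allBelow_extend (f := chk11) (lo := 42408) (len := 978) pS11_g48 pS11_c49

theorem pS11_g50 : allBelow chk11 44341 = true :=
  allBelow_extend (f := chk11) (lo := 43386) (len := 955) pS11_g49 pS11_c50

theorem pS11_g51 : allBelow chk11 45303 = true :=
  allBelow_extend (f := chk11) (lo := 44341) (len := 962) pS11_g50 pS11_c51

theorem pS11_g52 : allBelow chk11 46289 = true :=
  allBelow_extend (f := chk11) (lo := 45303) (len := 986) pS11_g51 pS11_c52

theorem pS11_g53 : allBelow chk11 47279 = true :=
  allBelow_extend (f := chk11) (lo := 46289) (len := 990) pS11_g52 pS11_c53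

theorem pS11_g54 : allBelow chk11 48268 = true :=
  allBelow_extend (f := chk11) (lo := 47279) (len := 989) pS11_g53 pS11_c54

theorem pS11_g55 : allBelow chk11 49244 = true :=
  allBelow_extend (f := chk11) (lo := 48268) (len := 976) pS11_g54 pS11_c55

theorem pS11_g56 : allBelow chk11 50245 = true :=
  allBelow_extend (f := chk11) (lo := 49244) (len := 1001) pS11_g55 pS11_c56

theorem pS11_g57 : allBelow chk11 51229 = true :=
  allBelow_extend (f := chk11) (lo := 50245) (len := 984) pS11_g56 pS11_c57

theorem pS11_g58 : allBelow chk11 52243 = true :=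
  allBelow_extend (f := chk11) (lo := 51229) (len := 1014) pS11_g57 pS11_c58

theorem pS11_g59 : allBelow chk11 53245 = true :=
  allBelow_extend (f := chk11) (lo := 52243) (len := 1002) pS11_g58 pS11_c59

theorem pS11_g60 : allBelow chk11 54258 = true :=
  allBelow_extend (f := chk11) (lo := 53245) (len := 1013) pS11_g59 pS11_c60

theorem pS11_g61 : allBelow chk11 55285 = true :=
  allBelow_extend (f := chk11) (lo := 54258) (len := 1027) pS11_g60 pS11_c61

theorem pS11_g62 : allBelow chk11 56357 = true :=
  allBelow_extend (f := chk11) (lo := 55285) (len := 1072) pS11_g61 pS11_c62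

theorem pS11_g63 : allBelow chk11 57440 = true :=
  allBelow_extend (f := chk11) (lo := 56357) (len := 1083) pS11_g62 pS11_c63

theorem pS11_g64 : allBelow chk11 58525 = true :=
  allBelow_extend (f := chk11) (lo := 57440) (len := 1085) pS11_g63 pS11_c64

theorem pS11_g65 : allBelow chk11 59634 = true :=
  allBelow_extend (f := chk11) (lo := 58525) (len := 1109) pS11_g64 pS11_c65

theorem pS11_g66 : allBelow chk11 60742 = true :=
  allBelow_extend (f := chk11) (lo := 59634) (len := 1108) pS11_g65 pS11_c66

theorem pS11_g67 : allBelow chk11 61796 = true :=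
  allBelow_extend (f := chk11) (lo := 60742) (len := 1054) pS11_g66 pS11_c67

theorem pS11_g68 : allBelow chk11 62852 = true :=
  allBelow_extend (f := chk11) (lo := 61796) (len := 1056) pS11_g67 pS11_c68

theorem pS11_g69 : allBelow chk11 63919 = true :=
  allBelow_extend (f := chk11) (lo := 62852) (len := 1067) pS11_g68 pS11_c69

theorem pS11_g70 : allBelow chk11 65039 = true :=
  allBelow_extend (f := chk11) (lo := 63919) (len := 1120) pS11_g69 pS11_c70

theorem pS11_g71 : allBelow chk11 66184 = true :=
  allBelow_extend (f := chk11) (lo := 65039) (len := 1145) pS11_g70 pS11_c71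

theorem pS11_g72 : allBelow chk11 67345 = true :=
  allBelow_extend (f := chk11) (lo := 66184) (len := 1161) pS11_g71 pS11_c72

theorem pS11_g73 : allBelow chk11 68487 = true :=
  allBelow_extend (f := chk11) (lo := 67345) (len := 1142) pS11_g72 pS11_c73

theorem pS11_g74 : allBelow chk11 69607 = true :=
  allBelow_extend (f := chk11) (lo := 68487) (len := 1120) pS11_g73 pS11_c74

theorem pS11_g75 : allBelow chk11 70745 = true :=
  allBelow_extend (f := chk11) (lo := 69607) (len := 1138) pS11_g74 pS11_c75

theorem pS11_g76 : allBelow chk11 71899 = true :=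
  allBelow_extend (f := chk11) (lo := 70745) (len := 1154) pS11_g75 pS11_c76

theorem pS11_g77 : allBelow chk11 73066 = true :=
  allBelow_extend (f := chk11) (lo := 71899) (len := 1167) pS11_g76 pS11_c77

theorem pS11_g78 : allBelow chk11 74216 = true :=
  allBelow_extend (f := chk11) (lo := 73066) (len := 1150) pS11_g77 pS11_c78

theorem pS11_g79 : allBelow chk11 75379 = true :=
  allBelow_extend (f := chk11) (lo := 74216) (len := 1163) pS11_g78 pS11_c79

theorem pS11_g80 : allBelow chk11 76565 = true :=
  allBelow_extend (f := chk11) (lo := 75379) (len := 1186) pS11_g79 pS11_c80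

theorem pS11_g81 : allBelow chk11 77812 = true :=
  allBelow_extend (f := chk11) (lo := 76565) (len := 1247) pS11_g80 pS11_c81

theorem pS11_g82 : allBelow chk11 79036 = true :=
  allBelow_extend (f := chk11) (lo := 77812) (len := 1224) pS11_g81 pS11_c82

theorem pS11_g83 : allBelow chk11 80217 = true :=
  allBelow_extend (f := chk11) (lo := 79036) (len := 1181) pS11_g82 pS11_c83

theorem pS11_g84 : allBelow chk11 81432 = true :=
  allBelow_extend (f := chk11) (lo := 80217) (len := 1215) pS11_g83 pS11_c84

theorem pS11_g85 : allBelow chk11 82665 = true :=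
  allBelow_extend (f := chk11) (lo := 81432) (len := 1233) pS11_g84 pS11_c85

theorem pS11_g86 : allBelow chk11 83920 = true :=
  allBelow_extend (f := chk11) (lo := 82665) (len := 1255) pS11_g85 pS11_c86

theorem pS11_g87 : allBelow chk11 85169 = true :=
  allBelow_extend (f := chk11) (lo := 83920) (len := 1249) pS11_g86 pS11_c87

theorem pS11_g88 : allBelow chk11 86427 = true :=
  allBelow_extend (f := chk11) (lo := 85169) (len := 1258) pS11_g87 pS11_c88

theorem pS11_g89 : allBelow chk11 87716 = true :=
  allBelow_extend (f := chk11) (lo := 86427) (len := 1289) pS11_g88 pS11_c89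

theorem pS11_g90 : allBelow chk11 89061 = true :=
  allBelow_extend (f := chk11) (lo := 87716) (len := 1345) pS11_g89 pS11_c90

theorem pS11_g91 : allBelow chk11 90300 = true :=
  allBelow_extend (f := chk11) (lo := 89061) (len := 1239) pS11_g90 pS11_c91

theorem pS11_g92 : allBelow chk11 91544 = true :=
  allBelow_extend (f := chk11) (lo := 90300) (len := 1244) pS11_g91 pS11_c92

theorem pS11_g93 : allBelow chk11 92768 = true :=
  allBelow_extend (f := chk11) (lo := 91544) (len := 1224) pS11_g92 pS11_c93

theorem pS11_g94 : allBelow chk11 93998 = true :=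
  allBelow_extend (f := chk11) (lo := 92768) (len := 1230) pS11_g93 pS11_c94

theorem pS11_g95 : allBelow chk11 95255 = true :=
  allBelow_extend (f := chk11) (lo := 93998) (len := 1257) pS11_g94 pS11_c95

theorem pS11_g96 : allBelow chk11 96562 = true :=
  allBelow_extend (f := chk11) (lo := 95255) (len := 1307) pS11_g95 pS11_c96

theorem pS11_g97 : allBelow chk11 97848 = true :=
  allBelow_extend (f := chk11) (lo := 96562) (len := 1286) pS11_g96 pS11_c97

theorem pS11_g98 : allBelow chk11 98280 = true :=
  allBelow_extend (f := chk11) (lo := 97848) (len := 432) pS11_g97 pS11_c98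

theorem pS11_all : allBelow chk11 98280 = true := pS11_g98

end Cfsg.Agent.Lib.Helper27.Co1O
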