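import Cfsg.Agent.Lib.Helper27.Co1O.Defs0

/-! # S2069: sliced kernel computations (path certificate of a) -/

set_option autoImplicit false
set_option maxRecDepth 100000
set_option Elab.async false

namespace Cfsg.Agent.Lib.Helper27.Co1O

open Cfsg.Agent.Lib.Helper28.BSGS Cfsg.Agent.Lib.Helper22.SuzOut Cfsg.Agent.Lib.Helper27.TreeSift Cfsg.Agent.Lib.Helper27.Big

theorem pA_c0 : rangeAll chkA 0 1282 = true := by decide +kernel

theorem pA_c1 : rangeAll chkA 1282 1279 = true := by decide +kernel

theorem pA_c2 : rangeAll chkA 2561 1291 = true := by decide +kernel

theorem pA_c3 : rangeAll chkA 3852 1294 = true := by decide +kernel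

theorem pA_c4 : rangeAll chkA 5146 1353 = true := by decide +kernel

theorem pA_c5 : rangeAll chkA 6499 1363 = true := by decide +kernel

theorem pA_c6 : rangeAll chkA 7862 1371 = true := by decide +kernel

theorem pA_c7 : rangeAll chkA 9233 1348 = true := by decide +kernel

theorem pA_c8 : rangeAll chkA 10581 1369 = true := by decide +kernel

theorem pA_c9 : rangeAll chkA 11950 1384 = true := by decide +kernel

theorem pA_c10 : rangeAll chkA 13334 1407 = true := by decide +kernel

theorem pA_c11 : rangeAll chkA 14741 1406 = true := by decide +kernel

theorem pA_c12 : rangeAll chkA 16147 1421 = true := by decide +kernel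

theorem pA_c13 : rangeAll chkA 17568 1429 = true := by decide +kernel

theorem pA_c14 : rangeAll chkA 18997 1477 = true := by decide +kernel

theorem pA_c15 : rangeAll chkA 20474 1451 = true := by decide +kernel

theorem pA_c16 : rangeAll chkA 21925 1476 = true := by decide +kernel

theorem pA_c17 : rangeAll chkA 23401 1484 = true := by decide +kernel

theorem pA_c18 : rangeAll chkA 24885 1539 = true := by decide +kernel

theorem pA_c19 : rangeAll chkA 26424 1496 = true := by decide +kernel

theorem pA_c20 : rangeAll chkA 27920 1551 = true := by decide +kernel

theorem pA_c21 : rangeAll chkA 29471 1557 = true := by decide +kernel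

theorem pA_c22 : rangeAll chkA 31028 1596 = true := by decide +kernel

theorem pA_c23 : rangeAll chkA 32624 1565 = true := by decide +kernel

theorem pA_c24 : rangeAll chkA 34189 1570 = true := by decide +kernel

theorem pA_c25 : rangeAll chkA 35759 1622 = true := by decide +kernel

theorem pA_c26 : rangeAll chkA 37381 1618 = true := by decide +kernel

theorem pA_c27 : rangeAll chkA 38999 1621 = true := by decide +kernel

theorem pA_c28 : rangeAll chkA 40620 1679 = true := by decide +kernel

theorem pA_c29 : rangeAll chkA 42299 1669 = true := by decide +kernel

theorem pA_c30 : rangeAll chkA 43968 1719 = true := by decide +kernel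

theorem pA_c31 : rangeAll chkA 45687 1719 = true := by decide +kernel

theorem pA_c32 : rangeAll chkA 47406 1754 = true := by decide +kernel

theorem pA_c33 : rangeAll chkA 49160 1847 = true := by decide +kernel

theorem pA_c34 : rangeAll chkA 51007 1900 = true := by decide +kernel

theorem pA_c35 : rangeAll chkA 52907 1888 = true := by decide +kernel

theorem pA_c36 : rangeAll chkA 54795 1962 = true := by decide +kernel

theorem pA_c37 : rangeAll chkA 56757 1966 = true := by decide +kernel

theorem pA_c38 : rangeAll chkA 58723 2034 = true := by decide +kernel

theorem pA_c39 : rangeAll chkA 60757 2022 = true := by decide +kernel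

end Cfsg.Agent.Lib.Helper27.Co1O
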