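import Cfsg.Agent.Lib.Helper27.Co1O.Defs0

/-! # S2069: sliced kernel computations (path certificate of a) -/

set_option autoImplicit false
set_option maxRecDepth 100000
set_option Elab.async false

namespace Cfsg.Agent.Lib.Helper27.Co1O

open Cfsg.Agent.Lib.Helper28.BSGS Cfsg.Agent.Lib.Helper22.SuzOut Cfsg.Agent.Lib.Helper27.TreeSift Cfsg.Agent.Lib.Helper27.Big

theorem pA_c40 : rangeAll chkA 62779 2119 = true := by decide +kernel

theorem pA_c41 : rangeAll chkA 64898 2082 = true := by decide +kernel

theorem pA_c42 : rangeAll chkA 66980 2137 = true := by decide +kernel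

theorem pA_c43 : rangeAll chkA 69117 2175 = true := by decide +kernel

theorem pA_c44 : rangeAll chkA 71292 2197 = true := by decide +kernel

theorem pA_c45 : rangeAll chkA 73489 2273 = true := by decide +kernel

theorem pA_c46 : rangeAll chkA 75762 2355 = true := by decide +kernel

theorem pA_c47 : rangeAll chkA 78117 2383 = true := by decide +kernel

theorem pA_c48 : rangeAll chkA 80500 2480 = true := by decide +kernel

theorem pA_c49 : rangeAll chkA 82980 2493 = true := by decide +kernel

theorem pA_c50 : rangeAll chkA 85473 2617 = true := by decide +kernel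

theorem pA_c51 : rangeAll chkA 88090 2638 = true := by decide +kernel

theorem pA_c52 : rangeAll chkA 90728 2691 = true := by decide +kernel

theorem pA_c53 : rangeAll chkA 93419 2987 = true := by decide +kernel

theorem pA_c54 : rangeAll chkA 96406 1874 = true := by decide +kernel

end Cfsg.Agent.Lib.Helper27.Co1O
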