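import Cfsg.Agent.Lib.Helper27.Co1O.Defs0

/-! # S2069: sliced kernel computations (path certificate of d) -/

set_option autoImplicit false
set_option maxRecDepth 100000
set_option Elab.async false

namespace Cfsg.Agent.Lib.Helper27.Co1O

open Cfsg.Agent.Lib.Helper28.BSGS Cfsg.Agent.Lib.Helper22.SuzOut Cfsg.Agent.Lib.Helper27.TreeSift Cfsg.Agent.Lib.Helper27.Big

theorem pD_c0 : rangeAll chkD 0 635 = true := by decide +kernel

theorem pD_c1 : rangeAll chkD 635 658 = true := by decide +kernel

theorem pD_c2 : rangeAll chkD 1293 668 = true := by decide +kernel

theorem pD_c3 : rangeAll chkD 1961 671 = true := by decide +kernel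

theorem pD_c4 : rangeAll chkD 2632 687 = true := by decide +kernel

theorem pD_c5 : rangeAll chkD 3319 669 = true := by decide +kernel

theorem pD_c6 : rangeAll chkD 3988 664 = true := by decide +kernel

theorem pD_c7 : rangeAll chkD 4652 670 = true := by decide +kernel

theorem pD_c8 : rangeAll chkD 5322 700 = true := by decide +kernel

theorem pD_c9 : rangeAll chkD 6022 692 = true := by decide +kernel

theorem pD_c10 : rangeAll chkD 6714 689 = true := by decide +kernel

theorem pD_c11 : rangeAll chkD 7403 702 = true := by decide +kernel

theorem pD_c12 : rangeAll chkD 8105 694 = true := by decide +kernel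

theorem pD_c13 : rangeAll chkD 8799 685 = true := by decide +kernel

theorem pD_c14 : rangeAll chkD 9484 666 = true := by decide +kernel

theorem pD_c15 : rangeAll chkD 10150 603 = true := by decide +kernel

theorem pD_c16 : rangeAll chkD 10753 692 = true := by decide +kernel

theorem pD_c17 : rangeAll chkD 11445 686 = true := by decide +kernel

theorem pD_c18 : rangeAll chkD 12131 717 = true := by decide +kernel

theorem pD_c19 : rangeAll chkD 12848 634 = true := by decide +kernel

theorem pD_c20 : rangeAll chkD 13482 688 = true := by decide +kernel

theorem pD_c21 : rangeAll chkD 14170 743 = true := by decide +kernel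

theorem pD_c22 : rangeAll chkD 14913 699 = true := by decide +kernel

theorem pD_c23 : rangeAll chkD 15612 629 = true := by decide +kernel

theorem pD_c24 : rangeAll chkD 16241 698 = true := by decide +kernel

theorem pD_c25 : rangeAll chkD 16939 731 = true := by decide +kernel

theorem pD_c26 : rangeAll chkD 17670 684 = true := by decide +kernel

theorem pD_c27 : rangeAll chkD 18354 679 = true := by decide +kernel

theorem pD_c28 : rangeAll chkD 19033 691 = true := by decide +kernel

theorem pD_c29 : rangeAll chkD 19724 795 = true := by decide +kernel

theorem pD_c30 : rangeAll chkD 20519 705 = true := by decide +kernel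

theorem pD_c31 : rangeAll chkD 21224 632 = true := by decide +kernel

theorem pD_c32 : rangeAll chkD 21856 722 = true := by decide +kernel

theorem pD_c33 : rangeAll chkD 22578 694 = true := by decide +kernel

theorem pD_c34 : rangeAll chkD 23272 773 = true := by decide +kernel

theorem pD_c35 : rangeAll chkD 24045 649 = true := by decide +kernel

theorem pD_c36 : rangeAll chkD 24694 724 = true := by decide +kernel

theorem pD_c37 : rangeAll chkD 25418 779 = true := by decide +kernel

theorem pD_c38 : rangeAll chkD 26197 718 = true := by decide +kernel

theorem pD_c39 : rangeAll chkD 26915 665 = true := by decide +kernel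

end Cfsg.Agent.Lib.Helper27.Co1O
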