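import Cfsg.Agent.Lib.Helper27.Co1O.Defs0

/-! # S2069: sliced kernel computations (path certificate of d) -/

set_option autoImplicit false
set_option maxRecDepth 100000
set_option Elab.async false

namespace Cfsg.Agent.Lib.Helper27.Co1O

open Cfsg.Agent.Lib.Helper28.BSGS Cfsg.Agent.Lib.Helper22.SuzOut Cfsg.Agent.Lib.Helper27.TreeSift Cfsg.Agent.Lib.Helper27.Big

theorem pD_c40 : rangeAll chkD 27580 725 = true := by decide +kernel

theorem pD_c41 : rangeAll chkD 28305 807 = true := by decide +kernel

theorem pD_c42 : rangeAll chkD 29112 665 = true := by decide +kernel

theorem pD_c43 : rangeAll chkD 29777 747 = true := by decide +kernel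

theorem pD_c44 : rangeAll chkD 30524 721 = true := by decide +kernel

theorem pD_c45 : rangeAll chkD 31245 821 = true := by decide +kernel

theorem pD_c46 : rangeAll chkD 32066 744 = true := by decide +kernel

theorem pD_c47 : rangeAll chkD 32810 755 = true := by decide +kernel

theorem pD_c48 : rangeAll chkD 33565 761 = true := by decide +kernel

theorem pD_c49 : rangeAll chkD 34326 736 = true := by decide +kernel

theorem pD_c50 : rangeAll chkD 35062 761 = true := by decide +kernel

theorem pD_c51 : rangeAll chkD 35823 791 = true := by decide +kernel

theorem pD_c52 : rangeAll chkD 36614 789 = true := by decide +kernel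

theorem pD_c53 : rangeAll chkD 37403 777 = true := by decide +kernel

theorem pD_c54 : rangeAll chkD 38180 778 = true := by decide +kernel

theorem pD_c55 : rangeAll chkD 38958 760 = true := by decide +kernel

theorem pD_c56 : rangeAll chkD 39718 772 = true := by decide +kernel

theorem pD_c57 : rangeAll chkD 40490 808 = true := by decide +kernel

theorem pD_c58 : rangeAll chkD 41298 806 = true := by decide +kernel

theorem pD_c59 : rangeAll chkD 42104 800 = true := by decide +kernel

theorem pD_c60 : rangeAll chkD 42904 778 = true := by decide +kernel

theorem pD_c61 : rangeAll chkD 43682 797 = true := by decide +kernel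

theorem pD_c62 : rangeAll chkD 44479 774 = true := by decide +kernel

theorem pD_c63 : rangeAll chkD 45253 772 = true := by decide +kernel

theorem pD_c64 : rangeAll chkD 46025 776 = true := by decide +kernel

theorem pD_c65 : rangeAll chkD 46801 754 = true := by decide +kernel

theorem pD_c66 : rangeAll chkD 47555 765 = true := by decide +kernel

theorem pD_c67 : rangeAll chkD 48320 800 = true := by decide +kernel

theorem pD_c68 : rangeAll chkD 49120 834 = true := by decide +kernel

theorem pD_c69 : rangeAll chkD 49954 871 = true := by decide +kernel

theorem pD_c70 : rangeAll chkD 50825 895 = true := by decide +kernel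

theorem pD_c71 : rangeAll chkD 51720 825 = true := by decide +kernel

theorem pD_c72 : rangeAll chkD 52545 916 = true := by decide +kernel

theorem pD_c73 : rangeAll chkD 53461 777 = true := by decide +kernel

theorem pD_c74 : rangeAll chkD 54238 838 = true := by decide +kernel

theorem pD_c75 : rangeAll chkD 55076 918 = true := by decide +kernel

theorem pD_c76 : rangeAll chkD 55994 834 = true := by decide +kernel

theorem pD_c77 : rangeAll chkD 56828 800 = true := by decide +kernel

theorem pD_c78 : rangeAll chkD 57628 860 = true := by decide +kernel

theorem pD_c79 : rangeAll chkD 58488 900 = true := by decide +kernel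

end Cfsg.Agent.Lib.Helper27.Co1O
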