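import Cfsg.Agent.Lib.Helper27.Co1O.Defs0

/-! # S2069: sliced kernel computations (path certificate of d) -/

set_option autoImplicit false
set_option maxRecDepth 100000
set_option Elab.async false

namespace Cfsg.Agent.Lib.Helper27.Co1O

open Cfsg.Agent.Lib.Helper28.BSGS Cfsg.Agent.Lib.Helper22.SuzOut Cfsg.Agent.Lib.Helper27.TreeSift Cfsg.Agent.Lib.Helper27.Big

theorem pD_c80 : rangeAll chkD 59388 867 = true := by decide +kernel

theorem pD_c81 : rangeAll chkD 60255 863 = true := by decide +kernel

theorem pD_c82 : rangeAll chkD 61118 844 = true := by decide +kernel

theorem pD_c83 : rangeAll chkD 61962 835 = true := by decide +kernel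

theorem pD_c84 : rangeAll chkD 62797 907 = true := by decide +kernel

theorem pD_c85 : rangeAll chkD 63704 910 = true := by decide +kernel

theorem pD_c86 : rangeAll chkD 64614 898 = true := by decide +kernel

theorem pD_c87 : rangeAll chkD 65512 913 = true := by decide +kernel

theorem pD_c88 : rangeAll chkD 66425 798 = true := by decide +kernel

theorem pD_c89 : rangeAll chkD 67223 923 = true := by decide +kernel

theorem pD_c90 : rangeAll chkD 68146 1027 = true := by decide +kernel

theorem pD_c91 : rangeAll chkD 69173 834 = true := by decide +kernel

theorem pD_c92 : rangeAll chkD 70007 942 = true := by decide +kernel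

theorem pD_c93 : rangeAll chkD 70949 1038 = true := by decide +kernel

theorem pD_c94 : rangeAll chkD 71987 842 = true := by decide +kernel

theorem pD_c95 : rangeAll chkD 72829 952 = true := by decide +kernel

theorem pD_c96 : rangeAll chkD 73781 993 = true := by decide +kernel

theorem pD_c97 : rangeAll chkD 74774 946 = true := by decide +kernel

theorem pD_c98 : rangeAll chkD 75720 1002 = true := by decide +kernel

theorem pD_c99 : rangeAll chkD 76722 1027 = true := by decide +kernel

theorem pD_c100 : rangeAll chkD 77749 846 = true := by decide +kernel

theorem pD_c101 : rangeAll chkD 78595 979 = true := by decide +kernel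

theorem pD_c102 : rangeAll chkD 79574 1048 = true := by decide +kernel

theorem pD_c103 : rangeAll chkD 80622 973 = true := by decide +kernel

theorem pD_c104 : rangeAll chkD 81595 1044 = true := by decide +kernel

theorem pD_c105 : rangeAll chkD 82639 952 = true := by decide +kernel

theorem pD_c106 : rangeAll chkD 83591 992 = true := by decide +kernel

theorem pD_c107 : rangeAll chkD 84583 1126 = true := by decide +kernel

theorem pD_c108 : rangeAll chkD 85709 891 = true := by decide +kernel

theorem pD_c109 : rangeAll chkD 86600 1037 = true := by decide +kernel

theorem pD_c110 : rangeAll chkD 87637 1154 = true := by decide +kernel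

theorem pD_c111 : rangeAll chkD 88791 995 = true := by decide +kernel

theorem pD_c112 : rangeAll chkD 89786 985 = true := by decide +kernel

theorem pD_c113 : rangeAll chkD 90771 1005 = true := by decide +kernel

theorem pD_c114 : rangeAll chkD 91776 947 = true := by decide +kernel

theorem pD_c115 : rangeAll chkD 92723 1028 = true := by decide +kernel

theorem pD_c116 : rangeAll chkD 93751 1069 = true := by decide +kernel

theorem pD_c117 : rangeAll chkD 94820 1070 = true := by decide +kernel

theorem pD_c118 : rangeAll chkD 95890 1043 = true := by decide +kernel

theorem pD_c119 : rangeAll chkD 96933 1105 = true := by decide +kernel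

end Cfsg.Agent.Lib.Helper27.Co1O
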