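import Cfsg.Agent.Lib.Helper27.Co1O.Defs0

/-! # S2069: sliced kernel computations (path certificate of y) -/

set_option autoImplicit false
set_option maxRecDepth 100000
set_option Elab.async false

namespace Cfsg.Agent.Lib.Helper27.Co1O

open Cfsg.Agent.Lib.Helper28.BSGS Cfsg.Agent.Lib.Helper22.SuzOut Cfsg.Agent.Lib.Helper27.TreeSift Cfsg.Agent.Lib.Helper27.Big

theorem pY_c40 : rangeAll chkY 34436 955 = true := by decide +kernel

theorem pY_c41 : rangeAll chkY 35391 972 = true := by decide +kernel

theorem pY_c42 : rangeAll chkY 36363 954 = true := by decide +kernel

theorem pY_c43 : rangeAll chkY 37317 950 = true := by decide +kernel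

theorem pY_c44 : rangeAll chkY 38267 932 = true := by decide +kernel

theorem pY_c45 : rangeAll chkY 39199 965 = true := by decide +kernel

theorem pY_c46 : rangeAll chkY 40164 978 = true := by decide +kernel

theorem pY_c47 : rangeAll chkY 41142 994 = true := by decide +kernel

theorem pY_c48 : rangeAll chkY 42136 1006 = true := by decide +kernel

theorem pY_c49 : rangeAll chkY 43142 997 = true := by decide +kernel

theorem pY_c50 : rangeAll chkY 44139 994 = true := by decide +kernel

theorem pY_c51 : rangeAll chkY 45133 1007 = true := by decide +kernel

theorem pY_c52 : rangeAll chkY 46140 992 = true := by decide +kernel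

theorem pY_c53 : rangeAll chkY 47132 1004 = true := by decide +kernel

theorem pY_c54 : rangeAll chkY 48136 1005 = true := by decide +kernel

theorem pY_c55 : rangeAll chkY 49141 1028 = true := by decide +kernel

theorem pY_c56 : rangeAll chkY 50169 1037 = true := by decide +kernel

theorem pY_c57 : rangeAll chkY 51206 1029 = true := by decide +kernel

theorem pY_c58 : rangeAll chkY 52235 1039 = true := by decide +kernel

theorem pY_c59 : rangeAll chkY 53274 1029 = true := by decide +kernel

theorem pY_c60 : rangeAll chkY 54303 1038 = true := by decide +kernel

theorem pY_c61 : rangeAll chkY 55341 1068 = true := by decide +kernel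

theorem pY_c62 : rangeAll chkY 56409 1021 = true := by decide +kernel

theorem pY_c63 : rangeAll chkY 57430 1017 = true := by decide +kernel

theorem pY_c64 : rangeAll chkY 58447 1000 = true := by decide +kernel

theorem pY_c65 : rangeAll chkY 59447 1012 = true := by decide +kernel

theorem pY_c66 : rangeAll chkY 60459 1068 = true := by decide +kernel

theorem pY_c67 : rangeAll chkY 61527 1057 = true := by decide +kernel

theorem pY_c68 : rangeAll chkY 62584 1103 = true := by decide +kernel

theorem pY_c69 : rangeAll chkY 63687 1099 = true := by decide +kernel

theorem pY_c70 : rangeAll chkY 64786 1053 = true := by decide +kernel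

theorem pY_c71 : rangeAll chkY 65839 1099 = true := by decide +kernel

theorem pY_c72 : rangeAll chkY 66938 1122 = true := by decide +kernel

theorem pY_c73 : rangeAll chkY 68060 1107 = true := by decide +kernel

theorem pY_c74 : rangeAll chkY 69167 1147 = true := by decide +kernel

theorem pY_c75 : rangeAll chkY 70314 1133 = true := by decide +kernel

theorem pY_c76 : rangeAll chkY 71447 1191 = true := by decide +kernel

theorem pY_c77 : rangeAll chkY 72638 1142 = true := by decide +kernel

theorem pY_c78 : rangeAll chkY 73780 1139 = true := by decide +kernel

theorem pY_c79 : rangeAll chkY 74919 1107 = true := by decide +kernel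

end Cfsg.Agent.Lib.Helper27.Co1O
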