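import Cfsg.Agent.Lib.Helper27.Co1O.Defs0

/-! # S2069: sliced kernel computations (path certificate of y) -/

set_option autoImplicit false
set_option maxRecDepth 100000
set_option Elab.async false

namespace Cfsg.Agent.Lib.Helper27.Co1O

open Cfsg.Agent.Lib.Helper28.BSGS Cfsg.Agent.Lib.Helper22.SuzOut Cfsg.Agent.Lib.Helper27.TreeSift Cfsg.Agent.Lib.Helper27.Big

theorem pY_c80 : rangeAll chkY 76026 1119 = true := by decide +kernel

theorem pY_c81 : rangeAll chkY 77145 1153 = true := by decide +kernel

theorem pY_c82 : rangeAll chkY 78298 1168 = true := by decide +kernel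

theorem pY_c83 : rangeAll chkY 79466 1183 = true := by decide +kernel

theorem pY_c84 : rangeAll chkY 80649 1214 = true := by decide +kernel

theorem pY_c85 : rangeAll chkY 81863 1231 = true := by decide +kernel

theorem pY_c86 : rangeAll chkY 83094 1245 = true := by decide +kernel

theorem pY_c87 : rangeAll chkY 84339 1191 = true := by decide +kernel

theorem pY_c88 : rangeAll chkY 85530 1196 = true := by decide +kernel

theorem pY_c89 : rangeAll chkY 86726 1185 = true := by decide +kernel

theorem pY_c90 : rangeAll chkY 87911 1202 = true := by decide +kernel

theorem pY_c91 : rangeAll chkY 89113 1230 = true := by decide +kernel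

theorem pY_c92 : rangeAll chkY 90343 1275 = true := by decide +kernel

theorem pY_c93 : rangeAll chkY 91618 1260 = true := by decide +kernel

theorem pY_c94 : rangeAll chkY 92878 1273 = true := by decide +kernel

theorem pY_c95 : rangeAll chkY 94151 1250 = true := by decide +kernel

theorem pY_c96 : rangeAll chkY 95401 1229 = true := by decide +kernel

theorem pY_c97 : rangeAll chkY 96630 1245 = true := by decide +kernel

theorem pY_c98 : rangeAll chkY 97875 405 = true := by decide +kernel

end Cfsg.Agent.Lib.Helper27.Co1O
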