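import Cfsg.Agent.Lib.Helper27.Co1O.PathY0
import Cfsg.Agent.Lib.Helper27.Co1O.PathY1
import Cfsg.Agent.Lib.Helper27.Co1O.PathY2
import Cfsg.Agent.Lib.Helper27.Co1O.PathA0
import Cfsg.Agent.Lib.Helper27.Co1O.PathA1
import Cfsg.Agent.Lib.Helper27.Co1O.PathD0
import Cfsg.Agent.Lib.Helper27.Co1O.PathD1
import Cfsg.Agent.Lib.Helper27.Co1O.PathD2
import Cfsg.Agent.Lib.Helper27.Co1O.PathD3

/-! # S2069: gluing the slices of the path certificates of `y`, `a`, `d` -/

set_option autoImplicit false

namespace Cfsg.Agent.Lib.Helper27.Co1O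

open Cfsg.Agent.Lib.Helper28.BSGS Cfsg.Agent.Lib.Helper22.SuzOut Cfsg.Agent.Lib.Helper27.TreeSift Cfsg.Agent.Lib.Helper27.Big

theorem pY_g0 : allBelow chkY 769 = true :=
  allBelow_extend (f := chkY) (lo := 0) (len := 769) (allBelow_zero chkY) pY_c0

theorem pY_g1 : allBelow chkY 1560 = true :=
  allBelow_extend (f := chkY) (lo := 769) (len := 791) pY_g0 pY_c1

theorem pY_g2 : allBelow chkY 2361 = true :=
  allBelow_extend (f := chkY) (lo := 1560) (len := 801) pY_g1 pY_c2

theorem pY_g3 : allBelow chkY 3158 = true :=
  allBelow_extend (f := chkY) (lo := 2361) (len := 797) pY_g2 pY_c3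

theorem pY_g4 : allBelow chkY 3959 = true :=
  allBelow_extend (f := chkY) (lo := 3158) (len := 801) pY_g3 pY_c4

theorem pY_g5 : allBelow chkY 4759 = true :=
  allBelow_extend (f := chkY) (lo := 3959) (len := 800) pY_g4 pY_c5

theorem pY_g6 : allBelow chkY 5564 = true :=
  allBelow_extend (f := chkY) (lo := 4759) (len := 805) pY_g5 pY_c6

theorem pY_g7 : allBelow chkY 6388 = true :=
  allBelow_extend (f := chkY) (lo := 5564) (len := 824) pY_g6 pY_c7

theorem pY_g8 : allBelow chkY 7204 = true :=
  allBelow_extend (f := chkY) (lo := 6388) (len := 816) pY_g7 pY_c8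

theorem pY_g9 : allBelow chkY 8008 = true :=
  allBelow_extend (f := chkY) (lo := 7204) (len := 804) pY_g8 pY_c9

theorem pY_g10 : allBelow chkY 8823 = true :=
  allBelow_extend (f := chkY) (lo := 8008) (len := 815) pY_g9 pY_c10

theorem pY_g11 : allBelow chkY 9658 = true :=
  allBelow_extend (f := chkY) (lo := 8823) (len := 835) pY_g10 pY_c11

theorem pY_g12 : allBelow chkY 10489 = true :=
  allBelow_extend (f := chkY) (lo := 9658) (len := 831) pY_g11 pY_c12

theorem pY_g13 : allBelow chkY 11334 = true :=
  allBelow_extend (f := chkY) (lo := 10489) (len := 845) pY_g12 pY_c13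

theorem pY_g14 : allBelow chkY 12160 = true :=
  allBelow_extend (f := chkY) (lo := 11334) (len := 826) pY_g13 pY_c14

theorem pY_g15 : allBelow chkY 13014 = true :=
  allBelow_extend (f := chkY) (lo := 12160) (len := 854) pY_g14 pY_c15

theorem pY_g16 : allBelow chkY 13869 = true :=
  allBelow_extend (f := chkY) (lo := 13014) (len := 855) pY_g15 pY_c16

theorem pY_g17 : allBelow chkY 14724 = true :=
  allBelow_extend (f := chkY) (lo := 13869) (len := 855) pY_g16 pY_c17

theorem pY_g18 : allBelow chkY 15608 = true :=
  allBelow_extend (f := chkY) (lo := 14724) (len := 884) pY_g17 pY_c18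

theorem pY_g19 : allBelow chkY 16493 = true :=
  allBelow_extend (f := chkY) (lo := 15608) (len := 885) pY_g18 pY_c19

theorem pY_g20 : allBelow chkY 17368 = true :=
  allBelow_extend (f := chkY) (lo := 16493) (len := 875) pY_g19 pY_c20

theorem pY_g21 : allBelow chkY 18252 = true :=
  allBelow_extend (f := chkY) (lo := 17368) (len := 884) pY_g20 pY_c21

theorem pY_g22 : allBelow chkY 19120 = true :=
  allBelow_extend (f := chkY) (lo := 18252) (len := 868) pY_g21 pY_c22

theorem pY_g23 : allBelow chkY 19986 = true :=
  allBelow_extend (f := chkY) (lo := 19120) (len := 866) pY_g22 pY_c23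

theorem pY_g24 : allBelow chkY 20874 = true :=
  allBelow_extend (f := chkY) (lo := 19986) (len := 888) pY_g23 pY_c24

theorem pY_g25 : allBelow chkY 21734 = true :=
  allBelow_extend (f := chkY) (lo := 20874) (len := 860) pY_g24 pY_c25

theorem pY_g26 : allBelow chkY 22614 = true :=
  allBelow_extend (f := chkY) (lo := 21734) (len := 880) pY_g25 pY_c26

theorem pY_g27 : allBelow chkY 23472 = true :=
  allBelow_extend (f := chkY) (lo := 22614) (len := 858) pY_g26 pY_c27

theorem pY_g28 : allBelow chkY 24350 = true :=
  allBelow_extend (f := chkY) (lo := 23472) (len := 878) pY_g27 pY_c28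

theorem pY_g29 : allBelow chkY 25246 = true :=
  allBelow_extend (f := chkY) (lo := 24350) (len := 896) pY_g28 pY_c29

theorem pY_g30 : allBelow chkY 26148 = true :=
  allBelow_extend (f := chkY) (lo := 25246) (len := 902) pY_g29 pY_c30

theorem pY_g31 : allBelow chkY 27072 = true :=
  allBelow_extend (f := chkY) (lo := 26148) (len := 924) pY_g30 pY_c31

theorem pY_g32 : allBelow chkY 27985 = true :=
  allBelow_extend (f := chkY) (lo := 27072) (len := 913) pY_g31 pY_c32

theorem pY_g33 : allBelow chkY 28889 = true :=
  allBelow_extend (f := chkY) (lo := 27985) (len := 904) pY_g32 pY_c33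

theorem pY_g34 : allBelow chkY 29792 = true :=
  allBelow_extend (f := chkY) (lo := 28889) (len := 903) pY_g33 pY_c34

theorem pY_g35 : allBelow chkY 30689 = true :=
  allBelow_extend (f := chkY) (lo := 29792) (len := 897) pY_g34 pY_c35

theorem pY_g36 : allBelow chkY 31613 = true :=
  allBelow_extend (f := chkY) (lo := 30689) (len := 924) pY_g35 pY_c36

theorem pY_g37 : allBelow chkY 32528 = true :=
  allBelow_extend (f := chkY) (lo := 31613) (len := 915) pY_g36 pY_c37

theorem pY_g38 : allBelow chkY 33460 = true :=
  allBelow_extend (f := chkY) (lo := 32528) (len := 932) pY_g37 pY_c38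

theorem pY_g39 : allBelow chkY 34436 = true :=
  allBelow_extend (f := chkY) (lo := 33460) (len := 976) pY_g38 pY_c39

theorem pY_g40 : allBelow chkY 35391 = true :=
  allBelow_extend (f := chkY) (lo := 34436) (len := 955) pY_g39 pY_c40

theorem pY_g41 : allBelow chkY 36363 = true :=
  allBelow_extend (f := chkY) (lo := 35391) (len := 972) pY_g40 pY_c41

theorem pY_g42 : allBelow chkY 37317 = true :=
  allBelow_extend (f := chkY) (lo := 36363) (len := 954) pY_g41 pY_c42

theorem pY_g43 : allBelow chkY 38267 = true :=
  allBelow_extend (f := chkY) (lo := 37317) (len := 950) pY_g42 pY_c43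

theorem pY_g44 : allBelow chkY 39199 = true :=
  allBelow_extend (f := chkY) (lo := 38267) (len := 932) pY_g43 pY_c44

theorem pY_g45 : allBelow chkY 40164 = true :=
  allBelow_extend (f := chkY) (lo := 39199) (len := 965) pY_g44 pY_c45

theorem pY_g46 : allBelow chkY 41142 = true :=
  allBelow_extend (f := chkY) (lo := 40164) (len := 978) pY_g45 pY_c46

theorem pY_g47 : allBelow chkY 42136 = true :=
  allBelow_extend (f := chkY) (lo := 41142) (len := 994) pY_g46 pY_c47

theorem pY_g48 : allBelow chkY 43142 = true :=
  allBelow_extend (f := chkY) (lo := 42136) (len := 1006) pY_g47 pY_c48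

theorem pY_g49 : allBelow chkY 44139 = true :=
  allBelow_extend (f := chkY) (lo := 43142) (len := 997) pY_g48 pY_c49

theorem pY_g50 : allBelow chkY 45133 = true :=
  allBelow_extend (f := chkY) (lo := 44139) (len := 994) pY_g49 pY_c50

theorem pY_g51 : allBelow chkY 46140 = true :=
  allBelow_extend (f := chkY) (lo := 45133) (len := 1007) pY_g50 pY_c51

theorem pY_g52 : allBelow chkY 47132 = true :=
  allBelow_extend (f := chkY) (lo := 46140) (len := 992) pY_g51 pY_c52

theorem pY_g53 : allBelow chkY 48136 = true :=
  allBelow_extend (f := chkY) (lo := 47132) (len := 1004) pY_g52 pY_c53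

theorem pY_g54 : allBelow chkY 49141 = true :=
  allBelow_extend (f := chkY) (lo := 48136) (len := 1005) pY_g53 pY_c54

theorem pY_g55 : allBelow chkY 50169 = true :=
  allBelow_extend (f := chkY) (lo := 49141) (len := 1028) pY_g54 pY_c55

theorem pY_g56 : allBelow chkY 51206 = true :=
  allBelow_extend (f := chkY) (lo := 50169) (len := 1037) pY_g55 pY_c56

theorem pY_g57 : allBelow chkY 52235 = true :=
  allBelow_extend (f := chkY) (lo := 51206) (len := 1029) pY_g56 pY_c57

theorem pY_g58 : allBelow chkY 53274 = true :=
  allBelow_extend (f := chkY) (lo := 52235) (len := 1039) pY_g57 pY_c58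

theorem pY_g59 : allBelow chkY 54303 = true :=
  allBelow_extend (f := chkY) (lo := 53274) (len := 1029) pY_g58 pY_c59

theorem pY_g60 : allBelow chkY 55341 = true :=
  allBelow_extend (f := chkY) (lo := 54303) (len := 1038) pY_g59 pY_c60

theorem pY_g61 : allBelow chkY 56409 = true :=
  allBelow_extend (f := chkY) (lo := 55341) (len := 1068) pY_g60 pY_c61

theorem pY_g62 : allBelow chkY 57430 = true :=
  allBelow_extend (f := chkY) (lo := 56409) (len := 1021) pY_g61 pY_c62

theorem pY_g63 : allBelow chkY 58447 = true :=
  allBelow_extend (f := chkY) (lo := 57430) (len := 1017) pY_g62 pY_c63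

theorem pY_g64 : allBelow chkY 59447 = true :=
  allBelow_extend (f := chkY) (lo := 58447) (len := 1000) pY_g63 pY_c64

theorem pY_g65 : allBelow chkY 60459 = true :=
  allBelow_extend (f := chkY) (lo := 59447) (len := 1012) pY_g64 pY_c65

theorem pY_g66 : allBelow chkY 61527 = true :=
  allBelow_extend (f := chkY) (lo := 60459) (len := 1068) pY_g65 pY_c66

theorem pY_g67 : allBelow chkY 62584 = true :=
  allBelow_extend (f := chkY) (lo := 61527) (len := 1057) pY_g66 pY_c67

theorem pY_g68 : allBelow chkY 63687 = true :=
  allBelow_extend (f := chkY) (lo := 62584) (len := 1103) pY_g67 pY_c68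

theorem pY_g69 : allBelow chkY 64786 = true :=
  allBelow_extend (f := chkY) (lo := 63687) (len := 1099) pY_g68 pY_c69

theorem pY_g70 : allBelow chkY 65839 = true :=
  allBelow_extend (f := chkY) (lo := 64786) (len := 1053) pY_g69 pY_c70

theorem pY_g71 : allBelow chkY 66938 = true :=
  allBelow_extend (f := chkY) (lo := 65839) (len := 1099) pY_g70 pY_c71

theorem pY_g72 : allBelow chkY 68060 = true :=
  allBelow_extend (f := chkY) (lo := 66938) (len := 1122) pY_g71 pY_c72

theorem pY_g73 : allBelow chkY 69167 = true :=
  allBelow_extend (f := chkY) (lo := 68060) (len := 1107) pY_g72 pY_c73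

theorem pY_g74 : allBelow chkY 70314 = true :=
  allBelow_extend (f := chkY) (lo := 69167) (len := 1147) pY_g73 pY_c74

theorem pY_g75 : allBelow chkY 71447 = true :=
  allBelow_extend (f := chkY) (lo := 70314) (len := 1133) pY_g74 pY_c75

theorem pY_g76 : allBelow chkY 72638 = true :=
  allBelow_extend (f := chkY) (lo := 71447) (len := 1191) pY_g75 pY_c76

theorem pY_g77 : allBelow chkY 73780 = true :=
  allBelow_extend (f := chkY) (lo := 72638) (len := 1142) pY_g76 pY_c77

theorem pY_g78 : allBelow chkY 74919 = true :=
  allBelow_extend (f := chkY) (lo := 73780) (len := 1139) pY_g77 pY_c78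

theorem pY_g79 : allBelow chkY 76026 = true :=
  allBelow_extend (f := chkY) (lo := 74919) (len := 1107) pY_g78 pY_c79

theorem pY_g80 : allBelow chkY 77145 = true :=
  allBelow_extend (f := chkY) (lo := 76026) (len := 1119) pY_g79 pY_c80

theorem pY_g81 : allBelow chkY 78298 = true :=
  allBelow_extend (f := chkY) (lo := 77145) (len := 1153) pY_g80 pY_c81

theorem pY_g82 : allBelow chkY 79466 = true :=
  allBelow_extend (f := chkY) (lo := 78298) (len := 1168) pY_g81 pY_c82

theorem pY_g83 : allBelow chkY 80649 = true :=
  allBelow_extend (f := chkY) (lo := 79466) (len := 1183) pY_g82 pY_c83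

theorem pY_g84 : allBelow chkY 81863 = true :=
  allBelow_extend (f := chkY) (lo := 80649) (len := 1214) pY_g83 pY_c84

theorem pY_g85 : allBelow chkY 83094 = true :=
  allBelow_extend (f := chkY) (lo := 81863) (len := 1231) pY_g84 pY_c85

theorem pY_g86 : allBelow chkY 84339 = true :=
  allBelow_extend (f := chkY) (lo := 83094) (len := 1245) pY_g85 pY_c86

theorem pY_g87 : allBelow chkY 85530 = true :=
  allBelow_extend (f := chkY) (lo := 84339) (len := 1191) pY_g86 pY_c87

theorem pY_g88 : allBelow chkY 86726 = true :=
  allBelow_extend (f := chkY) (lo := 85530) (len := 1196) pY_g87 pY_c88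

theorem pY_g89 : allBelow chkY 87911 = true :=
  allBelow_extend (f := chkY) (lo := 86726) (len := 1185) pY_g88 pY_c89

theorem pY_g90 : allBelow chkY 89113 = true :=
  allBelow_extend (f := chkY) (lo := 87911) (len := 1202) pY_g89 pY_c90

theorem pY_g91 : allBelow chkY 90343 = true :=
  allBelow_extend (f := chkY) (lo := 89113) (len := 1230) pY_g90 pY_c91

theorem pY_g92 : allBelow chkY 91618 = true :=
  allBelow_extend (f := chkY) (lo := 90343) (len := 1275) pY_g91 pY_c92

theorem pY_g93 : allBelow chkY 92878 = true :=
  allBelow_extend (f := chkY) (lo := 91618) (len := 1260) pY_g92 pY_c93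

theorem pY_g94 : allBelow chkY 94151 = true :=
  allBelow_extend (f := chkY) (lo := 92878) (len := 1273) pY_g93 pY_c94

theorem pY_g95 : allBelow chkY 95401 = true :=
  allBelow_extend (f := chkY) (lo := 94151) (len := 1250) pY_g94 pY_c95

theorem pY_g96 : allBelow chkY 96630 = true :=
  allBelow_extend (f := chkY) (lo := 95401) (len := 1229) pY_g95 pY_c96

theorem pY_g97 : allBelow chkY 97875 = true :=
  allBelow_extend (f := chkY) (lo := 96630) (len := 1245) pY_g96 pY_c97

theorem pY_g98 : allBelow chkY 98280 = true :=
  allBelow_extend (f := chkY) (lo := 97875) (len := 405) pY_g97 pY_c98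

theorem pY_all : allBelow chkY 98280 = true := pY_g98

theorem pA_g0 : allBelow chkA 1282 = true :=
  allBelow_extend (f := chkA) (lo := 0) (len := 1282) (allBelow_zero chkA) pA_c0

theorem pA_g1 : allBelow chkA 2561 = true :=
  allBelow_extend (f := chkA) (lo := 1282) (len := 1279) pA_g0 pA_c1

theorem pA_g2 : allBelow chkA 3852 = true :=
  allBelow_extend (f := chkA) (lo := 2561) (len := 1291) pA_g1 pA_c2

theorem pA_g3 : allBelow chkA 5146 = true :=
  allBelow_extend (f := chkA) (lo := 3852) (len := 1294) pA_g2 pA_c3

theorem pA_g4 : allBelow chkA 6499 = true :=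
  allBelow_extend (f := chkA) (lo := 5146) (len := 1353) pA_g3 pA_c4

theorem pA_g5 : allBelow chkA 7862 = true :=
  allBelow_extend (f := chkA) (lo := 6499) (len := 1363) pA_g4 pA_c5

theorem pA_g6 : allBelow chkA 9233 = true :=
  allBelow_extend (f := chkA) (lo := 7862) (len := 1371) pA_g5 pA_c6

theorem pA_g7 : allBelow chkA 10581 = true :=
  allBelow_extend (f := chkA) (lo := 9233) (len := 1348) pA_g6 pA_c7

theorem pA_g8 : allBelow chkA 11950 = true :=
  allBelow_extend (f := chkA) (lo := 10581) (len := 1369) pA_g7 pA_c8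

theorem pA_g9 : allBelow chkA 13334 = true :=
  allBelow_extend (f := chkA) (lo := 11950) (len := 1384) pA_g8 pA_c9

theorem pA_g10 : allBelow chkA 14741 = true :=
  allBelow_extend (f := chkA) (lo := 13334) (len := 1407) pA_g9 pA_c10

theorem pA_g11 : allBelow chkA 16147 = true :=
  allBelow_extend (f := chkA) (lo := 14741) (len := 1406) pA_g10 pA_c11

theorem pA_g12 : allBelow chkA 17568 = true :=
  allBelow_extend (f := chkA) (lo := 16147) (len := 1421) pA_g11 pA_c12

theorem pA_g13 : allBelow chkA 18997 = true :=
  allBelow_extend (f := chkA) (lo := 17568) (len := 1429) pA_g12 pA_c13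

theorem pA_g14 : allBelow chkA 20474 = true :=
  allBelow_extend (f := chkA) (lo := 18997) (len := 1477) pA_g13 pA_c14

theorem pA_g15 : allBelow chkA 21925 = true :=
  allBelow_extend (f := chkA) (lo := 20474) (len := 1451) pA_g14 pA_c15

theorem pA_g16 : allBelow chkA 23401 = true :=
  allBelow_extend (f := chkA) (lo := 21925) (len := 1476) pA_g15 pA_c16

theorem pA_g17 : allBelow chkA 24885 = true :=
  allBelow_extend (f := chkA) (lo := 23401) (len := 1484) pA_g16 pA_c17

theorem pA_g18 : allBelow chkA 26424 = true :=
  allBelow_extend (f := chkA) (lo := 24885) (len := 1539) pA_g17 pA_c18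

theorem pA_g19 : allBelow chkA 27920 = true :=
  allBelow_extend (f := chkA) (lo := 26424) (len := 1496) pA_g18 pA_c19

theorem pA_g20 : allBelow chkA 29471 = true :=
  allBelow_extend (f := chkA) (lo := 27920) (len := 1551) pA_g19 pA_c20

theorem pA_g21 : allBelow chkA 31028 = true :=
  allBelow_extend (f := chkA) (lo := 29471) (len := 1557) pA_g20 pA_c21

theorem pA_g22 : allBelow chkA 32624 = true :=
  allBelow_extend (f := chkA) (lo := 31028) (len := 1596) pA_g21 pA_c22

theorem pA_g23 : allBelow chkA 34189 = true :=
  allBelow_extend (f := chkA) (lo := 32624) (len := 1565) pA_g22 pA_c23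

theorem pA_g24 : allBelow chkA 35759 = true :=
  allBelow_extend (f := chkA) (lo := 34189) (len := 1570) pA_g23 pA_c24

theorem pA_g25 : allBelow chkA 37381 = true :=
  allBelow_extend (f := chkA) (lo := 35759) (len := 1622) pA_g24 pA_c25

theorem pA_g26 : allBelow chkA 38999 = true :=
  allBelow_extend (f := chkA) (lo := 37381) (len := 1618) pA_g25 pA_c26

theorem pA_g27 : allBelow chkA 40620 = true :=
  allBelow_extend (f := chkA) (lo := 38999) (len := 1621) pA_g26 pA_c27

theorem pA_g28 : allBelow chkA 42299 = true :=
  allBelow_extend (f := chkA) (lo := 40620) (len := 1679) pA_g27 pA_c28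

theorem pA_g29 : allBelow chkA 43968 = true :=
  allBelow_extend (f := chkA) (lo := 42299) (len := 1669) pA_g28 pA_c29

theorem pA_g30 : allBelow chkA 45687 = true :=
  allBelow_extend (f := chkA) (lo := 43968) (len := 1719) pA_g29 pA_c30

theorem pA_g31 : allBelow chkA 47406 = true :=
  allBelow_extend (f := chkA) (lo := 45687) (len := 1719) pA_g30 pA_c31

theorem pA_g32 : allBelow chkA 49160 = true :=
  allBelow_extend (f := chkA) (lo := 47406) (len := 1754) pA_g31 pA_c32

theorem pA_g33 : allBelow chkA 51007 = true :=
  allBelow_extend (f := chkA) (lo := 49160) (len := 1847) pA_g32 pA_c33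

theorem pA_g34 : allBelow chkA 52907 = true :=
  allBelow_extend (f := chkA) (lo := 51007) (len := 1900) pA_g33 pA_c34

theorem pA_g35 : allBelow chkA 54795 = true :=
  allBelow_extend (f := chkA) (lo := 52907) (len := 1888) pA_g34 pA_c35

theorem pA_g36 : allBelow chkA 56757 = true :=
  allBelow_extend (f := chkA) (lo := 54795) (len := 1962) pA_g35 pA_c36

theorem pA_g37 : allBelow chkA 58723 = true :=
  allBelow_extend (f := chkA) (lo := 56757) (len := 1966) pA_g36 pA_c37

theorem pA_g38 : allBelow chkA 60757 = true :=
  allBelow_extend (f := chkA) (lo := 58723) (len := 2034) pA_g37 pA_c38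

theorem pA_g39 : allBelow chkA 62779 = true :=
  allBelow_extend (f := chkA) (lo := 60757) (len := 2022) pA_g38 pA_c39

theorem pA_g40 : allBelow chkA 64898 = true :=
  allBelow_extend (f := chkA) (lo := 62779) (len := 2119) pA_g39 pA_c40

theorem pA_g41 : allBelow chkA 66980 = true :=
  allBelow_extend (f := chkA) (lo := 64898) (len := 2082) pA_g40 pA_c41

theorem pA_g42 : allBelow chkA 69117 = true :=
  allBelow_extend (f := chkA) (lo := 66980) (len := 2137) pA_g41 pA_c42

theorem pA_g43 : allBelow chkA 71292 = true :=
  allBelow_extend (f := chkA) (lo := 69117) (len := 2175) pA_g42 pA_c43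

theorem pA_g44 : allBelow chkA 73489 = true :=
  allBelow_extend (f := chkA) (lo := 71292) (len := 2197) pA_g43 pA_c44

theorem pA_g45 : allBelow chkA 75762 = true :=
  allBelow_extend (f := chkA) (lo := 73489) (len := 2273) pA_g44 pA_c45

theorem pA_g46 : allBelow chkA 78117 = true :=
  allBelow_extend (f := chkA) (lo := 75762) (len := 2355) pA_g45 pA_c46

theorem pA_g47 : allBelow chkA 80500 = true :=
  allBelow_extend (f := chkA) (lo := 78117) (len := 2383) pA_g46 pA_c47

theorem pA_g48 : allBelow chkA 82980 = true :=
  allBelow_extend (f := chkA) (lo := 80500) (len := 2480) pA_g47 pA_c48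

theorem pA_g49 : allBelow chkA 85473 = true :=
  allBelow_extend (f := chkA) (lo := 82980) (len := 2493) pA_g48 pA_c49

theorem pA_g50 : allBelow chkA 88090 = true :=
  allBelow_extend (f := chkA) (lo := 85473) (len := 2617) pA_g49 pA_c50

theorem pA_g51 : allBelow chkA 90728 = true :=
  allBelow_extend (f := chkA) (lo := 88090) (len := 2638) pA_g50 pA_c51

theorem pA_g52 : allBelow chkA 93419 = true :=
  allBelow_extend (f := chkA) (lo := 90728) (len := 2691) pA_g51 pA_c52

theorem pA_g53 : allBelow chkA 96406 = true :=
  allBelow_extend (f := chkA) (lo := 93419) (len := 2987) pA_g52 pA_c53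

theorem pA_g54 : allBelow chkA 98280 = true :=
  allBelow_extend (f := chkA) (lo := 96406) (len := 1874) pA_g53 pA_c54

theorem pA_all : allBelow chkA 98280 = true := pA_g54

theorem pD_g0 : allBelow chkD 635 = true :=
  allBelow_extend (f := chkD) (lo := 0) (len := 635) (allBelow_zero chkD) pD_c0

theorem pD_g1 : allBelow chkD 1293 = true :=
  allBelow_extend (f := chkD) (lo := 635) (len := 658) pD_g0 pD_c1

theorem pD_g2 : allBelow chkD 1961 = true :=
  allBelow_extend (f := chkD) (lo := 1293) (len := 668) pD_g1 pD_c2

theorem pD_g3 : allBelow chkD 2632 = true :=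
  allBelow_extend (f := chkD) (lo := 1961) (len := 671) pD_g2 pD_c3

theorem pD_g4 : allBelow chkD 3319 = true :=
  allBelow_extend (f := chkD) (lo := 2632) (len := 687) pD_g3 pD_c4

theorem pD_g5 : allBelow chkD 3988 = true :=
  allBelow_extend (f := chkD) (lo := 3319) (len := 669) pD_g4 pD_c5

theorem pD_g6 : allBelow chkD 4652 = true :=
  allBelow_extend (f := chkD) (lo := 3988) (len := 664) pD_g5 pD_c6

theorem pD_g7 : allBelow chkD 5322 = true :=
  allBelow_extend (f := chkD) (lo := 4652) (len := 670) pD_g6 pD_c7

theorem pD_g8 : allBelow chkD 6022 = true :=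
  allBelow_extend (f := chkD) (lo := 5322) (len := 700) pD_g7 pD_c8

theorem pD_g9 : allBelow chkD 6714 = true :=
  allBelow_extend (f := chkD) (lo := 6022) (len := 692) pD_g8 pD_c9

theorem pD_g10 : allBelow chkD 7403 = true :=
  allBelow_extend (f := chkD) (lo := 6714) (len := 689) pD_g9 pD_c10

theorem pD_g11 : allBelow chkD 8105 = true :=
  allBelow_extend (f := chkD) (lo := 7403) (len := 702) pD_g10 pD_c11

theorem pD_g12 : allBelow chkD 8799 = true :=
  allBelow_extend (f := chkD) (lo := 8105) (len := 694) pD_g11 pD_c12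

theorem pD_g13 : allBelow chkD 9484 = true :=
  allBelow_extend (f := chkD) (lo := 8799) (len := 685) pD_g12 pD_c13

theorem pD_g14 : allBelow chkD 10150 = true :=
  allBelow_extend (f := chkD) (lo := 9484) (len := 666) pD_g13 pD_c14

theorem pD_g15 : allBelow chkD 10753 = true :=
  allBelow_extend (f := chkD) (lo := 10150) (len := 603) pD_g14 pD_c15

theorem pD_g16 : allBelow chkD 11445 = true :=
  allBelow_extend (f := chkD) (lo := 10753) (len := 692) pD_g15 pD_c16

theorem pD_g17 : allBelow chkD 12131 = true :=
  allBelow_extend (f := chkD) (lo := 11445) (len := 686) pD_g16 pD_c17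

theorem pD_g18 : allBelow chkD 12848 = true :=
  allBelow_extend (f := chkD) (lo := 12131) (len := 717) pD_g17 pD_c18

theorem pD_g19 : allBelow chkD 13482 = true :=
  allBelow_extend (f := chkD) (lo := 12848) (len := 634) pD_g18 pD_c19

theorem pD_g20 : allBelow chkD 14170 = true :=
  allBelow_extend (f := chkD) (lo := 13482) (len := 688) pD_g19 pD_c20

theorem pD_g21 : allBelow chkD 14913 = true :=
  allBelow_extend (f := chkD) (lo := 14170) (len := 743) pD_g20 pD_c21

theorem pD_g22 : allBelow chkD 15612 = true :=
  allBelow_extend (f := chkD) (lo := 14913) (len := 699) pD_g21 pD_c22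

theorem pD_g23 : allBelow chkD 16241 = true :=
  allBelow_extend (f := chkD) (lo := 15612) (len := 629) pD_g22 pD_c23

theorem pD_g24 : allBelow chkD 16939 = true :=
  allBelow_extend (f := chkD) (lo := 16241) (len := 698) pD_g23 pD_c24

theorem pD_g25 : allBelow chkD 17670 = true :=
  allBelow_extend (f := chkD) (lo := 16939) (len := 731) pD_g24 pD_c25

theorem pD_g26 : allBelow chkD 18354 = true :=
  allBelow_extend (f := chkD) (lo := 17670) (len := 684) pD_g25 pD_c26

theorem pD_g27 : allBelow chkD 19033 = true :=
  allBelow_extend (f := chkD) (lo := 18354) (len := 679) pD_g26 pD_c27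

theorem pD_g28 : allBelow chkD 19724 = true :=
  allBelow_extend (f := chkD) (lo := 19033) (len := 691) pD_g27 pD_c28

theorem pD_g29 : allBelow chkD 20519 = true :=
  allBelow_extend (f := chkD) (lo := 19724) (len := 795) pD_g28 pD_c29

theorem pD_g30 : allBelow chkD 21224 = true :=
  allBelow_extend (f := chkD) (lo := 20519) (len := 705) pD_g29 pD_c30

theorem pD_g31 : allBelow chkD 21856 = true :=
  allBelow_extend (f := chkD) (lo := 21224) (len := 632) pD_g30 pD_c31

theorem pD_g32 : allBelow chkD 22578 = true :=
  allBelow_extend (f := chkD) (lo := 21856) (len := 722) pD_g31 pD_c32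

theorem pD_g33 : allBelow chkD 23272 = true :=
  allBelow_extend (f := chkD) (lo := 22578) (len := 694) pD_g32 pD_c33

theorem pD_g34 : allBelow chkD 24045 = true :=
  allBelow_extend (f := chkD) (lo := 23272) (len := 773) pD_g33 pD_c34

theorem pD_g35 : allBelow chkD 24694 = true :=
  allBelow_extend (f := chkD) (lo := 24045) (len := 649) pD_g34 pD_c35

theorem pD_g36 : allBelow chkD 25418 = true :=
  allBelow_extend (f := chkD) (lo := 24694) (len := 724) pD_g35 pD_c36

theorem pD_g37 : allBelow chkD 26197 = true :=
  allBelow_extend (f := chkD) (lo := 25418) (len := 779) pD_g36 pD_c37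

theorem pD_g38 : allBelow chkD 26915 = true :=
  allBelow_extend (f := chkD) (lo := 26197) (len := 718) pD_g37 pD_c38

theorem pD_g39 : allBelow chkD 27580 = true :=
  allBelow_extend (f := chkD) (lo := 26915) (len := 665) pD_g38 pD_c39

theorem pD_g40 : allBelow chkD 28305 = true :=
  allBelow_extend (f := chkD) (lo := 27580) (len := 725) pD_g39 pD_c40

theorem pD_g41 : allBelow chkD 29112 = true :=
  allBelow_extend (f := chkD) (lo := 28305) (len := 807) pD_g40 pD_c41

theorem pD_g42 : allBelow chkD 29777 = true :=
  allBelow_extend (f := chkD) (lo := 29112) (len := 665) pD_g41 pD_c42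

theorem pD_g43 : allBelow chkD 30524 = true :=
  allBelow_extend (f := chkD) (lo := 29777) (len := 747) pD_g42 pD_c43

theorem pD_g44 : allBelow chkD 31245 = true :=
  allBelow_extend (f := chkD) (lo := 30524) (len := 721) pD_g43 pD_c44

theorem pD_g45 : allBelow chkD 32066 = true :=
  allBelow_extend (f := chkD) (lo := 31245) (len := 821) pD_g44 pD_c45

theorem pD_g46 : allBelow chkD 32810 = true :=
  allBelow_extend (f := chkD) (lo := 32066) (len := 744) pD_g45 pD_c46

theorem pD_g47 : allBelow chkD 33565 = true :=
  allBelow_extend (f := chkD) (lo := 32810) (len := 755) pD_g46 pD_c47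

theorem pD_g48 : allBelow chkD 34326 = true :=
  allBelow_extend (f := chkD) (lo := 33565) (len := 761) pD_g47 pD_c48

theorem pD_g49 : allBelow chkD 35062 = true :=
  allBelow_extend (f := chkD) (lo := 34326) (len := 736) pD_g48 pD_c49

theorem pD_g50 : allBelow chkD 35823 = true :=
  allBelow_extend (f := chkD) (lo := 35062) (len := 761) pD_g49 pD_c50

theorem pD_g51 : allBelow chkD 36614 = true :=
  allBelow_extend (f := chkD) (lo := 35823) (len := 791) pD_g50 pD_c51

theorem pD_g52 : allBelow chkD 37403 = true :=
  allBelow_extend (f := chkD) (lo := 36614) (len := 789) pD_g51 pD_c52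

theorem pD_g53 : allBelow chkD 38180 = true :=
  allBelow_extend (f := chkD) (lo := 37403) (len := 777) pD_g52 pD_c53

theorem pD_g54 : allBelow chkD 38958 = true :=
  allBelow_extend (f := chkD) (lo := 38180) (len := 778) pD_g53 pD_c54

theorem pD_g55 : allBelow chkD 39718 = true :=
  allBelow_extend (f := chkD) (lo := 38958) (len := 760) pD_g54 pD_c55

theorem pD_g56 : allBelow chkD 40490 = true :=
  allBelow_extend (f := chkD) (lo := 39718) (len := 772) pD_g55 pD_c56

theorem pD_g57 : allBelow chkD 41298 = true :=
  allBelow_extend (f := chkD) (lo := 40490) (len := 808) pD_g56 pD_c57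

theorem pD_g58 : allBelow chkD 42104 = true :=
  allBelow_extend (f := chkD) (lo := 41298) (len := 806) pD_g57 pD_c58

theorem pD_g59 : allBelow chkD 42904 = true :=
  allBelow_extend (f := chkD) (lo := 42104) (len := 800) pD_g58 pD_c59

theorem pD_g60 : allBelow chkD 43682 = true :=
  allBelow_extend (f := chkD) (lo := 42904) (len := 778) pD_g59 pD_c60

theorem pD_g61 : allBelow chkD 44479 = true :=
  allBelow_extend (f := chkD) (lo := 43682) (len := 797) pD_g60 pD_c61

theorem pD_g62 : allBelow chkD 45253 = true :=
  allBelow_extend (f := chkD) (lo := 44479) (len := 774) pD_g61 pD_c62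

theorem pD_g63 : allBelow chkD 46025 = true :=
  allBelow_extend (f := chkD) (lo := 45253) (len := 772) pD_g62 pD_c63

theorem pD_g64 : allBelow chkD 46801 = true :=
  allBelow_extend (f := chkD) (lo := 46025) (len := 776) pD_g63 pD_c64

theorem pD_g65 : allBelow chkD 47555 = true :=
  allBelow_extend (f := chkD) (lo := 46801) (len := 754) pD_g64 pD_c65

theorem pD_g66 : allBelow chkD 48320 = true :=
  allBelow_extend (f := chkD) (lo := 47555) (len := 765) pD_g65 pD_c66

theorem pD_g67 : allBelow chkD 49120 = true :=
  allBelow_extend (f := chkD) (lo := 48320) (len := 800) pD_g66 pD_c67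

theorem pD_g68 : allBelow chkD 49954 = true :=
  allBelow_extend (f := chkD) (lo := 49120) (len := 834) pD_g67 pD_c68

theorem pD_g69 : allBelow chkD 50825 = true :=
  allBelow_extend (f := chkD) (lo := 49954) (len := 871) pD_g68 pD_c69

theorem pD_g70 : allBelow chkD 51720 = true :=
  allBelow_extend (f := chkD) (lo := 50825) (len := 895) pD_g69 pD_c70

theorem pD_g71 : allBelow chkD 52545 = true :=
  allBelow_extend (f := chkD) (lo := 51720) (len := 825) pD_g70 pD_c71

theorem pD_g72 : allBelow chkD 53461 = true :=
  allBelow_extend (f := chkD) (lo := 52545) (len := 916) pD_g71 pD_c72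

theorem pD_g73 : allBelow chkD 54238 = true :=
  allBelow_extend (f := chkD) (lo := 53461) (len := 777) pD_g72 pD_c73

theorem pD_g74 : allBelow chkD 55076 = true :=
  allBelow_extend (f := chkD) (lo := 54238) (len := 838) pD_g73 pD_c74

theorem pD_g75 : allBelow chkD 55994 = true :=
  allBelow_extend (f := chkD) (lo := 55076) (len := 918) pD_g74 pD_c75

theorem pD_g76 : allBelow chkD 56828 = true :=
  allBelow_extend (f := chkD) (lo := 55994) (len := 834) pD_g75 pD_c76

theorem pD_g77 : allBelow chkD 57628 = true :=
  allBelow_extend (f := chkD) (lo := 56828) (len := 800) pD_g76 pD_c77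

theorem pD_g78 : allBelow chkD 58488 = true :=
  allBelow_extend (f := chkD) (lo := 57628) (len := 860) pD_g77 pD_c78

theorem pD_g79 : allBelow chkD 59388 = true :=
  allBelow_extend (f := chkD) (lo := 58488) (len := 900) pD_g78 pD_c79

theorem pD_g80 : allBelow chkD 60255 = true :=
  allBelow_extend (f := chkD) (lo := 59388) (len := 867) pD_g79 pD_c80

theorem pD_g81 : allBelow chkD 61118 = true :=
  allBelow_extend (f := chkD) (lo := 60255) (len := 863) pD_g80 pD_c81

theorem pD_g82 : allBelow chkD 61962 = true :=
  allBelow_extend (f := chkD) (lo := 61118) (len := 844) pD_g81 pD_c82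

theorem pD_g83 : allBelow chkD 62797 = true :=
  allBelow_extend (f := chkD) (lo := 61962) (len := 835) pD_g82 pD_c83

theorem pD_g84 : allBelow chkD 63704 = true :=
  allBelow_extend (f := chkD) (lo := 62797) (len := 907) pD_g83 pD_c84

theorem pD_g85 : allBelow chkD 64614 = true :=
  allBelow_extend (f := chkD) (lo := 63704) (len := 910) pD_g84 pD_c85

theorem pD_g86 : allBelow chkD 65512 = true :=
  allBelow_extend (f := chkD) (lo := 64614) (len := 898) pD_g85 pD_c86

theorem pD_g87 : allBelow chkD 66425 = true :=
  allBelow_extend (f := chkD) (lo := 65512) (len := 913) pD_g86 pD_c87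

theorem pD_g88 : allBelow chkD 67223 = true :=
  allBelow_extend (f := chkD) (lo := 66425) (len := 798) pD_g87 pD_c88

theorem pD_g89 : allBelow chkD 68146 = true :=
  allBelow_extend (f := chkD) (lo := 67223) (len := 923) pD_g88 pD_c89

theorem pD_g90 : allBelow chkD 69173 = true :=
  allBelow_extend (f := chkD) (lo := 68146) (len := 1027) pD_g89 pD_c90

theorem pD_g91 : allBelow chkD 70007 = true :=
  allBelow_extend (f := chkD) (lo := 69173) (len := 834) pD_g90 pD_c91

theorem pD_g92 : allBelow chkD 70949 = true :=
  allBelow_extend (f := chkD) (lo := 70007) (len := 942) pD_g91 pD_c92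

theorem pD_g93 : allBelow chkD 71987 = true :=
  allBelow_extend (f := chkD) (lo := 70949) (len := 1038) pD_g92 pD_c93

theorem pD_g94 : allBelow chkD 72829 = true :=
  allBelow_extend (f := chkD) (lo := 71987) (len := 842) pD_g93 pD_c94

theorem pD_g95 : allBelow chkD 73781 = true :=
  allBelow_extend (f := chkD) (lo := 72829) (len := 952) pD_g94 pD_c95

theorem pD_g96 : allBelow chkD 74774 = true :=
  allBelow_extend (f := chkD) (lo := 73781) (len := 993) pD_g95 pD_c96

theorem pD_g97 : allBelow chkD 75720 = true :=
  allBelow_extend (f := chkD) (lo := 74774) (len := 946) pD_g96 pD_c97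

theorem pD_g98 : allBelow chkD 76722 = true :=
  allBelow_extend (f := chkD) (lo := 75720) (len := 1002) pD_g97 pD_c98

theorem pD_g99 : allBelow chkD 77749 = true :=
  allBelow_extend (f := chkD) (lo := 76722) (len := 1027) pD_g98 pD_c99

theorem pD_g100 : allBelow chkD 78595 = true :=
  allBelow_extend (f := chkD) (lo := 77749) (len := 846) pD_g99 pD_c100

theorem pD_g101 : allBelow chkD 79574 = true :=
  allBelow_extend (f := chkD) (lo := 78595) (len := 979) pD_g100 pD_c101

theorem pD_g102 : allBelow chkD 80622 = true :=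
  allBelow_extend (f := chkD) (lo := 79574) (len := 1048) pD_g101 pD_c102

theorem pD_g103 : allBelow chkD 81595 = true :=
  allBelow_extend (f := chkD) (lo := 80622) (len := 973) pD_g102 pD_c103

theorem pD_g104 : allBelow chkD 82639 = true :=
  allBelow_extend (f := chkD) (lo := 81595) (len := 1044) pD_g103 pD_c104

theorem pD_g105 : allBelow chkD 83591 = true :=
  allBelow_extend (f := chkD) (lo := 82639) (len := 952) pD_g104 pD_c105

theorem pD_g106 : allBelow chkD 84583 = true :=
  allBelow_extend (f := chkD) (lo := 83591) (len := 992) pD_g105 pD_c106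

theorem pD_g107 : allBelow chkD 85709 = true :=
  allBelow_extend (f := chkD) (lo := 84583) (len := 1126) pD_g106 pD_c107

theorem pD_g108 : allBelow chkD 86600 = true :=
  allBelow_extend (f := chkD) (lo := 85709) (len := 891) pD_g107 pD_c108

theorem pD_g109 : allBelow chkD 87637 = true :=
  allBelow_extend (f := chkD) (lo := 86600) (len := 1037) pD_g108 pD_c109

theorem pD_g110 : allBelow chkD 88791 = true :=
  allBelow_extend (f := chkD) (lo := 87637) (len := 1154) pD_g109 pD_c110

theorem pD_g111 : allBelow chkD 89786 = true :=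
  allBelow_extend (f := chkD) (lo := 88791) (len := 995) pD_g110 pD_c111

theorem pD_g112 : allBelow chkD 90771 = true :=
  allBelow_extend (f := chkD) (lo := 89786) (len := 985) pD_g111 pD_c112

theorem pD_g113 : allBelow chkD 91776 = true :=
  allBelow_extend (f := chkD) (lo := 90771) (len := 1005) pD_g112 pD_c113

theorem pD_g114 : allBelow chkD 92723 = true :=
  allBelow_extend (f := chkD) (lo := 91776) (len := 947) pD_g113 pD_c114

theorem pD_g115 : allBelow chkD 93751 = true :=
  allBelow_extend (f := chkD) (lo := 92723) (len := 1028) pD_g114 pD_c115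

theorem pD_g116 : allBelow chkD 94820 = true :=
  allBelow_extend (f := chkD) (lo := 93751) (len := 1069) pD_g115 pD_c116

theorem pD_g117 : allBelow chkD 95890 = true :=
  allBelow_extend (f := chkD) (lo := 94820) (len := 1070) pD_g116 pD_c117

theorem pD_g118 : allBelow chkD 96933 = true :=
  allBelow_extend (f := chkD) (lo := 95890) (len := 1043) pD_g117 pD_c118

theorem pD_g119 : allBelow chkD 98038 = true :=
  allBelow_extend (f := chkD) (lo := 96933) (len := 1105) pD_g118 pD_c119

theorem pD_g120 : allBelow chkD 98280 = true :=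
  allBelow_extend (f := chkD) (lo := 98038) (len := 242) pD_g119 pD_c120

theorem pD_all : allBelow chkD 98280 = true := pD_g120

end Cfsg.Agent.Lib.Helper27.Co1O
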