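import Cfsg.Agent.Lib.Helper27.Co1O.Api

/-!
# Lower bounds for the orders of subgroups of `Co₁` given by words (S2043)

A subgroup of `K = genGroup 98280 17 gens9` is generated by the elements of `t` words `ws` in the nine generators.
A certificate for `N ≤ |subgroup|` is a chain of levels `(b, S, E)`: a base point, words `S` over the generators of the
subgroup (letters `2 i`, `2 i + 1`, `i < t`) that fix all previous base points, and a Schreier tree `E` of the orbit of
`b`: entries `(x, y, k)` say that the new point `x` is the image of the point `y`, visited before, under the word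
number `k` of `S`.  Points are traced through the nine tables: no table of the subgroup is needed.  The product of
the orbit lengths is a lower bound for the order (counting along the chain, `Helper22.SuzOut.count_chain_le`).
-/

set_option autoImplicit false
set_option maxRecDepth 100000

namespace Cfsg.Agent.Lib.Helper27.Co1O.Low

open Cfsg.Agent.Lib.Helper28.BSGS Cfsg.Agent.Lib.Helper22.SuzOut Cfsg.Agent.Lib.Helper27.TreeSift
open Cfsg.Agent.Lib.Helper27.Big Cfsg.H5.TCk Cfsg.Agent.Lib.Helper27.Co1O

attribute [local irreducible] permOf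

/-- the subgroup generated by the elements of the first `t` words of `ws` -/
noncomputable def LP (ws : List (List ℕ)) (t : ℕ) : Subgroup (Equiv.Perm (Fin 98280)) :=
  Subgroup.closure (Set.range fun i : Fin t => genK ws i.val)

/-- the letters of a word over `t` generators are in range -/
def okR (t : ℕ) (r : List ℕ) : Bool := r.all (fun l => Nat.blt (l / 2) t)

theorem gl_mem_LP (ws : List (List ℕ)) (t : ℕ) {l : ℕ} (h : l / 2 < t) : gl (genK ws) l ∈ LP ws t := by
  have hm : genK ws (l / 2) ∈ LP ws t := Subgroup.subset_closure ⟨⟨l / 2, h⟩, rfl⟩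
  unfold gl
  split
  · exact hm
  · exact (LP ws t).inv_mem hm

theorem ev_mem_LP (ws : List (List ℕ)) (t : ℕ) {r : List ℕ} (h : okR t r = true) :
    ev (genK ws) r ∈ LP ws t := by
  induction r with
  | nil => exact (LP ws t).one_mem
  | cons l r ih =>
    unfold okR at h
    rw [List.all_cons, Bool.and_eq_true] at h
    exact (LP ws t).mul_mem (gl_mem_LP ws t (Nat.blt_eq.mp h.1)) (ih h.2)

/-- `y` is the image of the base point `b` under an element of the subgroup that fixes the points `prev` -/
def Good (ws : List (List ℕ)) (t : ℕ) (prev : List ℕ) (b y : ℕ) : Prop :=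
  y < 98280 ∧ ∃ u ∈ LP ws t, (u (pt 98280 b)).val = y ∧ ∀ p ∈ prev, u (pt 98280 p) = pt 98280 p

/-- the word `s` in the nine generators gives an element of the subgroup that fixes the points `prev` -/
def GoodGen (ws : List (List ℕ)) (t : ℕ) (prev : List ℕ) (s : List ℕ) : Prop :=
  okW s = true ∧ wordK s ∈ LP ws t ∧ ∀ p ∈ prev, evalF 17 gens9 s p = p

theorem goodGen_nil (ws : List (List ℕ)) (t : ℕ) (prev : List ℕ) : GoodGen ws t prev [] :=
  ⟨rfl, by rw [wordK_nil]; exact (LP ws t).one_mem, fun _ _ => rfl⟩

theorem good_step {ws : List (List ℕ)} {t : ℕ} {prev : List ℕ} {b y x : ℕ} {s : List ℕ}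
    (hprev : ∀ p ∈ prev, p < 98280) (hy : Good ws t prev b y) (hs : GoodGen ws t prev s)
    (hx : evalF 17 gens9 s y = x) : Good ws t prev b x := by
  obtain ⟨hy1, u, hu, hub, hfix⟩ := hy
  obtain ⟨hs1, hs2, hs3⟩ := hs
  have hval : (wordK s (u (pt 98280 b))).val = x := by
    rw [wordK_val hs1, hub, hx]
  refine ⟨?_, wordK s * u, (LP ws t).mul_mem hs2 hu, ?_, ?_⟩
  · rw [← hval]; exact (wordK s (u (pt 98280 b))).isLt
  · rw [Equiv.Perm.mul_apply]; exact hval
  · intro p hp
    rw [Equiv.Perm.mul_apply, hfix p hp]
    apply Fin.ext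
    rw [wordK_val hs1, pt_val 98280 (hprev p hp)]
    exact hs3 p hp

/-- the walk along the Schreier tree: `vis` is the bit set of the visited points -/
noncomputable def walk (ws S : List (List ℕ)) (E : List (ℕ × ℕ × ℕ)) : ℕ → Bool :=
  List.rec (motive := fun _ => ℕ → Bool) (fun _ => true)
    (fun e _ ih vis => Nat.blt e.1 98280 && Nat.testBit vis e.2.1 && !(Nat.testBit vis e.1) &&
      Nat.beq (evalF 17 gens9 (substW ws (S.getD e.2.2 [])) e.2.1) e.1 && ih (vis ||| 2 ^ e.1)) E

theorem walk_nil (ws S : List (List ℕ)) (vis : ℕ) : walk ws S [] vis = true := rfl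

theorem walk_cons (ws S : List (List ℕ)) (e : ℕ × ℕ × ℕ) (E : List (ℕ × ℕ × ℕ)) (vis : ℕ) :
    walk ws S (e :: E) vis = (Nat.blt e.1 98280 && Nat.testBit vis e.2.1 && !(Nat.testBit vis e.1) &&
      Nat.beq (evalF 17 gens9 (substW ws (S.getD e.2.2 [])) e.2.1) e.1 && walk ws S E (vis ||| 2 ^ e.1)) := rfl

theorem goodGen_getD {ws : List (List ℕ)} {t : ℕ} {prev : List ℕ} {S : List (List ℕ)}
    (hS : ∀ r ∈ S, GoodGen ws t prev (substW ws r)) (k : ℕ) :
    GoodGen ws t prev (substW ws (S.getD k [])) := by
  by_cases hk : k < S.length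
  · rw [List.getD_eq_getElem _ _ hk]
    exact hS _ (List.getElem_mem hk)
  · rw [List.getD_eq_default _ _ (Nat.le_of_not_lt hk)]
    exact goodGen_nil ws t prev

theorem walk_spec {ws : List (List ℕ)} {t : ℕ} {prev : List ℕ} {b : ℕ} {S : List (List ℕ)}
    (hprev : ∀ p ∈ prev, p < 98280) (hS : ∀ r ∈ S, GoodGen ws t prev (substW ws r)) :
    ∀ (E : List (ℕ × ℕ × ℕ)) (vis : ℕ), walk ws S E vis = true →
      (∀ y, Nat.testBit vis y = true → Good ws t prev b y) →
      (∀ e ∈ E, Good ws t prev b e.1) ∧ (E.map (fun e => e.1)).Nodup ∧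
        ∀ e ∈ E, Nat.testBit vis e.1 = false := by
  intro E
  induction E with
  | nil =>
    intro vis _ _
    exact ⟨fun e he => absurd he List.not_mem_nil, List.nodup_nil, fun e he => absurd he List.not_mem_nil⟩
  | cons e E ih =>
    intro vis h hvis
    rw [walk_cons, Bool.and_eq_true, Bool.and_eq_true, Bool.and_eq_true, Bool.and_eq_true] at h
    obtain ⟨⟨⟨⟨_, h2⟩, h3⟩, h4⟩, h5⟩ := h
    have h3' : Nat.testBit vis e.1 = false := by
      cases hb : Nat.testBit vis e.1
      · rfl
      · rw [hb] at h3; exact absurd h3 (by decide)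
    have hx : Good ws t prev b e.1 :=
      good_step hprev (hvis _ h2) (goodGen_getD hS e.2.2) (Nat.eq_of_beq_eq_true h4)
    have hvis' : ∀ y, Nat.testBit (vis ||| 2 ^ e.1) y = true → Good ws t prev b y := by
      intro y hy
      rw [Nat.testBit_or, Bool.or_eq_true] at hy
      rcases hy with hy | hy
      · exact hvis y hy
      · rw [Nat.testBit_two_pow] at hy
        have : e.1 = y := of_decide_eq_true hy
        rw [← this]; exact hx
    obtain ⟨i1, i2, i3⟩ := ih (vis ||| 2 ^ e.1) h5 hvis'
    refine ⟨?_, ?_, ?_⟩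
    · intro e' he'
      rcases List.mem_cons.mp he' with rfl | he'
      · exact hx
      · exact i1 e' he'
    · rw [List.map_cons, List.nodup_cons]
      refine ⟨?_, i2⟩
      intro hmem
      obtain ⟨e', he', hee⟩ := List.mem_map.mp hmem
      have h6 := i3 e' he'
      rw [hee, Nat.testBit_or, Nat.testBit_two_pow_self, Bool.or_true] at h6
      exact absurd h6 (by decide)
    · intro e' he'
      rcases List.mem_cons.mp he' with rfl | he'
      · exact h3'
      · have h6 := i3 e' he'
        rw [Nat.testBit_or, Bool.or_eq_false_iff] at h6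
        exact h6.1

/-- a level: base point, words over the generators of the subgroup, Schreier tree -/
abbrev Lv := ℕ × List (List ℕ) × List (ℕ × ℕ × ℕ)

/-- the check of one level -/
noncomputable def lvlOK (ws : List (List ℕ)) (t : ℕ) (prev : List ℕ) (lv : Lv) : Bool :=
  Nat.blt lv.1 98280 &&
  lv.2.1.all (fun r => okR t r && prev.all (fun p => Nat.beq (evalF 17 gens9 (substW ws r) p) p)) &&
  walk ws lv.2.1 lv.2.2 (2 ^ lv.1)

/-- the points of the orbit of a level -/
def orbL (lv : Lv) : List ℕ := lv.1 :: lv.2.2.map (fun e => e.1)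

theorem lvlOK_spec {ws : List (List ℕ)} (hws : ws.all okW = true) {t : ℕ} {prev : List ℕ}
    (hprev : ∀ p ∈ prev, p < 98280) {lv : Lv} (h : lvlOK ws t prev lv = true) :
    lv.1 < 98280 ∧ (orbL lv).Nodup ∧ ∀ y ∈ orbL lv, Good ws t prev lv.1 y := by
  unfold lvlOK at h
  rw [Bool.and_eq_true, Bool.and_eq_true] at h
  obtain ⟨⟨h1, h2⟩, h3⟩ := h
  have hb : lv.1 < 98280 := Nat.blt_eq.mp h1
  have hS : ∀ r ∈ lv.2.1, GoodGen ws t prev (substW ws r) := by
    intro r hr
    have hr' := List.all_eq_true.mp h2 r hr
    rw [Bool.and_eq_true] at hr'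
    refine ⟨okW_substW hws r, ?_, ?_⟩
    · rw [wordK_substW hws r]
      exact ev_mem_LP ws t hr'.1
    · intro p hp
      exact Nat.eq_of_beq_eq_true (List.all_eq_true.mp hr'.2 p hp)
  have hgb : Good ws t prev lv.1 lv.1 :=
    ⟨hb, 1, (LP ws t).one_mem, by rw [Equiv.Perm.one_apply]; exact pt_val 98280 hb,
      fun p _ => Equiv.Perm.one_apply _⟩
  have hvis : ∀ y, Nat.testBit (2 ^ lv.1) y = true → Good ws t prev lv.1 y := by
    intro y hy
    rw [Nat.testBit_two_pow] at hy
    have : lv.1 = y := of_decide_eq_true hy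
    rw [← this]; exact hgb
  obtain ⟨i1, i2, i3⟩ := walk_spec (b := lv.1) hprev hS lv.2.2 (2 ^ lv.1) h3 hvis
  refine ⟨hb, ?_, ?_⟩
  · unfold orbL
    rw [List.nodup_cons]
    refine ⟨?_, i2⟩
    intro hmem
    obtain ⟨e', he', hee⟩ := List.mem_map.mp hmem
    have h6 := i3 e' he'
    rw [hee, Nat.testBit_two_pow_self] at h6
    exact absurd h6 (by decide)
  · intro y hy
    unfold orbL at hy
    rcases List.mem_cons.mp hy with rfl | hy
    · exact hgb
    · obtain ⟨e', he', rfl⟩ := List.mem_map.mp hy
      exact i1 e' he'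

/-- the check of a chain: `prev` = the previous base points -/
noncomputable def chainOK (ws : List (List ℕ)) (t : ℕ) : List ℕ → List Lv → Bool
  | _, [] => true
  | prev, lv :: rest => lvlOK ws t prev lv && chainOK ws t (lv.1 :: prev) rest

theorem chainOK_nil (ws : List (List ℕ)) (t : ℕ) (prev : List ℕ) : chainOK ws t prev [] = true := rfl

theorem chainOK_cons {ws : List (List ℕ)} {t : ℕ} {prev : List ℕ} {lv : Lv} {rest : List Lv}
    (h1 : lvlOK ws t prev lv = true) (h2 : chainOK ws t (lv.1 :: prev) rest = true) :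
    chainOK ws t prev (lv :: rest) = true := by
  show (lvlOK ws t prev lv && chainOK ws t (lv.1 :: prev) rest) = true
  rw [h1, h2]
  rfl

/-- the product of the orbit lengths -/
def size : List Lv → ℕ
  | [] => 1
  | lv :: rest => (lv.2.2.length + 1) * size rest

/-- the semantic level -/
noncomputable def semL (ws : List (List ℕ)) (t : ℕ) (prev : List ℕ) (lv : Lv) :
    SLevel (Equiv.Perm (Fin 98280)) (Fin 98280) where
  b := pt 98280 lv.1
  O := (orbL lv).map (pt 98280)
  u := fun x => Classical.epsilon fun u => u ∈ LP ws t ∧ u (pt 98280 lv.1) = x ∧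
    ∀ p ∈ prev, u (pt 98280 p) = pt 98280 p
  S' := []

/-- the semantic chain -/
noncomputable def semLs (ws : List (List ℕ)) (t : ℕ) :
    List ℕ → List Lv → List (SLevel (Equiv.Perm (Fin 98280)) (Fin 98280))
  | _, [] => []
  | prev, lv :: rest => semL ws t prev lv :: semLs ws t (lv.1 :: prev) rest

theorem chainSize_semLs (ws : List (List ℕ)) (t : ℕ) : ∀ (levels : List Lv) (prev : List ℕ),
    chainSize (semLs ws t prev levels) = size levels := by
  intro levels
  induction levels with
  | nil => intro _; rfl
  | cons lv rest ih =>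
    intro prev
    show ((orbL lv).map (pt 98280)).length * chainSize (semLs ws t (lv.1 :: prev) rest) =
      (lv.2.2.length + 1) * size rest
    rw [ih, List.length_map]
    unfold orbL
    rw [List.length_cons, List.length_map]

theorem countChain_L {ws : List (List ℕ)} (hws : ws.all okW = true) (t : ℕ) :
    ∀ (levels : List Lv) (prev : List ℕ), (∀ p ∈ prev, p < 98280) →
      chainOK ws t prev levels = true →
      CountChain (LP ws t) (prev.map (pt 98280)) (semLs ws t prev levels) := by
  intro levels
  induction levels with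
  | nil => intro _ _ _; trivial
  | cons lv rest ih =>
    intro prev hprev h
    have h' : (lvlOK ws t prev lv && chainOK ws t (lv.1 :: prev) rest) = true := h
    rw [Bool.and_eq_true] at h'
    obtain ⟨hb, hnd, hgood⟩ := lvlOK_spec hws hprev h'.1
    have hlt : ∀ y ∈ orbL lv, y < 98280 := fun y hy => (hgood y hy).1
    refine ⟨?_, ?_, ?_⟩
    · show ((orbL lv).map (pt 98280)).Nodup
      apply List.Nodup.map_on _ hnd
      intro x hx y hy hxy
      have := congrArg Fin.val hxy
      rwa [pt_val 98280 (hlt x hx), pt_val 98280 (hlt y hy)] at this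
    · intro x hx
      have hx' : x ∈ (orbL lv).map (pt 98280) := hx
      obtain ⟨y, hy, rfl⟩ := List.mem_map.mp hx'
      obtain ⟨hy1, u, hu, hub, hfix⟩ := hgood y hy
      have hex : ∃ u, u ∈ LP ws t ∧ u (pt 98280 lv.1) = pt 98280 y ∧
          ∀ p ∈ prev, u (pt 98280 p) = pt 98280 p :=
        ⟨u, hu, Fin.ext (by rw [hub, pt_val 98280 hy1]), hfix⟩
      obtain ⟨c1, c2, c3⟩ := Classical.epsilon_spec hex
      show Classical.epsilon (fun u => u ∈ LP ws t ∧ u (pt 98280 lv.1) = pt 98280 y ∧
          ∀ p ∈ prev, u (pt 98280 p) = pt 98280 p) ∈ LP ws t ∧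
        Classical.epsilon (fun u => u ∈ LP ws t ∧ u (pt 98280 lv.1) = pt 98280 y ∧
          ∀ p ∈ prev, u (pt 98280 p) = pt 98280 p) • pt 98280 lv.1 = pt 98280 y ∧
        ∀ p ∈ prev.map (pt 98280), Classical.epsilon (fun u => u ∈ LP ws t ∧ u (pt 98280 lv.1) = pt 98280 y ∧
          ∀ p ∈ prev, u (pt 98280 p) = pt 98280 p) • p = p
      refine ⟨c1, c2, ?_⟩
      intro p hp
      obtain ⟨q, hq, rfl⟩ := List.mem_map.mp hp
      exact c3 q hq
    · have hprev' : ∀ p ∈ lv.1 :: prev, p < 98280 := by
        intro p hp
        rcases List.mem_cons.mp hp with rfl | hp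
        · exact hb
        · exact hprev p hp
      exact ih (lv.1 :: prev) hprev' h'.2

/-- THE LOWER BOUND: the product of the orbit lengths of a valid chain -/
theorem card_LP_ge {ws : List (List ℕ)} (hws : ws.all okW = true) (t : ℕ) (levels : List Lv)
    (h : chainOK ws t [] levels = true) : size levels ≤ Nat.card (LP ws t) := by
  have hcc : CountChain (LP ws t) ([] : List (Fin 98280)) (semLs ws t [] levels) :=
    countChain_L hws t levels [] (fun p hp => absurd hp List.not_mem_nil) h
  have hle := count_chain_le (LP ws t) _ hcc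
  rw [chainSize_semLs] at hle
  exact hle

/-- ... for the subgroup of `K` generated by `genKK ws hws i`, `i < t` -/
theorem card_KK_ge {ws : List (List ℕ)} (hws : ws.all okW = true) (t : ℕ) (levels : List Lv)
    (h : chainOK ws t [] levels = true) :
    size levels ≤ Nat.card ↥(Subgroup.closure (Set.range fun i : Fin t => genKK ws hws i.val)) := by
  have e : (Subgroup.closure (Set.range fun i : Fin t => genKK ws hws i.val)).map K.subtype =
      LP ws t := by
    rw [MonoidHom.map_closure, ← Set.range_comp]
    rfl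
  rw [← Subgroup.card_map_of_injective (f := K.subtype) K.subtype_injective, e]
  exact card_LP_ge hws t levels h

/-! ## subgroups given by words over the generators of a subgroup; the index -/

theorem okW_map_substW {ws : List (List ℕ)} (hws : ws.all okW = true) (rs : List (List ℕ)) :
    (rs.map (substW ws)).all okW = true := by
  rw [List.all_eq_true]
  intro w hw
  obtain ⟨r, _, rfl⟩ := List.mem_map.mp hw
  exact okW_substW hws r

theorem getD_map_substW (ws : List (List ℕ)) (rs : List (List ℕ)) (i : ℕ) :
    (rs.map (substW ws)).getD i [] = substW ws (rs.getD i []) := by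
  by_cases hi : i < rs.length
  · rw [List.getD_eq_getElem _ _ (by rw [List.length_map]; exact hi), List.getD_eq_getElem _ _ hi,
      List.getElem_map]
  · rw [List.getD_eq_default _ _ (by rw [List.length_map]; exact Nat.le_of_not_lt hi),
      List.getD_eq_default _ _ (Nat.le_of_not_lt hi)]
    rfl

/-- the generators `rs` (words over the generators `ws`), expanded to words in the nine generators, give the
elements `ev (genKK ws hws) r` -/
theorem genKK_map_substW {ws : List (List ℕ)} (hws : ws.all okW = true) (rs : List (List ℕ)) (i : ℕ) :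
    genKK (rs.map (substW ws)) (okW_map_substW hws rs) i = ev (genKK ws hws) (rs.getD i []) := by
  apply Subtype.ext
  rw [ev_genKK hws]
  show wordK ((rs.map (substW ws)).getD i []) = ev (genK ws) (rs.getD i [])
  rw [getD_map_substW, wordK_substW hws]

/-- the index of a subgroup of `K` of known order -/
theorem index_eq_of_card {L : Subgroup ↥K} {N : ℕ} (hN : Nat.card L = N) :
    L.index = 4157776806543360000 / N := by
  have h := Subgroup.card_mul_index L
  rw [hN, card_K] at h
  have hpos : 0 < N := by
    rw [← hN]; exact Nat.card_pos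
  exact (Nat.div_eq_of_eq_mul_right hpos h.symm).symm

theorem not_dvd_index_of_card {L : Subgroup ↥K} {N p : ℕ} (hN : Nat.card L = N)
    (h : ¬ p ∣ 4157776806543360000 / N) : ¬ p ∣ L.index := by
  rw [index_eq_of_card hN]
  exact h

end Cfsg.Agent.Lib.Helper27.Co1O.Low
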