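import Cfsg.Agent.Lib.Helper27.Co1O.Defs

/-! # S2069: sliced kernel computations (level 0) -/

set_option autoImplicit false
set_option maxRecDepth 100000
set_option Elab.async false

namespace Cfsg.Agent.Lib.Helper27.Co1O

open Cfsg.Agent.Lib.Helper28.BSGS Cfsg.Agent.Lib.Helper22.SuzOut Cfsg.Agent.Lib.Helper27.TreeSift Cfsg.Agent.Lib.Helper27.Big

theorem lv0_c0 : rangeAll lvl0 0 590 = true := by decide +kernel

theorem lv0_c1 : rangeAll lvl0 590 597 = true := by decide +kernel

theorem lv0_c2 : rangeAll lvl0 1187 587 = true := by decide +kernel

theorem lv0_c3 : rangeAll lvl0 1774 593 = true := by decide +kernel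

theorem lv0_c4 : rangeAll lvl0 2367 605 = true := by decide +kernel

theorem lv0_c5 : rangeAll lvl0 2972 596 = true := by decide +kernel

theorem lv0_c6 : rangeAll lvl0 3568 602 = true := by decide +kernel

theorem lv0_c7 : rangeAll lvl0 4170 612 = true := by decide +kernel

theorem lv0_c8 : rangeAll lvl0 4782 607 = true := by decide +kernel

theorem lv0_c9 : rangeAll lvl0 5389 608 = true := by decide +kernel

theorem lv0_c10 : rangeAll lvl0 5997 611 = true := by decide +kernel

theorem lv0_c11 : rangeAll lvl0 6608 619 = true := by decide +kernel

theorem lv0_c12 : rangeAll lvl0 7227 622 = true := by decide +kernel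

theorem lv0_c13 : rangeAll lvl0 7849 614 = true := by decide +kernel

theorem lv0_c14 : rangeAll lvl0 8463 632 = true := by decide +kernel

theorem lv0_c15 : rangeAll lvl0 9095 611 = true := by decide +kernel

theorem lv0_c16 : rangeAll lvl0 9706 613 = true := by decide +kernel

theorem lv0_c17 : rangeAll lvl0 10319 626 = true := by decide +kernel

theorem lv0_c18 : rangeAll lvl0 10945 610 = true := by decide +kernel

theorem lv0_c19 : rangeAll lvl0 11555 621 = true := by decide +kernel

theorem lv0_c20 : rangeAll lvl0 12176 616 = true := by decide +kernel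

theorem lv0_c21 : rangeAll lvl0 12792 624 = true := by decide +kernel

theorem lv0_c22 : rangeAll lvl0 13416 621 = true := by decide +kernel

theorem lv0_c23 : rangeAll lvl0 14037 631 = true := by decide +kernel

theorem lv0_c24 : rangeAll lvl0 14668 623 = true := by decide +kernel

theorem lv0_c25 : rangeAll lvl0 15291 644 = true := by decide +kernel

theorem lv0_c26 : rangeAll lvl0 15935 641 = true := by decide +kernel

theorem lv0_c27 : rangeAll lvl0 16576 629 = true := by decide +kernel

theorem lv0_c28 : rangeAll lvl0 17205 636 = true := by decide +kernel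

theorem lv0_c29 : rangeAll lvl0 17841 644 = true := by decide +kernel

theorem lv0_c30 : rangeAll lvl0 18485 652 = true := by decide +kernel

theorem lv0_c31 : rangeAll lvl0 19137 649 = true := by decide +kernel

theorem lv0_c32 : rangeAll lvl0 19786 646 = true := by decide +kernel

theorem lv0_c33 : rangeAll lvl0 20432 653 = true := by decide +kernel

theorem lv0_c34 : rangeAll lvl0 21085 658 = true := by decide +kernel

theorem lv0_c35 : rangeAll lvl0 21743 648 = true := by decide +kernel

theorem lv0_c36 : rangeAll lvl0 22391 648 = true := by decide +kernel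

theorem lv0_c37 : rangeAll lvl0 23039 661 = true := by decide +kernel

theorem lv0_c38 : rangeAll lvl0 23700 655 = true := by decide +kernel

theorem lv0_c39 : rangeAll lvl0 24355 656 = true := by decide +kernel

end Cfsg.Agent.Lib.Helper27.Co1O
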