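import Cfsg.Agent.Lib.Helper27.Co1O.GluePath0
import Cfsg.Agent.Lib.Helper27.Co1O.GluePath
import Cfsg.Agent.Lib.Helper27.Co1O.GlueLvl

/-! # S2069: the group side — the chain over `a`, `d`, `y` and the order of the group of the nine tables -/

set_option autoImplicit false
set_option maxRecDepth 100000

namespace Cfsg.Agent.Lib.Helper27.Co1O

open Cfsg.Agent.Lib.Helper28.BSGS Cfsg.Agent.Lib.Helper22.SuzOut Cfsg.Agent.Lib.Helper27.TreeSift
open Cfsg.Agent.Lib.Helper27.Big MulAction

instance neZero98280 : NeZero (98280 : ℕ) := ⟨by norm_num⟩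

/-- the group of the nine tables -/
noncomputable abbrev K : Subgroup (Equiv.Perm (Fin 98280)) := genGroup 98280 17 gens9

/-- what the lattice side supplies: the nine table pairs are valid, and they lie in a group of order at most `|Co₁|` -/
def Hyp : Prop := gensOK 98280 17 gens9 = true ∧
  ∃ K0 : Subgroup (Equiv.Perm (Fin 98280)), K ≤ K0 ∧ Nat.card K0 ≤ 4157776806543360000

/-! ## the path certificates -/

theorem csY_ok : csY.all (fun c => Nat.blt (c / 2) gens9.length) = true := by decide

theorem csA_ok : csA.all (fun c => Nat.blt (c / 2) known0y.length) = true := by decide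

theorem csD_ok : csD.all (fun c => Nat.blt (c / 2) known0a.length) = true := by decide
theorem cs3_ok : cs3.all (fun c => Nat.blt (c / 2) kn3.length) = true := by decide
theorem cs4_ok : cs4.all (fun c => Nat.blt (c / 2) kn4.length) = true := by decide
theorem cs5_ok : cs5.all (fun c => Nat.blt (c / 2) kn5.length) = true := by decide
theorem cs6_ok : cs6.all (fun c => Nat.blt (c / 2) kn6.length) = true := by decide
theorem cs7_ok : cs7.all (fun c => Nat.blt (c / 2) kn7.length) = true := by decide
theorem cs8_ok : cs8.all (fun c => Nat.blt (c / 2) kn8.length) = true := by decide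
theorem cs9_ok : cs9.all (fun c => Nat.blt (c / 2) kn9.length) = true := by decide
theorem cs10_ok : cs10.all (fun c => Nat.blt (c / 2) kn10.length) = true := by decide
theorem cs11_ok : cs11.all (fun c => Nat.blt (c / 2) kn11.length) = true := by decide

theorem stepY (H : Hyp) : gensOK 98280 17 known0y = true ∧
    genGroup 98280 17 known0y = K ∧ permOf 98280 17 py.1 py.2 = pathPerm 98280 17 gens9 csY :=
  seq_step_fwd 98280 17 gens9 H.1 py csY csY_ok pY_all

theorem stepA (H : Hyp) : gensOK 98280 17 known0a = true ∧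
    genGroup 98280 17 known0a = K ∧ permOf 98280 17 pa.1 pa.2 = pathPerm 98280 17 known0y csA := by
  obtain ⟨h1, h2, h3⟩ := seq_step_fwd 98280 17 known0y (stepY H).1 pa csA csA_ok pA_all
  exact ⟨h1, h2.trans (stepY H).2.1, h3⟩

theorem stepD (H : Hyp) : gensOK 98280 17 known0 = true ∧
    genGroup 98280 17 known0 = K ∧ permOf 98280 17 pd.1 pd.2 = pathPerm 98280 17 known0a csD := by
  obtain ⟨h1, h2, h3⟩ := seq_step_fwd 98280 17 known0a (stepA H).1 pd csD csD_ok pD_all
  exact ⟨h1, h2.trans (stepA H).2.1, h3⟩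

theorem mem_pa : pa ∈ known0 := by
  unfold known0 known0a
  simp only [List.mem_append, List.mem_singleton, or_true, true_or]
theorem mem_pd : pd ∈ known0 := by
  unfold known0
  simp only [List.mem_append, List.mem_singleton, or_true]
theorem mem_py : py ∈ known0 := by
  unfold known0 known0a known0y
  simp only [List.mem_append, List.mem_singleton, or_true, true_or]

theorem pairA (H : Hyp) : pairOK 98280 17 pa.1 pa.2 = true := gensOK_spec 98280 17 (stepD H).1 _ mem_pa
theorem paird (H : Hyp) : pairOK 98280 17 pd.1 pd.2 = true := gensOK_spec 98280 17 (stepD H).1 _ mem_pd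
theorem pairy (H : Hyp) : pairOK 98280 17 py.1 py.2 = true := gensOK_spec 98280 17 (stepD H).1 _ mem_py

/-! The three permutations are made opaque (`Classical.choose`): if the kernel or the elaborator could
unfold them down to the `dite` inside `permOf`, a failed syntactic match would make it evaluate `pairOK` on
all 98280 points. They are only ever rewritten by `pA_spec`, `pD_spec`, `pY_spec`. -/

theorem pA_ex : ∃ p : Equiv.Perm (Fin 98280), p = permOf 98280 17 pa.1 pa.2 := ⟨_, rfl⟩
theorem pD_ex : ∃ p : Equiv.Perm (Fin 98280), p = permOf 98280 17 pd.1 pd.2 := ⟨_, rfl⟩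
theorem pY_ex : ∃ p : Equiv.Perm (Fin 98280), p = permOf 98280 17 py.1 py.2 := ⟨_, rfl⟩

/-- the element of order 23 -/
noncomputable def pA : Equiv.Perm (Fin 98280) := Classical.choose pA_ex
/-- the element of order 11 -/
noncomputable def pD : Equiv.Perm (Fin 98280) := Classical.choose pD_ex
/-- the element of order 3 -/
noncomputable def pY : Equiv.Perm (Fin 98280) := Classical.choose pY_ex

theorem pA_spec : pA = permOf 98280 17 pa.1 pa.2 := Classical.choose_spec pA_ex
theorem pD_spec : pD = permOf 98280 17 pd.1 pd.2 := Classical.choose_spec pD_ex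
theorem pY_spec : pY = permOf 98280 17 py.1 py.2 := Classical.choose_spec pY_ex

theorem pA_mem (H : Hyp) : pA ∈ K := by
  rw [pA_spec, ← (stepD H).2.1]; exact Subgroup.subset_closure (mem_semGens 98280 17 mem_pa)
theorem pD_mem (H : Hyp) : pD ∈ K := by
  rw [pD_spec, ← (stepD H).2.1]; exact Subgroup.subset_closure (mem_semGens 98280 17 mem_pd)
theorem pY_mem (H : Hyp) : pY ∈ K := by
  rw [pY_spec, ← (stepD H).2.1]; exact Subgroup.subset_closure (mem_semGens 98280 17 mem_py)

theorem kn3_ok (H : Hyp) : gensOK 98280 17 kn3 = true := by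
  unfold gensOK kn3
  simp only [List.all_cons, List.all_nil, Bool.and_true, Bool.and_eq_true]
  exact ⟨pairA H, paird H, pairy H⟩

theorem kn3_sub : ∀ g ∈ kn3, g ∈ known0 := by
  intro g hg
  unfold kn3 at hg
  simp only [List.mem_cons, List.not_mem_nil, or_false] at hg
  rcases hg with rfl | rfl | rfl
  · exact mem_pa
  · exact mem_pd
  · exact mem_py

theorem kn3_le (H : Hyp) : genGroup 98280 17 kn3 ≤ K := by
  rw [← (stepD H).2.1]
  unfold genGroup
  apply Subgroup.closure_mono
  intro s hs
  obtain ⟨g, hg, rfl⟩ := List.mem_map.mp hs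
  exact mem_semGens 98280 17 (kn3_sub g hg)

theorem step3 (H : Hyp) : gensOK 98280 17 kn4 = true ∧
    genGroup 98280 17 kn4 = genGroup 98280 17 kn3 := by
  obtain ⟨h1, h2, -⟩ := seq_step_fwd 98280 17 kn3 (kn3_ok H) ps3 cs3 cs3_ok pS3_all
  exact ⟨h1, h2⟩

theorem step4 (H : Hyp) : gensOK 98280 17 kn5 = true ∧
    genGroup 98280 17 kn5 = genGroup 98280 17 kn3 := by
  obtain ⟨h1, h2, -⟩ := seq_step_fwd 98280 17 kn4 (step3 H).1 ps4 cs4 cs4_ok pS4_all
  exact ⟨h1, h2.trans (step3 H).2⟩

theorem step5 (H : Hyp) : gensOK 98280 17 kn6 = true ∧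
    genGroup 98280 17 kn6 = genGroup 98280 17 kn3 := by
  obtain ⟨h1, h2, -⟩ := seq_step_fwd 98280 17 kn5 (step4 H).1 ps5 cs5 cs5_ok pS5_all
  exact ⟨h1, h2.trans (step4 H).2⟩

theorem step6 (H : Hyp) : gensOK 98280 17 kn7 = true ∧
    genGroup 98280 17 kn7 = genGroup 98280 17 kn3 := by
  obtain ⟨h1, h2, -⟩ := seq_step_fwd 98280 17 kn6 (step5 H).1 ps6 cs6 cs6_ok pS6_all
  exact ⟨h1, h2.trans (step5 H).2⟩

theorem step7 (H : Hyp) : gensOK 98280 17 kn8 = true ∧
    genGroup 98280 17 kn8 = genGroup 98280 17 kn3 := by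
  obtain ⟨h1, h2, -⟩ := seq_step_fwd 98280 17 kn7 (step6 H).1 ps7 cs7 cs7_ok pS7_all
  exact ⟨h1, h2.trans (step6 H).2⟩

theorem step8 (H : Hyp) : gensOK 98280 17 kn9 = true ∧
    genGroup 98280 17 kn9 = genGroup 98280 17 kn3 := by
  obtain ⟨h1, h2, -⟩ := seq_step_fwd 98280 17 kn8 (step7 H).1 ps8 cs8 cs8_ok pS8_all
  exact ⟨h1, h2.trans (step7 H).2⟩

theorem step9 (H : Hyp) : gensOK 98280 17 kn10 = true ∧
    genGroup 98280 17 kn10 = genGroup 98280 17 kn3 := by
  obtain ⟨h1, h2, -⟩ := seq_step_fwd 98280 17 kn9 (step8 H).1 ps9 cs9 cs9_ok pS9_all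
  exact ⟨h1, h2.trans (step8 H).2⟩

theorem step10 (H : Hyp) : gensOK 98280 17 kn11 = true ∧
    genGroup 98280 17 kn11 = genGroup 98280 17 kn3 := by
  obtain ⟨h1, h2, -⟩ := seq_step_fwd 98280 17 kn10 (step9 H).1 ps10 cs10 cs10_ok pS10_all
  exact ⟨h1, h2.trans (step9 H).2⟩

theorem step11 (H : Hyp) : gensOK 98280 17 kn12 = true ∧
    genGroup 98280 17 kn12 = genGroup 98280 17 kn3 := by
  obtain ⟨h1, h2, -⟩ := seq_step_fwd 98280 17 kn11 (step10 H).1 ps11 cs11 cs11_ok pS11_all
  exact ⟨h1, h2.trans (step10 H).2⟩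

theorem known1_ok (H : Hyp) : gensOK 98280 17 known1 = true := (step11 H).1

theorem known1_grp (H : Hyp) : genGroup 98280 17 known1 = genGroup 98280 17 kn3 := (step11 H).2

theorem known1_le (H : Hyp) : genGroup 98280 17 known1 ≤ K := by
  rw [known1_grp H]; exact kn3_le H

/-! ## the chain -/
theorem lvl0_ok : levelOKT 98280 17 known1 7 [] (29795, tv0) = true :=
  levelOKT_of (by decide +kernel) (by decide +kernel) lv0_all
theorem lvl1_ok : levelOKT 98280 17 known1 7 [29795] (14316, tv1) = true :=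
  levelOKT_of (by decide +kernel) (by decide +kernel) lv1_all
theorem lvl2_ok : levelOKT 98280 17 known1 7 [14316, 29795] (17197, tv2) = true :=
  levelOKT_of (by decide +kernel) (by decide +kernel) lv2_all
theorem lvl3_ok : levelOKT 98280 17 known1 7 [17197, 14316, 29795] (31219, tv3) = true :=
  levelOKT_of (by decide +kernel) (by decide +kernel) lv3_all
theorem lvl4_ok : levelOKT 98280 17 known1 7 [31219, 17197, 14316, 29795] (83347, tv4) = true :=
  levelOKT_of (by decide +kernel) (by decide +kernel) lv4_all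

theorem chain_ok : chainOKT 98280 17 known1 7 [] levels = true :=
  chainOKT_cons lvl0_ok (chainOKT_cons lvl1_ok (chainOKT_cons lvl2_ok (chainOKT_cons lvl3_ok (chainOKT_cons lvl4_ok (chainOKT_nil 98280 17 known1 7 _)))))

theorem size_raw : sizeT 98280 17 levels = 98280 * (47104 * (15400 * (5832 * (10 * 1)))) :=
  sizeT_cons (orbT_length_of ct0_all) (sizeT_cons (orbT_length_of ct1_all) (sizeT_cons (orbT_length_of ct2_all) (sizeT_cons (orbT_length_of ct3_all) (sizeT_cons (orbT_length_of ct4_all) (sizeT_nil 98280 17)))))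

theorem size_eq : sizeT 98280 17 levels = 4157776806543360000 := by
  rw [size_raw]

/-- the chain certifies the order and gives sifting -/
theorem main1 (H : Hyp) : genGroup 98280 17 known1 = K ∧ Nat.card ↥K = 4157776806543360000 ∧
    ∀ z ∈ K, Sifts (semTs 98280 17 known1 7 levels) z := by
  obtain ⟨K0, hK0, hN⟩ := H.2
  obtain ⟨h1, h2, h3⟩ := tree_main 98280 17 known1 7 (known1_ok H) levels chain_ok K0
    ((known1_le H).trans hK0) (by rw [size_eq]; exact hN)
  have hK : K = K0 := le_antisymm hK0 (by rw [← h1]; exact known1_le H)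
  rw [← hK] at h1 h2 h3
  exact ⟨h1, by rw [h2, size_eq], h3⟩

/-- `a`, `d`, `y` generate `K` -/
theorem ady_grp (H : Hyp) : genGroup 98280 17 kn3 = K := by
  rw [← known1_grp H]; exact (main1 H).1

end Cfsg.Agent.Lib.Helper27.Co1O
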