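import Cfsg.Agent.Lib.Helper27.Co1O.Defs

/-! # S2069: sliced kernel computations (path certificate of the strong generator 3) -/

set_option autoImplicit false
set_option maxRecDepth 100000
set_option Elab.async false

namespace Cfsg.Agent.Lib.Helper27.Co1O

open Cfsg.Agent.Lib.Helper28.BSGS Cfsg.Agent.Lib.Helper22.SuzOut Cfsg.Agent.Lib.Helper27.TreeSift Cfsg.Agent.Lib.Helper27.Big

theorem pS3_c0 : rangeAll chk3 0 1501 = true := by decide +kernel

theorem pS3_c1 : rangeAll chk3 1501 1509 = true := by decide +kernel

theorem pS3_c2 : rangeAll chk3 3010 1527 = true := by decide +kernel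

theorem pS3_c3 : rangeAll chk3 4537 1552 = true := by decide +kernel

theorem pS3_c4 : rangeAll chk3 6089 1571 = true := by decide +kernel

theorem pS3_c5 : rangeAll chk3 7660 1599 = true := by decide +kernel

theorem pS3_c6 : rangeAll chk3 9259 1523 = true := by decide +kernel

theorem pS3_c7 : rangeAll chk3 10782 1664 = true := by decide +kernel

theorem pS3_c8 : rangeAll chk3 12446 1611 = true := by decide +kernel

theorem pS3_c9 : rangeAll chk3 14057 1650 = true := by decide +kernel

theorem pS3_c10 : rangeAll chk3 15707 1631 = true := by decide +kernel

theorem pS3_c11 : rangeAll chk3 17338 1729 = true := by decide +kernel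

theorem pS3_c12 : rangeAll chk3 19067 1746 = true := by decide +kernel

theorem pS3_c13 : rangeAll chk3 20813 1757 = true := by decide +kernel

theorem pS3_c14 : rangeAll chk3 22570 1758 = true := by decide +kernel

theorem pS3_c15 : rangeAll chk3 24328 1853 = true := by decide +kernel

theorem pS3_c16 : rangeAll chk3 26181 1853 = true := by decide +kernel

theorem pS3_c17 : rangeAll chk3 28034 1829 = true := by decide +kernel

theorem pS3_c18 : rangeAll chk3 29863 1991 = true := by decide +kernel

theorem pS3_c19 : rangeAll chk3 31854 1948 = true := by decide +kernel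

theorem pS3_c20 : rangeAll chk3 33802 1930 = true := by decide +kernel

theorem pS3_c21 : rangeAll chk3 35732 1986 = true := by decide +kernel

theorem pS3_c22 : rangeAll chk3 37718 1980 = true := by decide +kernel

theorem pS3_c23 : rangeAll chk3 39698 2077 = true := by decide +kernel

theorem pS3_c24 : rangeAll chk3 41775 2083 = true := by decide +kernel

theorem pS3_c25 : rangeAll chk3 43858 2144 = true := by decide +kernel

theorem pS3_c26 : rangeAll chk3 46002 2084 = true := by decide +kernel

theorem pS3_c27 : rangeAll chk3 48086 2250 = true := by decide +kernel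

theorem pS3_c28 : rangeAll chk3 50336 2438 = true := by decide +kernel

theorem pS3_c29 : rangeAll chk3 52774 2373 = true := by decide +kernel

theorem pS3_c30 : rangeAll chk3 55147 2441 = true := by decide +kernel

theorem pS3_c31 : rangeAll chk3 57588 2551 = true := by decide +kernel

theorem pS3_c32 : rangeAll chk3 60139 2508 = true := by decide +kernel

theorem pS3_c33 : rangeAll chk3 62647 2794 = true := by decide +kernel

theorem pS3_c34 : rangeAll chk3 65441 2632 = true := by decide +kernel

theorem pS3_c35 : rangeAll chk3 68073 2767 = true := by decide +kernel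

theorem pS3_c36 : rangeAll chk3 70840 2893 = true := by decide +kernel

theorem pS3_c37 : rangeAll chk3 73733 3144 = true := by decide +kernel

theorem pS3_c38 : rangeAll chk3 76877 3239 = true := by decide +kernel

theorem pS3_c39 : rangeAll chk3 80116 3401 = true := by decide +kernel

end Cfsg.Agent.Lib.Helper27.Co1O
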