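import Cfsg.Agent.Lib.Helper27.Co1O.Defs

/-! # S2069: sliced kernel computations (path certificate of the strong generator 6) -/

set_option autoImplicit false
set_option maxRecDepth 100000
set_option Elab.async false

namespace Cfsg.Agent.Lib.Helper27.Co1O

open Cfsg.Agent.Lib.Helper28.BSGS Cfsg.Agent.Lib.Helper22.SuzOut Cfsg.Agent.Lib.Helper27.TreeSift Cfsg.Agent.Lib.Helper27.Big

theorem pS6_c40 : rangeAll chk6 28615 768 = true := by decide +kernel

theorem pS6_c41 : rangeAll chk6 29383 742 = true := by decide +kernel

theorem pS6_c42 : rangeAll chk6 30125 759 = true := by decide +kernel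

theorem pS6_c43 : rangeAll chk6 30884 768 = true := by decide +kernel

theorem pS6_c44 : rangeAll chk6 31652 769 = true := by decide +kernel

theorem pS6_c45 : rangeAll chk6 32421 766 = true := by decide +kernel

theorem pS6_c46 : rangeAll chk6 33187 780 = true := by decide +kernel

theorem pS6_c47 : rangeAll chk6 33967 756 = true := by decide +kernel

theorem pS6_c48 : rangeAll chk6 34723 774 = true := by decide +kernel

theorem pS6_c49 : rangeAll chk6 35497 785 = true := by decide +kernel

theorem pS6_c50 : rangeAll chk6 36282 770 = true := by decide +kernel

theorem pS6_c51 : rangeAll chk6 37052 786 = true := by decide +kernel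

theorem pS6_c52 : rangeAll chk6 37838 796 = true := by decide +kernel

theorem pS6_c53 : rangeAll chk6 38634 779 = true := by decide +kernel

theorem pS6_c54 : rangeAll chk6 39413 782 = true := by decide +kernel

theorem pS6_c55 : rangeAll chk6 40195 792 = true := by decide +kernel

theorem pS6_c56 : rangeAll chk6 40987 784 = true := by decide +kernel

theorem pS6_c57 : rangeAll chk6 41771 789 = true := by decide +kernel

theorem pS6_c58 : rangeAll chk6 42560 835 = true := by decide +kernel

theorem pS6_c59 : rangeAll chk6 43395 826 = true := by decide +kernel

theorem pS6_c60 : rangeAll chk6 44221 805 = true := by decide +kernel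

theorem pS6_c61 : rangeAll chk6 45026 770 = true := by decide +kernel

theorem pS6_c62 : rangeAll chk6 45796 776 = true := by decide +kernel

theorem pS6_c63 : rangeAll chk6 46572 834 = true := by decide +kernel

theorem pS6_c64 : rangeAll chk6 47406 832 = true := by decide +kernel

theorem pS6_c65 : rangeAll chk6 48238 833 = true := by decide +kernel

theorem pS6_c66 : rangeAll chk6 49071 814 = true := by decide +kernel

theorem pS6_c67 : rangeAll chk6 49885 817 = true := by decide +kernel

theorem pS6_c68 : rangeAll chk6 50702 834 = true := by decide +kernel

theorem pS6_c69 : rangeAll chk6 51536 844 = true := by decide +kernel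

theorem pS6_c70 : rangeAll chk6 52380 819 = true := by decide +kernel

theorem pS6_c71 : rangeAll chk6 53199 798 = true := by decide +kernel

theorem pS6_c72 : rangeAll chk6 53997 831 = true := by decide +kernel

theorem pS6_c73 : rangeAll chk6 54828 828 = true := by decide +kernel

theorem pS6_c74 : rangeAll chk6 55656 865 = true := by decide +kernel

theorem pS6_c75 : rangeAll chk6 56521 846 = true := by decide +kernel

theorem pS6_c76 : rangeAll chk6 57367 875 = true := by decide +kernel

theorem pS6_c77 : rangeAll chk6 58242 862 = true := by decide +kernel

theorem pS6_c78 : rangeAll chk6 59104 864 = true := by decide +kernel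

theorem pS6_c79 : rangeAll chk6 59968 837 = true := by decide +kernel

end Cfsg.Agent.Lib.Helper27.Co1O
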