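import Cfsg.Agent.Lib.Helper27.Co1O.Defs

/-! # S2069: sliced kernel computations (path certificate of the strong generator 9) -/

set_option autoImplicit false
set_option maxRecDepth 100000
set_option Elab.async false

namespace Cfsg.Agent.Lib.Helper27.Co1O

open Cfsg.Agent.Lib.Helper28.BSGS Cfsg.Agent.Lib.Helper22.SuzOut Cfsg.Agent.Lib.Helper27.TreeSift Cfsg.Agent.Lib.Helper27.Big

theorem pS9_c40 : rangeAll chk9 26250 712 = true := by decide +kernel

theorem pS9_c41 : rangeAll chk9 26962 683 = true := by decide +kernel

theorem pS9_c42 : rangeAll chk9 27645 699 = true := by decide +kernel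

theorem pS9_c43 : rangeAll chk9 28344 715 = true := by decide +kernel

theorem pS9_c44 : rangeAll chk9 29059 689 = true := by decide +kernel

theorem pS9_c45 : rangeAll chk9 29748 686 = true := by decide +kernel

theorem pS9_c46 : rangeAll chk9 30434 677 = true := by decide +kernel

theorem pS9_c47 : rangeAll chk9 31111 722 = true := by decide +kernel

theorem pS9_c48 : rangeAll chk9 31833 720 = true := by decide +kernel

theorem pS9_c49 : rangeAll chk9 32553 700 = true := by decide +kernel

theorem pS9_c50 : rangeAll chk9 33253 707 = true := by decide +kernel

theorem pS9_c51 : rangeAll chk9 33960 705 = true := by decide +kernel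

theorem pS9_c52 : rangeAll chk9 34665 721 = true := by decide +kernel

theorem pS9_c53 : rangeAll chk9 35386 705 = true := by decide +kernel

theorem pS9_c54 : rangeAll chk9 36091 717 = true := by decide +kernel

theorem pS9_c55 : rangeAll chk9 36808 720 = true := by decide +kernel

theorem pS9_c56 : rangeAll chk9 37528 734 = true := by decide +kernel

theorem pS9_c57 : rangeAll chk9 38262 733 = true := by decide +kernel

theorem pS9_c58 : rangeAll chk9 38995 714 = true := by decide +kernel

theorem pS9_c59 : rangeAll chk9 39709 723 = true := by decide +kernel

theorem pS9_c60 : rangeAll chk9 40432 759 = true := by decide +kernel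

theorem pS9_c61 : rangeAll chk9 41191 744 = true := by decide +kernel

theorem pS9_c62 : rangeAll chk9 41935 744 = true := by decide +kernel

theorem pS9_c63 : rangeAll chk9 42679 735 = true := by decide +kernel

theorem pS9_c64 : rangeAll chk9 43414 741 = true := by decide +kernel

theorem pS9_c65 : rangeAll chk9 44155 763 = true := by decide +kernel

theorem pS9_c66 : rangeAll chk9 44918 727 = true := by decide +kernel

theorem pS9_c67 : rangeAll chk9 45645 718 = true := by decide +kernel

theorem pS9_c68 : rangeAll chk9 46363 734 = true := by decide +kernel

theorem pS9_c69 : rangeAll chk9 47097 739 = true := by decide +kernel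

theorem pS9_c70 : rangeAll chk9 47836 744 = true := by decide +kernel

theorem pS9_c71 : rangeAll chk9 48580 729 = true := by decide +kernel

theorem pS9_c72 : rangeAll chk9 49309 750 = true := by decide +kernel

theorem pS9_c73 : rangeAll chk9 50059 756 = true := by decide +kernel

theorem pS9_c74 : rangeAll chk9 50815 793 = true := by decide +kernel

theorem pS9_c75 : rangeAll chk9 51608 767 = true := by decide +kernel

theorem pS9_c76 : rangeAll chk9 52375 769 = true := by decide +kernel

theorem pS9_c77 : rangeAll chk9 53144 778 = true := by decide +kernel

theorem pS9_c78 : rangeAll chk9 53922 762 = true := by decide +kernel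

theorem pS9_c79 : rangeAll chk9 54684 760 = true := by decide +kernel

end Cfsg.Agent.Lib.Helper27.Co1O
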