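import Cfsg.Agent.Lib.Helper27.Co1O.Defs0

/-! # S2069: sliced kernel computations (path certificate of y) -/

set_option autoImplicit false
set_option maxRecDepth 100000
set_option Elab.async false

namespace Cfsg.Agent.Lib.Helper27.Co1O

open Cfsg.Agent.Lib.Helper28.BSGS Cfsg.Agent.Lib.Helper22.SuzOut Cfsg.Agent.Lib.Helper27.TreeSift Cfsg.Agent.Lib.Helper27.Big

theorem pY_c0 : rangeAll chkY 0 769 = true := by decide +kernel

theorem pY_c1 : rangeAll chkY 769 791 = true := by decide +kernel

theorem pY_c2 : rangeAll chkY 1560 801 = true := by decide +kernel

theorem pY_c3 : rangeAll chkY 2361 797 = true := by decide +kernel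

theorem pY_c4 : rangeAll chkY 3158 801 = true := by decide +kernel

theorem pY_c5 : rangeAll chkY 3959 800 = true := by decide +kernel

theorem pY_c6 : rangeAll chkY 4759 805 = true := by decide +kernel

theorem pY_c7 : rangeAll chkY 5564 824 = true := by decide +kernel

theorem pY_c8 : rangeAll chkY 6388 816 = true := by decide +kernel

theorem pY_c9 : rangeAll chkY 7204 804 = true := by decide +kernel

theorem pY_c10 : rangeAll chkY 8008 815 = true := by decide +kernel

theorem pY_c11 : rangeAll chkY 8823 835 = true := by decide +kernel

theorem pY_c12 : rangeAll chkY 9658 831 = true := by decide +kernel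

theorem pY_c13 : rangeAll chkY 10489 845 = true := by decide +kernel

theorem pY_c14 : rangeAll chkY 11334 826 = true := by decide +kernel

theorem pY_c15 : rangeAll chkY 12160 854 = true := by decide +kernel

theorem pY_c16 : rangeAll chkY 13014 855 = true := by decide +kernel

theorem pY_c17 : rangeAll chkY 13869 855 = true := by decide +kernel

theorem pY_c18 : rangeAll chkY 14724 884 = true := by decide +kernel

theorem pY_c19 : rangeAll chkY 15608 885 = true := by decide +kernel

theorem pY_c20 : rangeAll chkY 16493 875 = true := by decide +kernel

theorem pY_c21 : rangeAll chkY 17368 884 = true := by decide +kernel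

theorem pY_c22 : rangeAll chkY 18252 868 = true := by decide +kernel

theorem pY_c23 : rangeAll chkY 19120 866 = true := by decide +kernel

theorem pY_c24 : rangeAll chkY 19986 888 = true := by decide +kernel

theorem pY_c25 : rangeAll chkY 20874 860 = true := by decide +kernel

theorem pY_c26 : rangeAll chkY 21734 880 = true := by decide +kernel

theorem pY_c27 : rangeAll chkY 22614 858 = true := by decide +kernel

theorem pY_c28 : rangeAll chkY 23472 878 = true := by decide +kernel

theorem pY_c29 : rangeAll chkY 24350 896 = true := by decide +kernel

theorem pY_c30 : rangeAll chkY 25246 902 = true := by decide +kernel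

theorem pY_c31 : rangeAll chkY 26148 924 = true := by decide +kernel

theorem pY_c32 : rangeAll chkY 27072 913 = true := by decide +kernel

theorem pY_c33 : rangeAll chkY 27985 904 = true := by decide +kernel

theorem pY_c34 : rangeAll chkY 28889 903 = true := by decide +kernel

theorem pY_c35 : rangeAll chkY 29792 897 = true := by decide +kernel

theorem pY_c36 : rangeAll chkY 30689 924 = true := by decide +kernel

theorem pY_c37 : rangeAll chkY 31613 915 = true := by decide +kernel

theorem pY_c38 : rangeAll chkY 32528 932 = true := by decide +kernel

theorem pY_c39 : rangeAll chkY 33460 976 = true := by decide +kernel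

end Cfsg.Agent.Lib.Helper27.Co1O
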