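import Cfsg.Agent.Lib.Helper27.Co1O.Defs

/-! # S2069: sliced kernel computations (candidates for the centraliser of a) -/

set_option autoImplicit false
set_option maxRecDepth 100000
set_option Elab.async false

namespace Cfsg.Agent.Lib.Helper27.Co1O

open Cfsg.Agent.Lib.Helper28.BSGS Cfsg.Agent.Lib.Helper22.SuzOut Cfsg.Agent.Lib.Helper27.TreeSift Cfsg.Agent.Lib.Helper27.Big

theorem tA_c0 : rangeAll candA 0 240 = true := by decide +kernel

theorem tA_c1 : rangeAll candA 240 251 = true := by decide +kernel

theorem tA_c2 : rangeAll candA 491 235 = true := by decide +kernel

theorem tA_c3 : rangeAll candA 726 248 = true := by decide +kernel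

theorem tA_c4 : rangeAll candA 974 263 = true := by decide +kernel

theorem tA_c5 : rangeAll candA 1237 244 = true := by decide +kernel

theorem tA_c6 : rangeAll candA 1481 228 = true := by decide +kernel

theorem tA_c7 : rangeAll candA 1709 237 = true := by decide +kernel

theorem tA_c8 : rangeAll candA 1946 234 = true := by decide +kernel

theorem tA_c9 : rangeAll candA 2180 236 = true := by decide +kernel

theorem tA_c10 : rangeAll candA 2416 256 = true := by decide +kernel

theorem tA_c11 : rangeAll candA 2672 256 = true := by decide +kernel

theorem tA_c12 : rangeAll candA 2928 256 = true := by decide +kernel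

theorem tA_c13 : rangeAll candA 3184 239 = true := by decide +kernel

theorem tA_c14 : rangeAll candA 3423 237 = true := by decide +kernel

theorem tA_c15 : rangeAll candA 3660 255 = true := by decide +kernel

theorem tA_c16 : rangeAll candA 3915 234 = true := by decide +kernel

theorem tA_c17 : rangeAll candA 4149 249 = true := by decide +kernel

theorem tA_c18 : rangeAll candA 4398 241 = true := by decide +kernel

theorem tA_c19 : rangeAll candA 4639 236 = true := by decide +kernel

theorem tA_c20 : rangeAll candA 4875 242 = true := by decide +kernel

theorem tA_c21 : rangeAll candA 5117 248 = true := by decide +kernel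

theorem tA_c22 : rangeAll candA 5365 242 = true := by decide +kernel

theorem tA_c23 : rangeAll candA 5607 253 = true := by decide +kernel

theorem tA_c24 : rangeAll candA 5860 246 = true := by decide +kernel

theorem tA_c25 : rangeAll candA 6106 253 = true := by decide +kernel

theorem tA_c26 : rangeAll candA 6359 250 = true := by decide +kernel

theorem tA_c27 : rangeAll candA 6609 256 = true := by decide +kernel

theorem tA_c28 : rangeAll candA 6865 251 = true := by decide +kernel

theorem tA_c29 : rangeAll candA 7116 254 = true := by decide +kernel

theorem tA_c30 : rangeAll candA 7370 255 = true := by decide +kernel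

theorem tA_c31 : rangeAll candA 7625 253 = true := by decide +kernel

theorem tA_c32 : rangeAll candA 7878 256 = true := by decide +kernel

theorem tA_c33 : rangeAll candA 8134 268 = true := by decide +kernel

theorem tA_c34 : rangeAll candA 8402 227 = true := by decide +kernel

theorem tA_c35 : rangeAll candA 8629 268 = true := by decide +kernel

theorem tA_c36 : rangeAll candA 8897 270 = true := by decide +kernel

theorem tA_c37 : rangeAll candA 9167 235 = true := by decide +kernel

theorem tA_c38 : rangeAll candA 9402 241 = true := by decide +kernel

theorem tA_c39 : rangeAll candA 9643 236 = true := by decide +kernel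

end Cfsg.Agent.Lib.Helper27.Co1O
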