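import Cfsg.Agent.Lib.Helper27.Co1O.Defs

/-! # S2069: sliced kernel computations (candidates for the image of y) -/

set_option autoImplicit false
set_option maxRecDepth 100000
set_option Elab.async false

namespace Cfsg.Agent.Lib.Helper27.Co1O

open Cfsg.Agent.Lib.Helper28.BSGS Cfsg.Agent.Lib.Helper22.SuzOut Cfsg.Agent.Lib.Helper27.TreeSift Cfsg.Agent.Lib.Helper27.Big

theorem tD_c120 : rangeAll candD 26145 230 = true := by decide +kernel

theorem tD_c121 : rangeAll candD 26375 237 = true := by decide +kernel

theorem tD_c122 : rangeAll candD 26612 203 = true := by decide +kernel

theorem tD_c123 : rangeAll candD 26815 217 = true := by decide +kernel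

theorem tD_c124 : rangeAll candD 27032 216 = true := by decide +kernel

theorem tD_c125 : rangeAll candD 27248 190 = true := by decide +kernel

theorem tD_c126 : rangeAll candD 27438 239 = true := by decide +kernel

theorem tD_c127 : rangeAll candD 27677 223 = true := by decide +kernel

theorem tD_c128 : rangeAll candD 27900 217 = true := by decide +kernel

theorem tD_c129 : rangeAll candD 28117 235 = true := by decide +kernel

theorem tD_c130 : rangeAll candD 28352 230 = true := by decide +kernel

theorem tD_c131 : rangeAll candD 28582 239 = true := by decide +kernel

theorem tD_c132 : rangeAll candD 28821 236 = true := by decide +kernel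

theorem tD_c133 : rangeAll candD 29057 212 = true := by decide +kernel

theorem tD_c134 : rangeAll candD 29269 240 = true := by decide +kernel

theorem tD_c135 : rangeAll candD 29509 231 = true := by decide +kernel

theorem tD_c136 : rangeAll candD 29740 232 = true := by decide +kernel

theorem tD_c137 : rangeAll candD 29972 233 = true := by decide +kernel

theorem tD_c138 : rangeAll candD 30205 253 = true := by decide +kernel

theorem tD_c139 : rangeAll candD 30458 250 = true := by decide +kernel

theorem tD_c140 : rangeAll candD 30708 231 = true := by decide +kernel

theorem tD_c141 : rangeAll candD 30939 237 = true := by decide +kernel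

theorem tD_c142 : rangeAll candD 31176 223 = true := by decide +kernel

theorem tD_c143 : rangeAll candD 31399 244 = true := by decide +kernel

theorem tD_c144 : rangeAll candD 31643 187 = true := by decide +kernel

theorem tD_c145 : rangeAll candD 31830 233 = true := by decide +kernel

theorem tD_c146 : rangeAll candD 32063 244 = true := by decide +kernel

theorem tD_c147 : rangeAll candD 32307 256 = true := by decide +kernel

theorem tD_c148 : rangeAll candD 32563 248 = true := by decide +kernel

theorem tD_c149 : rangeAll candD 32811 228 = true := by decide +kernel

theorem tD_c150 : rangeAll candD 33039 232 = true := by decide +kernel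

theorem tD_c151 : rangeAll candD 33271 254 = true := by decide +kernel

theorem tD_c152 : rangeAll candD 33525 239 = true := by decide +kernel

theorem tD_c153 : rangeAll candD 33764 220 = true := by decide +kernel

theorem tD_c154 : rangeAll candD 33984 243 = true := by decide +kernel

theorem tD_c155 : rangeAll candD 34227 238 = true := by decide +kernel

theorem tD_c156 : rangeAll candD 34465 192 = true := by decide +kernel

theorem tD_c157 : rangeAll candD 34657 237 = true := by decide +kernel

theorem tD_c158 : rangeAll candD 34894 218 = true := by decide +kernel

theorem tD_c159 : rangeAll candD 35112 230 = true := by decide +kernel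

end Cfsg.Agent.Lib.Helper27.Co1O
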